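import Groth.Agent.H16Derived.Thomason.Approx
import Groth.Agent.H16Derived.QCohD.Tensor
import Groth.Agent.H16Derived.QCohD.RpushUnb
import Groth.Agent.H16Derived.ProjFormula.Free
import Mathlib.Algebra.Homology.HomotopyCategory.DegreewiseSplit
import Mathlib.Algebra.Homology.DerivedCategory.ShortExact

/-!
# Pseudo-coherence of `Rπ_*(E ⊗^L K)` tested on perfect objects
-/

set_option autoImplicit false
set_option linter.style.haveILetI false

universe u

open CategoryTheory CategoryTheory.Limits CategoryTheory.Pretriangulated AlgebraicGeometry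

attribute [local instance] HasDerivedCategory.standard

namespace Groth.Agent.H16Derived.Thomason

open Groth.Agent.H16Derived.KFlat Groth.Agent.H16Derived.KFlat.Stalk

variable {X : Scheme.{u}}

/-- `Q(L ⊗ K) ≅ Q L ⊗^L K` for `L` K-flat as a left factor. -/
noncomputable def tI (K : CochainComplex X.Modules ℤ) [DCoh.HasLTensorCx K]
    (L : CochainComplex X.Modules ℤ) (hL : lkflat X L) :
    DerivedCategory.Q.obj ((tot (DCoh.tensorBi (X := X)).flip K).obj L) ≅
      (DCoh.LTensorCx K).obj (DerivedCategory.Q.obj L) :=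
  DerivedCategory.Q.mapIso ((tensorCxFlipIso K).app L) ≪≫ ((ltensorCxIso K).app ⟨L, hL⟩).symm

theorem isLE_ltensorCx (K : CochainComplex X.Modules ℤ) (b : ℤ) [(DCoh.toD X K).IsLE b]
    [DCoh.HasLTensorCx K] {C : DCoh.D X} (c : ℤ) [C.IsLE c] :
    ((DCoh.LTensorCx K).obj C).IsLE (c + b) := by
  obtain ⟨G, hG, ⟨e⟩⟩ := C.exists_iso_Q_obj_of_isLE c
  haveI := hG
  obtain ⟨P, α, hP, hflat, hα⟩ := exists_flat_resolution G c
  haveI := hP
  have hPf : lkflat X P := lkflat_of_boundedAbove P c (fun q hq => P.isZero_of_isStrictlyLE c q hq) hflat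
  haveI := isIso_Q_map α hα
  haveI : K.IsLE b := (DerivedCategory.isLE_Q_obj_iff K b).1 ‹_›
  haveI : QuasiIso (K.ιTruncLE b) := by
    refine ⟨fun q => ?_⟩
    rcases le_or_gt q b with hqb | hqb
    · exact CochainComplex.quasiIsoAt_ιTruncLE K b q hqb
    · rw [quasiIsoAt_iff_isIso_homologyMap]
      exact isIso_of_source_target_iso_zero _ ((K.truncLE b).exactAt_of_isLE b q hqb).isZero_homology.isoZero
        (K.exactAt_of_isLE b q hqb).isZero_homology.isoZero
  let K' : CochainComplex X.Modules ℤ := K.truncLE b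
  haveI : CochainComplex.IsStrictlyLE K' b := by infer_instance
  haveI hq := quasiIso_tot_map_of_isKFlat_left (DCoh.tensorBi (X := X)) P
    (CochainComplex.ιTruncLE K b)
    fun W hW => acyclic_tot_of_isKFlat_flip hPf hW
  haveI : CochainComplex.IsStrictlyLE ((tot (DCoh.tensorBi (X := X)) P).obj K') (c + b) := by
    refine (CochainComplex.isStrictlyLE_iff _ _).2 fun n hn => (IsZero.iff_id_eq_zero _).2 ?_
    refine HomologicalComplex.mapBifunctor.hom_ext fun p q h => ?_
    have h' : p + q = n := h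
    by_cases hp : c < p
    · exact ((((DCoh.tensorBi (X := X)).map_isZero (P.isZero_of_isStrictlyLE c p hp)).obj _)).eq_of_src _ _
    · exact (((DCoh.tensorBi (X := X)).obj (P.X p)).map_isZero
        (K'.isZero_of_isStrictlyLE b q (by omega))).eq_of_src _ _
  haveI := isIso_Q_map _ hq
  let i : DerivedCategory.Q.obj ((tot (DCoh.tensorBi (X := X)) P).obj K') ≅ (DCoh.LTensorCx K).obj C :=
    asIso (DerivedCategory.Q.map ((tot (DCoh.tensorBi (X := X)) P).map
      (CochainComplex.ιTruncLE K b))) ≪≫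
      ((ltensorCxIso K).app ⟨P, hPf⟩).symm ≪≫
      (DCoh.LTensorCx K).mapIso (asIso (DerivedCategory.Q.map α) ≪≫ e.symm)
  exact ⟨(DerivedCategory.TStructure.t.le (c + b)).prop_of_iso i
    (inferInstance : DerivedCategory.IsLE (DerivedCategory.Q.obj ((tot (DCoh.tensorBi (X := X)) P).obj K')) (c + b)).le⟩

theorem exists_res_map {P E : DCoh.D X} (α : P ⟶ E) :
    ∃ (A B : CochainComplex X.Modules ℤ) (g : A ⟶ B) (eA : DerivedCategory.Q.obj A ≅ P)
      (eB : DerivedCategory.Q.obj B ≅ E), lkflat X A ∧ lkflat X B ∧ DerivedCategory.Q.map g ≫ eB.hom = eA.hom ≫ α := by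
  let P₀ := DerivedCategory.Q.objPreimage P
  let E₀ := DerivedCategory.Q.objPreimage E
  let p : DerivedCategory.Q.obj P₀ ≅ P := DerivedCategory.Q.objObjPreimageIso P
  let q : DerivedCategory.Q.obj E₀ ≅ E := DerivedCategory.Q.objObjPreimageIso E
  obtain ⟨C, s, hs, g, hg⟩ := DerivedCategory.right_fac (p.hom ≫ α ≫ q.inv)
  haveI := hs
  haveI := isIso_Q_map ((resψ (X := X)).app C) (quasiIso_resψ C)
  haveI := isIso_Q_map ((resψ (X := X)).app E₀) (quasiIso_resψ E₀)
  refine ⟨(res (X := X)).obj C, (res (X := X)).obj E₀, (res (X := X)).map g,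
    asIso (DerivedCategory.Q.map ((resψ (X := X)).app C)) ≪≫ asIso (DerivedCategory.Q.map s) ≪≫ p,
    asIso (DerivedCategory.Q.map ((resψ (X := X)).app E₀)) ≪≫ q, isKFlat_flip_res C, isKFlat_flip_res E₀, ?_⟩
  have h := congrArg DerivedCategory.Q.map ((resψ (X := X)).naturality g)
  rw [Functor.map_comp, Functor.map_comp] at h
  simp only [Iso.trans_hom, asIso_hom, Category.assoc]
  refine (Category.assoc _ _ _).symm.trans ((congrArg (· ≫ q.hom) h).trans ?_)
  have hg' : DerivedCategory.Q.map s ≫ p.hom ≫ α ≫ q.inv = DerivedCategory.Q.map g := by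
    rw [hg, IsIso.hom_inv_id_assoc]
  rw [Category.assoc]
  show _ ≫ DerivedCategory.Q.map g ≫ q.hom = _
  rw [← hg']
  simp

variable [CompactSpace X] [QuasiSeparatedSpace X] {S : Scheme.{u}} [CompactSpace S]
  (π : X ⟶ S) [DCoh.HasRpush π]

theorem isPseudoCoherentD_rpush_ltensor [QuasiCompact π] [QuasiSeparated π]
    (K : CochainComplex X.Modules ℤ) (hK : DCoh.IsQCohD (DCoh.toD X K)) (b : ℤ)
    [(DCoh.toD X K).IsLE b] [DCoh.HasLTensorCx K]
    (h : ∀ E : DCoh.D X, DCoh.IsPerfect E → ∀ m : ℤ,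
      DCoh.IsPseudoCoherentD m ((DCoh.Rpush π).obj ((DCoh.LTensorCx K).obj E)))
    {E : DCoh.D X} (hE : ∀ m : ℤ, DCoh.IsPseudoCoherentD m E) (hEq : DCoh.IsQCohD E) (m : ℤ) :
    DCoh.IsPseudoCoherentD m ((DCoh.Rpush π).obj ((DCoh.LTensorCx K).obj E)) := by
  letI := rpushCommShift π
  haveI := rpush_isTriangulated π
  obtain ⟨r, hr⟩ := exists_hasAppr (X := X) (Set.univ : Set X) isClosed_univ (by simp)
  obtain ⟨N, hN⟩ := QCohD.exists_bound π
  let μ : ℤ := m - b - N
  obtain ⟨P, C₀, α, p₀, w₀, hT₀, hP, hC₀⟩ := hr μ E hEq (hE _) fun i _ => Set.subset_univ _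
  obtain ⟨A, B, g, eA, eB, hA, hB, hg⟩ := exists_res_map α
  let C := CochainComplex.mappingCone g
  have hA1 : lkflat X (A⟦(1 : ℤ)⟧) := IsKFlat.shift hA 1
  have hC : lkflat X C := IsKFlat.mappingCone g hA hB
  let R := DCoh.Rpush π
  let T := tot (DCoh.tensorBi (X := X)).flip K
  let S₀ := CochainComplex.mappingCone.triangleRotateShortComplex g
  have hsplit : ∀ n, Nonempty ((S₀.map T).map (HomologicalComplex.eval X.Modules (ComplexShape.up ℤ) n)).Splitting :=
    fun n => ProjFormula.nonempty_splitting_tot (DCoh.tensorBi (X := X)).flip K S₀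
      (fun p q => (CochainComplex.mappingCone.triangleRotateShortComplexSplitting g q).map _) n
  have hSES : (S₀.map T).ShortExact :=
    HomologicalComplex.shortExact_of_degreewise_shortExact _ fun n => (hsplit n).some.shortExact
  have hd := R.map_distinguished _ (DerivedCategory.triangleOfSES_distinguished hSES)
  let iC : DerivedCategory.Q.obj C ≅ C₀ :=
    isoTriangleOfIso₁₂ _ _ (DerivedCategory.mappingCone_triangle_distinguished g) hT₀ eA eB hg |> Triangle.π₃.mapIso
  haveI hCle : DerivedCategory.IsLE (DerivedCategory.Q.obj C) (μ - 1) :=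
    ⟨(DerivedCategory.TStructure.t.le (μ - 1)).prop_of_iso iC.symm hC₀.le⟩
  have hCq : DCoh.IsQCohD (DerivedCategory.Q.obj C) := QCohD.isQCohD_iso iC.symm
    (QCohD.AffineUnit.isQCohD_obj₃ hT₀ hP.pq.1 hEq)
  haveI := isLE_ltensorCx K b (C := DerivedCategory.Q.obj C) (μ - 1)
  have hRC : DCoh.IsPseudoCoherentD m (R.obj (DerivedCategory.Q.obj (T.obj C))) := by
    refine isPseudoCoherentD_of_iso (R.mapIso (tI K C hC)).symm ?_
    haveI : DerivedCategory.IsLE (R.obj ((DCoh.LTensorCx K).obj (DerivedCategory.Q.obj C))) (m - 1) := by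
      rw [DerivedCategory.isLE_iff]
      exact fun i hi => QCohD.isZero_rpush_of_isLE π hN _ (QCohD.isQCohD_ltensorCx K hK hCq) (μ - 1 + b) i
        (by omega)
    exact isPseudoCoherentD_of_isLE (m - 1) m (by omega)
  have hRA : ∀ k, DCoh.IsPseudoCoherentD k (R.obj (DerivedCategory.Q.obj (T.obj (A⟦(1 : ℤ)⟧)))) := fun k =>
    isPseudoCoherentD_of_iso (R.mapIso (tI K _ hA1 ≪≫ (DCoh.LTensorCx K).mapIso
      ((DerivedCategory.Q.commShiftIso (1 : ℤ)).app A ≪≫ (shiftFunctor _ (1 : ℤ)).mapIso eA))).symm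
      (h _ (isPerfect_shift hP.1 1) k)
  have hRB : DCoh.IsPseudoCoherentD m (R.obj (DerivedCategory.Q.obj (T.obj B))) :=
    isPseudoCoherentD_obj₃ (inv_rot_of_distTriang _ (inv_rot_of_distTriang _ hd))
      (isPseudoCoherentD_shift hRC (-1) (m + 1) (by omega))
      (isPseudoCoherentD_shift (hRA (m - 1)) (-1) m (by omega))
  exact isPseudoCoherentD_of_iso (R.mapIso (tI K B hB ≪≫ (DCoh.LTensorCx K).mapIso eB)) hRB

end Groth.Agent.H16Derived.Thomason
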