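import Groth.Agent.H16Derived.QCohD.FinSupp
import Mathlib.Logic.Small.Basic

/-!
# Cellular induction

If a set of relatively compact objects detects zero in a class `P` closed under cones and sums, then every
property closed under cones and sums and true on the set holds on `P`.
-/

set_option autoImplicit false
set_option linter.style.haveILetI false
set_option linter.unusedSectionVars false

universe v w u

open CategoryTheory CategoryTheory.Limits CategoryTheory.Pretriangulated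
open Groth.Agent.H16Derived.QCohD

namespace Groth.Agent.H16Derived.Thomason

variable {D : Type u} [Category.{w} D] [Preadditive D] [HasZeroObject D] [HasShift D ℤ]
  [∀ n : ℤ, (shiftFunctor D n).Additive] [Pretriangulated D] [HasCoproducts.{v} D]

/-- Closed under isomorphisms, small sums and cones. -/
structure Loc (Q : D → Prop) : Prop where
  of_iso : ∀ {X Y : D}, (X ≅ Y) → Q X → Q Y
  sum : ∀ (κ : Type v) (X : κ → D), (∀ k, Q (X k)) → Q (∐ X)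
  cone : ∀ T : Triangle D, T ∈ distTriang D → Q T.obj₁ → Q T.obj₂ → Q T.obj₃

theorem Loc.inter {P Q : D → Prop} (hP : Loc.{v} P) (hQ : Loc.{v} Q) : Loc.{v} (fun X => P X ∧ Q X) where
  of_iso e h := ⟨hP.of_iso e h.1, hQ.of_iso e h.2⟩
  sum κ X h := ⟨hP.sum κ X fun k => (h k).1, hQ.sum κ X fun k => (h k).2⟩
  cone T hT h₁ h₂ := ⟨hP.cone T hT h₁.1 h₂.1, hQ.cone T hT h₁.2 h₂.2⟩

theorem eq_sum_ι {κ : Type v} (Z : κ → D) {A : D} (a : A ⟶ ∐ Z) (s : Finset κ)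
    (h : a ≫ FinSupp.idem Z s = a) : a = ∑ k ∈ s, (a ≫ FinSupp.proj Z k) ≫ Sigma.ι Z k := by
  conv_lhs => rw [← h]
  rw [FinSupp.idem, Preadditive.comp_sum]
  simp only [Category.assoc]

variable {ι : Type v} (σ : ι → D) (P : D → Prop)

/-- A tower over `E` on which `σ` is adapted. -/
structure Tel (E : D) where
  F : ℕ → D
  e : ∀ n, F n ⟶ E
  t : ∀ n, F n ⟶ F (n + 1)
  w : ∀ n, t n ≫ e (n + 1) = e n
  kill : ∀ (n : ℕ) (i : ι) (f : σ i ⟶ F n), f ≫ e n = 0 → f ≫ t n = 0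
  surj : ∀ (i : ι) (f : σ i ⟶ E), ∃ c, c ≫ e 0 = f

variable [hsmall : ∀ (i : ι) (Y : D), Small.{v} (σ i ⟶ Y)]

theorem exists_step {Q : D → Prop} (hQ : Loc.{v} Q) (hσ : ∀ i, Q (σ i)) {E : D}
    (p : {F : D // Q F}) (e : p.1 ⟶ E) :
    ∃ (q : {F : D // Q F}) (e' : q.1 ⟶ E) (t : p.1 ⟶ q.1), t ≫ e' = e ∧
      ∀ (i : ι) (f : σ i ⟶ p.1), f ≫ e = 0 → f ≫ t = 0 := by
  let κ := Σ i, Shrink.{v} {f : σ i ⟶ p.1 // f ≫ e = 0}
  let g : (∐ fun k : κ => σ k.1) ⟶ p.1 := Sigma.desc fun k => ((equivShrink _).symm k.2).1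
  obtain ⟨F', t, δ, hT⟩ := distinguished_cocone_triangle g
  have hg : g ≫ e = 0 := Sigma.hom_ext _ _ fun k => by
    rw [Sigma.ι_desc_assoc, comp_zero]
    exact ((equivShrink _).symm k.2).2
  obtain ⟨e', he'⟩ := Triangle.yoneda_exact₂ _ hT e hg
  refine ⟨⟨F', hQ.cone _ hT (hQ.sum _ _ fun k => hσ k.1) p.2⟩, e', t, he'.symm, fun i f hf => ?_⟩
  have h1 : Sigma.ι (fun k : κ => σ k.1) ⟨i, equivShrink _ ⟨f, hf⟩⟩ ≫ g = f := by
    rw [Sigma.ι_desc, Equiv.symm_apply_apply]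
  rw [← h1, Category.assoc]
  exact (congrArg (_ ≫ ·) (comp_distTriang_mor_zero₁₂ _ hT)).trans comp_zero

theorem exists_tel {Q : D → Prop} (hQ : Loc.{v} Q) (hσ : ∀ i, Q (σ i)) (E : D) :
    ∃ T : Tel σ E, ∀ n, Q (T.F n) := by
  choose q e' t hw hk using fun p : (F : {F : D // Q F}) × (F.1 ⟶ E) =>
    exists_step σ hQ hσ p.1 p.2
  let κ := Σ i, Shrink.{v} (σ i ⟶ E)
  let Z : ℕ → (F : {F : D // Q F}) × (F.1 ⟶ E) := fun n =>
    Nat.rec ⟨⟨∐ fun k : κ => σ k.1, hQ.sum _ _ fun k => hσ k.1⟩,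
      Sigma.desc fun k => (equivShrink _).symm k.2⟩ (fun _ p => ⟨q p, e' p⟩) n
  refine ⟨⟨fun n => (Z n).1.1, fun n => (Z n).2, fun n => t (Z n), fun n => hw (Z n),
    fun n => hk (Z n), fun i f => ⟨Sigma.ι (fun k : κ => σ k.1) ⟨i, equivShrink _ f⟩, ?_⟩⟩,
    fun n => (Z n).1.2⟩
  exact (Sigma.ι_desc _ _).trans (Equiv.symm_apply_apply _ _)

namespace Tel

variable {σ}
variable {E : D} (S : Tel σ E)

/-- The stages, with a lifted index. -/
abbrev X : ULift.{v} ℕ → D := fun n => S.F n.down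

/-- The shift on the sum of the stages. -/
noncomputable abbrev sh : (∐ S.X) ⟶ ∐ S.X :=
  Sigma.desc fun n => S.t n.down ≫ Sigma.ι S.X ⟨n.down + 1⟩

theorem sh_proj_zero : S.sh ≫ FinSupp.proj S.X ⟨0⟩ = 0 := by
  refine Sigma.hom_ext _ _ fun n => ?_
  rw [Sigma.ι_desc_assoc, comp_zero, Category.assoc, FinSupp.proj, Sigma.ι_desc, dif_neg (by
    intro h; exact absurd (congrArg ULift.down h) (by simp)), comp_zero]

theorem sh_proj_succ (m : ℕ) :
    S.sh ≫ FinSupp.proj S.X ⟨m + 1⟩ = FinSupp.proj S.X ⟨m⟩ ≫ S.t m := by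
  refine Sigma.hom_ext _ _ fun n => ?_
  obtain ⟨n⟩ := n
  rw [Sigma.ι_desc_assoc, Category.assoc, FinSupp.proj, Sigma.ι_desc, FinSupp.proj, Sigma.ι_desc_assoc]
  by_cases h : n = m
  · subst h
    simp
  · rw [dif_neg (fun hh => h (by simpa using congrArg ULift.down hh)),
      dif_neg (fun hh => h (by simpa using congrArg ULift.down hh)), comp_zero, zero_comp]

theorem eq_zero_of_fixed (hP : ∀ n, P (S.F n)) {A : D} (hA : FinSupp.Holds.{v} P A) (a : A ⟶ ∐ S.X)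
    (h : a ≫ (𝟙 _ - S.sh) = 0) : a = 0 := by
  rw [Preadditive.comp_sub, Category.comp_id, sub_eq_zero] at h
  have hm : ∀ m : ℕ, a ≫ FinSupp.proj S.X ⟨m⟩ = 0 := fun m => by
    induction m with
    | zero => rw [h, Category.assoc, sh_proj_zero, comp_zero]
    | succ m ih => rw [h, Category.assoc, sh_proj_succ, ← Category.assoc, ih, zero_comp]
  obtain ⟨s, hs⟩ := hA (ULift.{v} ℕ) S.X (fun n => hP n.down) a
  rw [eq_sum_ι S.X a s hs]
  exact Finset.sum_eq_zero fun k _ => by rw [hm k.down, zero_comp]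

/-- The telescope. -/
theorem exists_colim {Q : D → Prop} (hQ : Loc.{v} Q) (hQF : ∀ n, Q (S.F n))
    (hcomp : ∀ i, FinSupp.Holds.{v} P (σ i)) (hPF : ∀ n, P (S.F n))
    (hshift : ∀ i (k : ℤ), ∃ j, Nonempty (σ j ≅ (σ i)⟦k⟧)) :
    ∃ (F : D) (e : F ⟶ E), Q F ∧ ∀ i, Function.Bijective fun f : σ i ⟶ F => f ≫ e := by
  obtain ⟨F, a, δ, hT⟩ := distinguished_cocone_triangle (𝟙 (∐ S.X) - S.sh)
  let E' : (∐ S.X) ⟶ E := Sigma.desc fun n => S.e n.down
  have hE' : (𝟙 (∐ S.X) - S.sh) ≫ E' = 0 := Sigma.hom_ext _ _ fun n => by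
    simp only [E', sh, Preadditive.sub_comp, Preadditive.comp_sub, Category.id_comp, Sigma.ι_desc,
      Sigma.ι_desc_assoc, Category.assoc, comp_zero, S.w, sub_self]
  obtain ⟨e, he⟩ := Triangle.yoneda_exact₂ _ hT E' hE'
  let an : ∀ n, S.F n ⟶ F := fun n => Sigma.ι S.X ⟨n⟩ ≫ a
  have han : ∀ n, an n ≫ e = S.e n := fun n => by
    have h1 : a ≫ e = E' := he.symm
    simp only [an, Category.assoc, h1]
    exact Sigma.ι_desc _ _
  have hsh : ∀ n, S.t n ≫ an (n + 1) = an n := fun n => by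
    have h0 : (𝟙 (∐ S.X) - S.sh) ≫ a = 0 := comp_distTriang_mor_zero₁₂ _ hT
    have h1 := congrArg (Sigma.ι S.X ⟨n⟩ ≫ ·) h0
    simp only [sh, Preadditive.sub_comp, Preadditive.comp_sub, Category.id_comp, comp_zero,
      Sigma.ι_desc_assoc, Category.assoc, sub_eq_zero] at h1
    exact h1.symm
  have hle : ∀ n N, n ≤ N → ∃ τ : S.F n ⟶ S.F N, τ ≫ an N = an n := fun n N h => by
    induction h with
    | refl => exact ⟨𝟙 _, Category.id_comp _⟩
    | step _ ih =>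
      obtain ⟨τ, hτ⟩ := ih
      exact ⟨τ ≫ S.t _, by rw [Category.assoc, hsh, hτ]⟩
  refine ⟨F, e, hQ.cone _ hT (hQ.sum _ _ fun n => hQF _) (hQ.sum _ _ fun n => hQF _),
    fun i => ⟨?_, fun f => ?_⟩⟩
  · suffices key : ∀ f : σ i ⟶ F, f ≫ e = 0 → f = 0 by
      intro f f' hff
      exact sub_eq_zero.1 (key _ (by rw [Preadditive.sub_comp]; exact sub_eq_zero.2 hff))
    intro f hf
    have hδ : f ≫ δ = 0 := by
      obtain ⟨j, ⟨ej⟩⟩ := hshift i (-1)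
      let w' : σ i ⟶ (∐ S.X)⟦(1 : ℤ)⟧ := f ≫ δ
      have hw : w' ≫ (𝟙 (∐ S.X) - S.sh)⟦(1 : ℤ)⟧' = 0 := by
        have h' : δ ≫ (𝟙 (∐ S.X) - S.sh)⟦(1 : ℤ)⟧' = 0 := comp_distTriang_mor_zero₃₁ _ hT
        rw [Category.assoc, h', comp_zero]
      let c := shiftFunctorCompIsoId D (1 : ℤ) (-1) (by norm_num)
      let a' : σ j ⟶ ∐ S.X := ej.hom ≫ w'⟦(-1 : ℤ)⟧' ≫ c.hom.app _
      have ha' : a' ≫ (𝟙 _ - S.sh) = 0 := by
        simp only [a', Category.assoc]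
        erw [← c.hom.naturality (𝟙 (∐ S.X) - S.sh)]
        rw [Functor.comp_map, ← Functor.map_comp_assoc, hw, Functor.map_zero, zero_comp, comp_zero]
      have h0 := S.eq_zero_of_fixed P hPF (hcomp j) a' ha'
      have h1 : w'⟦(-1 : ℤ)⟧' = 0 := by
        simpa [a'] using h0
      exact (shiftFunctor D (-1 : ℤ)).map_eq_zero_iff.1 h1
    obtain ⟨α, hα⟩ := Triangle.coyoneda_exact₃ _ hT f hδ
    change σ i ⟶ ∐ S.X at α
    obtain ⟨s, hs⟩ := hcomp i (ULift.{v} ℕ) S.X (fun n => hPF n.down) α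
    let N : ℕ := s.sup fun n => n.down
    have hsum : ∃ β : σ i ⟶ S.F N, β ≫ an N = f := by
      have hf' : f = (α : σ i ⟶ ∐ S.X) ≫ a := hα
      rw [hf', eq_sum_ι S.X α s hs, Preadditive.sum_comp]
      have hle' : ∀ n ∈ s, ∃ τ : S.F n.down ⟶ S.F N, τ ≫ an N = an n.down := fun n hn =>
        hle _ _ (Finset.le_sup (f := fun n : ULift.{v} ℕ => n.down) hn)
      choose τ hτ using hle'
      refine ⟨∑ n ∈ s.attach, (α ≫ FinSupp.proj S.X n.1) ≫ τ n.1 n.2, ?_⟩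
      rw [Preadditive.sum_comp, ← Finset.sum_attach (s := s)]
      refine Finset.sum_congr rfl fun n _ => ?_
      simp only [Category.assoc, hτ n.1 n.2, an]
    obtain ⟨β, rfl⟩ := hsum
    rw [← hsh N, ← Category.assoc, S.kill N i β (by rwa [Category.assoc, han] at hf), zero_comp]
  · obtain ⟨c, hc⟩ := S.surj i f
    exact ⟨c ≫ an 0, by simp only; rw [Category.assoc, han, hc]⟩

end Tel

/-- The induction principle. -/
theorem induction (hP : Loc.{v} P) (hPσ : ∀ i, P (σ i)) (hcomp : ∀ i, FinSupp.Holds.{v} P (σ i))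
    (hshift : ∀ i (k : ℤ), ∃ j, Nonempty (σ j ≅ (σ i)⟦k⟧))
    (hgen : ∀ Y, P Y → (∀ i (f : σ i ⟶ Y), f = 0) → IsZero Y)
    {Q : D → Prop} (hQ : Loc.{v} Q) (hQσ : ∀ i, Q (σ i)) {E : D} (hE : P E) : Q E := by
  obtain ⟨S, hS⟩ := exists_tel σ (hP.inter hQ) (fun i => ⟨hPσ i, hQσ i⟩) E
  obtain ⟨F, e, hF, hbij⟩ := S.exists_colim P (hP.inter hQ) hS hcomp (fun n => (hS n).1) hshift
  obtain ⟨C, g, δ, hT⟩ := distinguished_cocone_triangle e
  have hC : IsZero C := by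
    refine hgen C (hP.cone _ hT hF.1 hE) fun i x => ?_
    have h1 : x ≫ δ = 0 := by
      obtain ⟨j, ⟨ej⟩⟩ := hshift i (-1)
      let c := shiftFunctorCompIsoId D (1 : ℤ) (-1) (by norm_num)
      have h' : (x ≫ δ) ≫ e⟦(1 : ℤ)⟧' = 0 := by
        have h'' : δ ≫ e⟦(1 : ℤ)⟧' = 0 := comp_distTriang_mor_zero₃₁ _ hT
        rw [Category.assoc, h'', comp_zero]
      let a' : σ j ⟶ F := ej.hom ≫ (x ≫ δ)⟦(-1 : ℤ)⟧' ≫ c.hom.app _
      have ha' : a' ≫ e = 0 := by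
        simp only [a', Category.assoc]
        erw [← c.hom.naturality e]
        rw [Functor.comp_map, ← Functor.map_comp_assoc (shiftFunctor D (-1 : ℤ)),
          h', Functor.map_zero, zero_comp, comp_zero]
      have h0 : a' = 0 := (hbij j).1 (ha'.trans zero_comp.symm)
      have h0' : (x ≫ δ)⟦(-1 : ℤ)⟧' ≫ c.hom.app _ = 0 :=
        (cancel_epi ej.hom).1 (h0.trans comp_zero.symm)
      have h2 : (x ≫ δ)⟦(-1 : ℤ)⟧' = 0 := (cancel_mono (c.hom.app _)).1 (h0'.trans zero_comp.symm)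
      exact (shiftFunctor D (-1 : ℤ)).map_eq_zero_iff.1 h2
    obtain ⟨y, hy⟩ := Triangle.coyoneda_exact₃ _ hT x h1
    obtain ⟨z, hz⟩ := (hbij i).2 y
    have h3 : e ≫ g = 0 := comp_distTriang_mor_zero₁₂ _ hT
    calc x = y ≫ g := hy
      _ = (z ≫ e) ≫ g := congrArg (· ≫ g) hz.symm
      _ = 0 := by rw [Category.assoc, h3, comp_zero]
  haveI : IsIso e := (Triangle.isZero₃_iff_isIso₁ _ hT).1 hC
  exact hQ.of_iso (asIso e) hF.2

end Groth.Agent.H16Derived.Thomason
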