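import Groth.Agent.H16Derived.QCohD.RpushUnb
import Groth.Agent.H16Derived.KFlat.RestrictD
import Groth.Agent.H16Derived.MVPush.Main

/-!
# Restriction along an open immersion is left adjoint to `Rj_*`
-/

set_option autoImplicit false
set_option linter.style.haveILetI false

universe u

open CategoryTheory CategoryTheory.Limits CategoryTheory.Functor AlgebraicGeometry

attribute [local instance] HasDerivedCategory.standard

namespace Groth.Agent.H16Derived.Thomason

open Groth.Agent.H16Derived.KFlat Groth.Agent.H16Derived.KFlat.Stalk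

variable {U X : Scheme.{u}} (j : U ⟶ X) [IsOpenImmersion j]

/-- `j^* ⊣ j_*` on homotopy categories. -/
noncomputable def restrictPushKAdj :
    (Scheme.Modules.restrictFunctor j).mapHomotopyCategory (ComplexShape.up ℤ) ⊣
      (Scheme.Modules.pushforward j).mapHomotopyCategory (ComplexShape.up ℤ) :=
  (mapHomologicalComplexAdj (Scheme.Modules.restrictAdjunction j) (ComplexShape.up ℤ)).localization
    (HomotopyCategory.quotient X.Modules (ComplexShape.up ℤ))
    (HomologicalComplex.homotopyEquivalences X.Modules (ComplexShape.up ℤ))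
    (HomotopyCategory.quotient U.Modules (ComplexShape.up ℤ))
    (HomologicalComplex.homotopyEquivalences U.Modules (ComplexShape.up ℤ)) _ _

/-- The factorisation of restriction. -/
noncomputable abbrev rdQh :
    DerivedCategory.Qh ⋙ rd j ≅
      (Scheme.Modules.restrictFunctor j).mapHomotopyCategory (ComplexShape.up ℤ) ⋙ DerivedCategory.Qh :=
  (Scheme.Modules.restrictFunctor j).mapDerivedCategoryFactorsh

lemma isLeftDerived_rd :
    (rd j).IsLeftDerivedFunctor (rdQh j).hom (HomotopyCategory.quasiIso X.Modules (ComplexShape.up ℤ)) :=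
  isLeftDerivedFunctor_of_inverts _ _ _

lemma isLeftDerived_rd_comp {H : Type*} [Category H] (T : DCoh.D U ⥤ H) :
    (rd j ⋙ T).IsLeftDerivedFunctor
      ((Functor.associator _ _ _).inv ≫ whiskerRight (rdQh j).hom T)
      (HomotopyCategory.quasiIso X.Modules (ComplexShape.up ℤ)) :=
  isLeftDerivedFunctor_of_inverts _ _ ((Functor.associator _ _ _).symm ≪≫ isoWhiskerRight (rdQh j) T)

/-- `j^* ⊣ Rj_*`. -/
noncomputable def restrictRpushAdj [DCoh.HasRpush j] : rd j ⊣ DCoh.Rpush j :=
  haveI := isLeftDerived_rd j
  haveI := isLeftDerived_rd_comp j (DCoh.Rpush j)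
  haveI := isRightDerived_rpush_comp j (rd j)
  (restrictPushKAdj j).derived (HomotopyCategory.quasiIso X.Modules (ComplexShape.up ℤ))
    (HomotopyCategory.quasiIso U.Modules (ComplexShape.up ℤ)) (rdQh j).hom (rpushUnit j)

/-- `Rj_*` is fully faithful. -/
theorem isIso_restrictRpushAdj_counit [DCoh.HasRpush j] : IsIso (restrictRpushAdj j).counit := by
  haveI : ∀ F, IsIso ((restrictRpushAdj j).counit.app F) := fun F => by
    obtain ⟨I, hI, -, ⟨e⟩⟩ := MVPush.exists_rep F
    refine (NatTrans.isIso_app_iff_of_iso (restrictRpushAdj j).counit e).1 ?_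
    haveI := hI
    haveI := isIso_rpushUnit j I
    haveI := isRightDerived_rpush_comp j (rd j)
    let K := (HomotopyCategory.quotient U.Modules (ComplexShape.up ℤ)).obj I
    let hfac := (restrictPushKAdj j).derivedε_fac_app
      (HomotopyCategory.quasiIso U.Modules (ComplexShape.up ℤ)) (rdQh j).hom (rpushUnit j) K
    haveI : IsIso ((restrictPushKAdj j).counit.app K) := by
      show IsIso ((restrictPushKAdj j).counit.app ((HomotopyCategory.quotient _ _).obj I))
      rw [restrictPushKAdj, Adjunction.localization_counit_app]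
      haveI : ∀ n, IsIso (((mapHomologicalComplexAdj (Scheme.Modules.restrictAdjunction j)
          (ComplexShape.up ℤ)).counit.app I).f n) := fun n =>
        inferInstanceAs (IsIso ((Scheme.Modules.restrictAdjunction j).counit.app (I.X n)))
      haveI : IsIso ((mapHomologicalComplexAdj (Scheme.Modules.restrictAdjunction j)
          (ComplexShape.up ℤ)).counit.app I) := HomologicalComplex.Hom.isIso_of_components _
      infer_instance
    haveI : IsIso ((rd j).map ((rpushUnit j).app K) ≫
        ((restrictPushKAdj j).derivedε (HomotopyCategory.quasiIso U.Modules (ComplexShape.up ℤ))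
          (rdQh j).hom (rpushUnit j)).app (DerivedCategory.Qh.obj K)) := by
      rw [hfac]; infer_instance
    haveI : IsIso ((rd j).map ((rpushUnit j).app K)) := inferInstance
    exact IsIso.of_isIso_comp_left ((rd j).map ((rpushUnit j).app K))
      (((restrictPushKAdj j).derivedε (HomotopyCategory.quasiIso U.Modules (ComplexShape.up ℤ))
          (rdQh j).hom (rpushUnit j)).app (DerivedCategory.Qh.obj K))
  exact NatIso.isIso_of_isIso_app _

/-- Restriction is a left adjoint. -/
theorem rd_isLeftAdjoint : (rd j).IsLeftAdjoint :=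
  haveI := QCohD.hasRpush j
  (restrictRpushAdj j).isLeftAdjoint

/-- The unit becomes an isomorphism on `U`. -/
theorem isIso_rd_map_unit [DCoh.HasRpush j] (E : DCoh.D X) :
    IsIso ((rd j).map ((restrictRpushAdj j).unit.app E)) := by
  haveI := isIso_restrictRpushAdj_counit j
  haveI : IsIso ((rd j).map ((restrictRpushAdj j).unit.app E) ≫
      (restrictRpushAdj j).counit.app ((rd j).obj E)) := by
    have h := (restrictRpushAdj j).left_triangle_components E
    exact h.symm ▸ (inferInstance : IsIso (𝟙 ((rd j).obj E)))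
  exact IsIso.of_isIso_comp_right ((rd j).map ((restrictRpushAdj j).unit.app E))
    ((restrictRpushAdj j).counit.app ((rd j).obj E))

/-- Morphism sets of `D(O_X)` are small. -/
theorem small_hom {X : Scheme.{u}} (P E : DCoh.D X) : Small.{u} (P ⟶ E) := by
  obtain ⟨I, hI, -, ⟨eI⟩⟩ := MVPush.exists_rep E
  haveI := hI
  let C := DerivedCategory.Q.objPreimage P
  let e : DerivedCategory.Q.obj C ≅ P := DerivedCategory.Q.objObjPreimageIso P
  refine small_of_surjective (f := fun φ : C ⟶ I => e.inv ≫ DerivedCategory.Q.map φ ≫ eI.hom) fun f => ?_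
  let g : DerivedCategory.Qh.obj ((HomotopyCategory.quotient X.Modules (ComplexShape.up ℤ)).obj C) ⟶
      DerivedCategory.Qh.obj ((HomotopyCategory.quotient X.Modules (ComplexShape.up ℤ)).obj I) :=
    e.hom ≫ f ≫ eI.inv
  obtain ⟨h, hh⟩ := (CochainComplex.IsKInjective.Qh_map_bijective
    ((HomotopyCategory.quotient X.Modules (ComplexShape.up ℤ)).obj C) I).2 g
  obtain ⟨φ, rfl⟩ := (HomotopyCategory.quotient X.Modules (ComplexShape.up ℤ)).map_surjective h
  refine ⟨φ, ?_⟩
  have h1 : DerivedCategory.Q.map φ = e.hom ≫ f ≫ eI.inv := hh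
  simp [h1]

end Groth.Agent.H16Derived.Thomason
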