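import Groth.Agent.H16Derived.Thomason.Good
import Groth.Agent.H16Derived.Thomason.Adj
import Groth.Agent.H16Derived.MVPush.Support
import Groth.Agent.H16Derived.QCohD.CompactChar
import Groth.Agent.H16Derived.QCohD.AffineReflect
import Groth.Agent.H16Derived.QCohD.HomVanish
import Groth.Agent.H16Derived.Dual.PerfQCoh
import Groth.Agent.S1040

/-!
# Supports of objects of `D(O_X)`
-/

set_option autoImplicit false
set_option linter.style.haveILetI false

universe u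

open CategoryTheory CategoryTheory.Limits CategoryTheory.Pretriangulated AlgebraicGeometry ZeroObject

attribute [local instance] HasDerivedCategory.standard

namespace Groth.Agent.H16Derived.Thomason

open Groth.Agent.H16Derived.KFlat Groth.Agent.H16Derived.KFlat.Stalk

variable {X : Scheme.{u}}

theorem hasCoproducts_D (X : Scheme.{u}) : HasCoproducts.{u} (DCoh.D X) :=
  hasCoproducts_of_colimit_cofans
    (fun K => haveI := QCohD.hasCoproduct_D K; Cofan.mk _ (Sigma.ι K))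
    (fun K => haveI := QCohD.hasCoproduct_D K; coproductIsCoproduct K)

/-- All cohomology sheaves are supported in `T`. -/
def SuppIn (T : Set X) (E : DCoh.D X) : Prop := ∀ i : ℤ, CohB1.support (DCoh.HD E i) ⊆ T

/-- Quasi-coherent cohomology supported in `T`. -/
def PQ (T : Set X) (E : DCoh.D X) : Prop := DCoh.IsQCohD E ∧ SuppIn T E

/-- Perfect and supported in `T`. -/
def PK (T : Set X) (E : DCoh.D X) : Prop := DCoh.IsPerfect E ∧ SuppIn T E

/-- The complement of a closed set. -/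
def oc (T : Set X) (hT : IsClosed T) : X.Opens := ⟨Tᶜ, hT.isOpen_compl⟩

theorem SuppIn.mono {S T : Set X} (h : S ⊆ T) {E : DCoh.D X} (hE : SuppIn S E) : SuppIn T E :=
  fun i => (hE i).trans h

theorem suppIn_univ (E : DCoh.D X) : SuppIn Set.univ E := fun _ => Set.subset_univ _

theorem SuppIn.of_iso {T : Set X} {E F : DCoh.D X} (e : E ≅ F) (h : SuppIn T E) : SuppIn T F :=
  fun i => (MVPush.support_iso ((DerivedCategory.homologyFunctor X.Modules i).mapIso e)).symm.trans_subset (h i)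

theorem support_eq_empty_of_isZero {M : X.Modules} (h : IsZero M) : CohB1.support M = ∅ := by
  ext x
  simp only [Set.mem_empty_iff_false, iff_false]
  intro hx
  exact hx (AddCommGrpCat.subsingleton_of_isZero
    ((Scheme.Modules.toPresheaf X ⋙ TopCat.Presheaf.stalkFunctor _ x).map_isZero h))

theorem suppIn_of_isZero {T : Set X} {E : DCoh.D X} (h : IsZero E) : SuppIn T E := fun i => by
  rw [support_eq_empty_of_isZero (Functor.map_isZero _ h)]
  exact Set.empty_subset _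

theorem suppIn_iff {T : Set X} (hT : IsClosed T) (E : DCoh.D X) :
    SuppIn T E ↔ IsZero ((rd (oc T hT).ι).obj E) := by
  refine ⟨fun h => MVPush.isZero_restrictD_of_support _ E T h disjoint_compl_left, fun h i x hx => ?_⟩
  by_contra hxT
  obtain ⟨e⟩ := MVPush.nonempty_hd_restrict_iso (oc T hT) E i
  have h1 := (MVPush.mem_support_restrict (oc T hT) (DCoh.HD E i) ⟨x, hxT⟩).2 hx
  rw [← MVPush.support_iso e,
    support_eq_empty_of_isZero (M := DCoh.HD ((DCoh.restrictD (oc T hT).ι).obj E) i)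
      (Functor.map_isZero (DerivedCategory.homologyFunctor _ i) h)] at h1
  exact h1

theorem isZero_of_suppIn_empty {E : DCoh.D X} (h : SuppIn (∅ : Set X) E) : IsZero E :=
  MVPush.isZero_of_hd E fun i => H17.FPExt.isZero_of_stalk _ fun x => by
    by_contra hx
    exact h i hx

section Closure

variable {T : Set X}

theorem SuppIn.shift (hT : IsClosed T) {E : DCoh.D X} (h : SuppIn T E) (n : ℤ) : SuppIn T (E⟦n⟧) :=
  (suppIn_iff hT _).2 ((Functor.map_isZero (shiftFunctor _ n) ((suppIn_iff hT E).1 h)).of_iso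
    (((rd (oc T hT).ι).commShiftIso n).app E))

theorem suppIn_obj₃ (hT : IsClosed T) {Tr : Triangle (DCoh.D X)} (hTr : Tr ∈ distTriang (DCoh.D X))
    (h₁ : SuppIn T Tr.obj₁) (h₂ : SuppIn T Tr.obj₂) : SuppIn T Tr.obj₃ :=
  (suppIn_iff hT _).2 (Triangle.isZero₃_of_isZero₁₂ _ ((rd (oc T hT).ι).map_distinguished _ hTr)
    ((suppIn_iff hT _).1 h₁) ((suppIn_iff hT _).1 h₂))

theorem suppIn_obj₁ (hT : IsClosed T) {Tr : Triangle (DCoh.D X)} (hTr : Tr ∈ distTriang (DCoh.D X))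
    (h₂ : SuppIn T Tr.obj₂) (h₃ : SuppIn T Tr.obj₃) : SuppIn T Tr.obj₁ :=
  (suppIn_iff hT _).2 (Triangle.isZero₁_of_isZero₂₃ _ ((rd (oc T hT).ι).map_distinguished _ hTr)
    ((suppIn_iff hT _).1 h₂) ((suppIn_iff hT _).1 h₃))

theorem suppIn_obj₂ (hT : IsClosed T) {Tr : Triangle (DCoh.D X)} (hTr : Tr ∈ distTriang (DCoh.D X))
    (h₁ : SuppIn T Tr.obj₁) (h₃ : SuppIn T Tr.obj₃) : SuppIn T Tr.obj₂ :=
  (suppIn_iff hT _).2 (Triangle.isZero₂_of_isZero₁₃ _ ((rd (oc T hT).ι).map_distinguished _ hTr)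
    ((suppIn_iff hT _).1 h₁) ((suppIn_iff hT _).1 h₃))

theorem suppIn_sigma (hT : IsClosed T) {κ : Type u} (K : κ → DCoh.D X) [HasCoproduct K]
    (h : ∀ k, SuppIn T (K k)) : SuppIn T (∐ K) := by
  haveI := rd_isLeftAdjoint (oc T hT).ι
  haveI := hasCoproducts_D (oc T hT : Scheme.{u})
  refine (suppIn_iff hT _).2 (IsZero.of_iso ?_ (PreservesCoproduct.iso (rd (oc T hT).ι) K))
  rw [IsZero.iff_id_eq_zero]
  exact Sigma.hom_ext _ _ fun k => ((suppIn_iff hT _).1 (h k)).eq_of_src _ _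

end Closure

theorem isPerfect_zero {Z : DCoh.D X} (hZ : IsZero Z) : DCoh.IsPerfect Z := by
  refine (isPerfect_iff Z).2 fun x => ⟨⊤, trivial, ?_⟩
  have hP : DCoh.IsStrictlyPerfect (0 : CochainComplex ((⊤ : X.Opens) : Scheme.{u}).Modules ℤ) :=
    isStrictlyPerfect_of_isZero fun i =>
      Functor.map_isZero (HomologicalComplex.eval _ (ComplexShape.up ℤ) i) (isZero_zero _)
  exact ⟨0, hP, ⟨(DerivedCategory.Q.map_isZero (isZero_zero _)).iso (Functor.map_isZero _ hZ)⟩⟩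

theorem isQCohD_zero {Z : DCoh.D X} (hZ : IsZero Z) : DCoh.IsQCohD Z := fun i =>
  QCohD.isQCoh_isZero _ (Functor.map_isZero _ hZ)

theorem isPerfect_obj₁ {Tr : Triangle (DCoh.D X)} (hTr : Tr ∈ distTriang (DCoh.D X))
    (h₂ : DCoh.IsPerfect Tr.obj₂) (h₃ : DCoh.IsPerfect Tr.obj₃) : DCoh.IsPerfect Tr.obj₁ :=
  isPerfect_obj₃ (inv_rot_of_distTriang _ (inv_rot_of_distTriang _ hTr))
    (isPerfect_shift h₂ (-1)) (isPerfect_shift h₃ (-1))

theorem isPerfect_obj₂ {Tr : Triangle (DCoh.D X)} (hTr : Tr ∈ distTriang (DCoh.D X))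
    (h₁ : DCoh.IsPerfect Tr.obj₁) (h₃ : DCoh.IsPerfect Tr.obj₃) : DCoh.IsPerfect Tr.obj₂ :=
  isPerfect_obj₃ (inv_rot_of_distTriang _ hTr) (isPerfect_shift h₃ (-1)) h₁

theorem isPerfect_biprod {K L : DCoh.D X} [HasBinaryBiproduct K L] (hK : DCoh.IsPerfect K)
    (hL : DCoh.IsPerfect L) : DCoh.IsPerfect (K ⊞ L) :=
  isPerfect_obj₂ (binaryBiproductTriangle_distinguished K L) hK hL

theorem loc_pq {T : Set X} (hT : IsClosed T) :
    haveI := hasCoproducts_D X
    Loc.{u} (PQ T) := by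
  haveI := hasCoproducts_D X
  exact { of_iso := fun e h => ⟨QCohD.isQCohD_iso e h.1, h.2.of_iso e⟩
          sum := fun κ K h => ⟨S1040.result X K fun k => (h k).1, suppIn_sigma hT K fun k => (h k).2⟩
          cone := fun Tr hTr h₁ h₂ => ⟨QCohD.AffineUnit.isQCohD_obj₃ hTr h₁.1 h₂.1, suppIn_obj₃ hT hTr h₁.2 h₂.2⟩ }

theorem PQ.shift {T : Set X} (hT : IsClosed T) {E : DCoh.D X} (h : PQ T E) (n : ℤ) : PQ T (E⟦n⟧) :=
  ⟨QCohD.HomVanish.isQCohD_shift h.1 n, h.2.shift hT n⟩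

theorem PK.shift {T : Set X} (hT : IsClosed T) {E : DCoh.D X} (h : PK T E) (n : ℤ) : PK T (E⟦n⟧) :=
  ⟨isPerfect_shift h.1 n, h.2.shift hT n⟩

theorem PK.pq {T : Set X} {E : DCoh.D X} (h : PK T E) : PQ T E :=
  ⟨Dual.isQCohD_of_isPerfect h.1, h.2⟩

theorem stages_pk {T : Set X} (hT : IsClosed T) : Stages (PK T) where
  zero h := ⟨isPerfect_zero h, suppIn_of_isZero h⟩
  of_iso e h := ⟨isPerfect_of_iso e h.1, h.2.of_iso e⟩
  cone Tr hTr h₁ h₂ := ⟨isPerfect_obj₃ hTr h₁.1 h₂.1, suppIn_obj₃ hT hTr h₁.2 h₂.2⟩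
  fib Tr hTr h₂ h₃ := ⟨isPerfect_obj₁ hTr h₂.1 h₃.1, suppIn_obj₁ hT hTr h₂.2 h₃.2⟩
  sum₂ K L _ hK hL := ⟨isPerfect_biprod hK.1 hL.1,
    suppIn_obj₂ hT (binaryBiproductTriangle_distinguished K L) hK.2 hL.2⟩

/-- Perfect objects are compact relative to any class of quasi-coherent objects. -/
theorem holds_of_isPerfect [CompactSpace X] [QuasiSeparatedSpace X] {P : DCoh.D X → Prop}
    (hP : ∀ L, P L → DCoh.IsQCohD L) {R : DCoh.D X} (hR : DCoh.IsPerfect R) :
    QCohD.FinSupp.Holds.{u} P R := by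
  intro κ K _ hK α
  exact QCohD.FinSupp.of_iso ((shiftFunctorZero _ ℤ).app R) (QCohD.rel_of_isPerfect hR 0)
    κ K (fun k => hP _ (hK k)) α

end Groth.Agent.H16Derived.Thomason
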