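import Groth.Agent.H16Derived.Thomason.Generator

/-!
# Lifting of maps from perfect objects; compact objects with supports
-/

set_option autoImplicit false
set_option linter.style.haveILetI false

universe u

open CategoryTheory CategoryTheory.Limits CategoryTheory.Pretriangulated AlgebraicGeometry

attribute [local instance] HasDerivedCategory.standard

namespace Groth.Agent.H16Derived.Thomason

open Groth.Agent.H16Derived.KFlat Groth.Agent.H16Derived.KFlat.Stalk

attribute [local instance] hasCoproducts_D small_hom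

variable {X : Scheme.{u}} [CompactSpace X] [QuasiSeparatedSpace X]

/-- Lifting of a map from a perfect object on a quasi-compact open. -/
theorem exists_lift_map (U : X.Opens) (hU : IsCompact (U : Set X)) {T : Set X} (hT : IsClosed T)
    (hTc : IsCompact Tᶜ) {E : DCoh.D X} (hE : DCoh.IsQCohD E) {P : DCoh.D (U : Scheme.{u})}
    (hP : DCoh.IsPerfect P) (hPT : SuppIn (U.ι.base ⁻¹' T) P) (α : P ⟶ (rd U.ι).obj E) :
    ∃ (R : DCoh.D X) (β : R ⟶ E) (i : P ⟶ (rd U.ι).obj R) (p : (rd U.ι).obj R ⟶ P),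
      PK T R ∧ i ≫ p = 𝟙 P ∧ i ≫ (rd U.ι).map β = α := by
  obtain ⟨R, i, p, hR, hip⟩ := exists_summand U hU hT (hasGen T hT hTc) hP hPT
  obtain ⟨R', s, g', hR', hs, hg'⟩ := exists_lift U hU hT hTc
    (hasGen _ (hT.inter U.isOpen.isClosed_compl) (isCompact_compl_inter_compl hTc hU)) hR hE (p ≫ α)
  haveI := hs
  refine ⟨R', g', i ≫ inv ((rd U.ι).map s), (rd U.ι).map s ≫ p, hR', ?_, ?_⟩
  · simp [hip]
  · rw [hg', Category.assoc, IsIso.inv_hom_id_assoc, ← Category.assoc, hip, Category.id_comp]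

theorem isPerfect_of_retract' {X : Scheme.{u}} {P R : DCoh.D X} (i : P ⟶ R) (p : R ⟶ P) (h : i ≫ p = 𝟙 P)
    (hR : DCoh.IsPerfect R) : DCoh.IsPerfect P := by
  obtain ⟨Q, q, δ, hQ⟩ := distinguished_cocone_triangle i
  have hδ : δ = 0 := by
    have h1 : δ ≫ i⟦(1 : ℤ)⟧' = 0 := comp_distTriang_mor_zero₃₁ _ hQ
    have h2 : (δ ≫ i⟦(1 : ℤ)⟧') ≫ p⟦(1 : ℤ)⟧' = δ := by
      rw [Category.assoc, ← Functor.map_comp, h, CategoryTheory.Functor.map_id, Category.comp_id]
    rw [← h2, h1, zero_comp]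
  obtain ⟨φ, -, -⟩ := exists_iso_binaryBiproduct_of_distTriang _ hQ hδ
  exact (isPerfect_of_biprod P Q (isPerfect_of_iso φ hR)).1

/-- Compact objects of `D_{QCoh,T}` are the perfect ones. -/
theorem holds_iff_isPerfect {T : Set X} (hT : IsClosed T) (hTc : IsCompact Tᶜ) {K : DCoh.D X} (hK : PQ T K) :
    QCohD.FinSupp.Holds.{u} (PQ T) K ↔ DCoh.IsPerfect K := by
  refine ⟨fun h => ?_, fun h => holds_of_isPerfect (fun _ hL => hL.1) h⟩
  obtain ⟨P, hP, hgen⟩ := hasGen T hT hTc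
  have hg : Good (𝟭 (DCoh.D X)) (PK T) (fun t => t = K) K :=
    good_of_generated (stages_pk hT) (fun k : ULift.{u} ℤ => P⟦k.down⟧) (PQ T)
      (loc_pq hT) (fun _ n h => h.shift hT n) (fun _ h => h)
      (fun R hR => holds_of_isPerfect (fun _ h => h.1) hR.1)
      (fun t ht => ht ▸ h)
      (fun k => hP.shift hT k.down) (fun _ n h => h.shift hT n) (fun _ h => h.pq)
      (fun k n => ⟨⟨k.down + n⟩, ⟨(shiftFunctorAdd (DCoh.D X) k.down n).app P⟩⟩)
      (fun M hM h' => hgen M hM fun n f => h' ⟨n⟩ f) hK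
  obtain ⟨R, hR, β, x', hx⟩ := hg.surj K rfl (𝟙 K)
  exact isPerfect_of_retract' x' β hx hR.1

end Groth.Agent.H16Derived.Thomason
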