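import Groth.Agent.H16Derived.Thomason.ApproxAffine
import Groth.Agent.H16Derived.Thomason.Consequences
import Groth.Agent.H16Derived.KFlat.PerfNoeth

/-!
# Approximation by perfect complexes
-/

set_option autoImplicit false
set_option linter.style.haveILetI false

universe u v

open CategoryTheory CategoryTheory.Limits CategoryTheory.Pretriangulated AlgebraicGeometry ZeroObject

attribute [local instance] HasDerivedCategory.standard

namespace Groth.Agent.H16Derived.Thomason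

open Groth.Agent.H16Derived.KFlat Groth.Agent.H16Derived.KFlat.Stalk

/-- Approximations compose. -/
theorem exists_comp_triangle {C : Type u} [Category.{v} C] [Preadditive C] [HasZeroObject C] [HasShift C ℤ]
    [∀ n : ℤ, (shiftFunctor C n).Additive] [Pretriangulated C] [IsTriangulated C] {K : C → Prop}
    (hK : Stages K) (hs : ∀ (X : C) (n : ℤ), K X → K (X⟦n⟧)) {R E Z P' Z' : C}
    {f : R ⟶ E} {g : E ⟶ Z} {h : Z ⟶ R⟦(1 : ℤ)⟧} (hT : Triangle.mk f g h ∈ distTriang C)
    {f' : P' ⟶ Z} {g' : Z ⟶ Z'} {h' : Z' ⟶ P'⟦(1 : ℤ)⟧} (hT' : Triangle.mk f' g' h' ∈ distTriang C)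
    (hR : K R) (hP' : K P') :
    ∃ (P : C) (α : P ⟶ E) (p : E ⟶ Z') (w : Z' ⟶ P⟦(1 : ℤ)⟧),
      Triangle.mk α p w ∈ distTriang C ∧ K P := by
  obtain ⟨P, α, w, hP⟩ := distinguished_cocone_triangle₁ (g ≫ g')
  refine ⟨P, α, g ≫ g', w, hP, ?_⟩
  let o := Triangulated.someOctahedron rfl (rot_of_distTriang _ hT) (rot_of_distTriang _ hT') (rot_of_distTriang _ hP)
  have h1 : K (P⟦(1 : ℤ)⟧) :=
    hK.fib _ (rot_of_distTriang _ o.mem) (hs _ 1 hP') (hs _ 1 (hs _ 1 hR))
  exact hK.of_iso ((shiftFunctorCompIsoId C (1 : ℤ) (-1) (by norm_num)).app P) (hs _ (-1) h1)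

variable {X : Scheme.{u}}

/-- Cohomology in degrees `≥ n` is supported in `T`. -/
def SF (T : Set X) (n : ℤ) (E : DCoh.D X) : Prop := ∀ i : ℤ, n ≤ i → CohB1.support (DCoh.HD E i) ⊆ T

theorem SF.mono {T T' : Set X} (h : T ⊆ T') {n n' : ℤ} (hn : n ≤ n') {E : DCoh.D X} (hE : SF T n E) :
    SF T' n' E := fun i hi => (hE i (hn.trans hi)).trans h

theorem isLE_iff_support (E : DCoh.D X) (n : ℤ) :
    E.IsLE n ↔ ∀ i : ℤ, n < i → CohB1.support (DCoh.HD E i) = ∅ := by
  rw [DerivedCategory.isLE_iff]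
  refine forall₂_congr fun i _ => ⟨support_eq_empty_of_isZero, fun h => ?_⟩
  exact H17.FPExt.isZero_of_stalk _ fun x => by
    by_contra hx
    exact (Set.eq_empty_iff_forall_notMem.1 h) x hx

theorem SF.rd' {U : Scheme.{u}} (j : U ⟶ X) [IsOpenImmersion j] {T : Set X} {n : ℤ} {E : DCoh.D X}
    (h : SF T n E) : SF (j.base ⁻¹' T) n ((rd j).obj E) :=
  fun i hi x hx => h i hi ((mem_support_rd j E i x).1 hx)

theorem sf_iff {T : Set X} (hT : IsClosed T) (n : ℤ) (E : DCoh.D X) :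
    SF T n E ↔ DerivedCategory.IsLE ((rd (oc T hT).ι).obj E) (n - 1) := by
  rw [isLE_iff_support]
  constructor
  · intro h i hi
    refine Set.eq_empty_iff_forall_notMem.2 fun x hx => ?_
    exact x.2 (h i (by omega) ((mem_support_rd _ E i x).1 hx))
  · intro h i hi x hx
    by_contra hxT
    exact Set.eq_empty_iff_forall_notMem.1 (h i (by omega)) (⟨x, hxT⟩ : (oc T hT : Scheme.{u}))
      ((mem_support_rd (oc T hT).ι E i _).2 hx)

theorem sf_obj₃ {T : Set X} (hT : IsClosed T) {n : ℤ} {Tr : Triangle (DCoh.D X)}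
    (hTr : Tr ∈ distTriang (DCoh.D X)) (h₁ : SuppIn T Tr.obj₁) (h₂ : SF T n Tr.obj₂) : SF T n Tr.obj₃ := by
  rw [sf_iff hT] at h₂ ⊢
  haveI := h₂
  haveI : IsIso ((rd (oc T hT).ι).map Tr.mor₂) :=
    (Triangle.isZero₁_iff_isIso₂ _ ((rd (oc T hT).ι).map_distinguished _ hTr)).1 ((suppIn_iff hT _).1 h₁)
  exact ⟨(DerivedCategory.TStructure.t.le (n - 1)).prop_of_iso (asIso ((rd (oc T hT).ι).map Tr.mor₂))
    h₂.le⟩

theorem isLE_of_cover {ι : Type*} (U : ι → X.Opens) (hU : ∀ x : X, ∃ i, x ∈ U i) {E : DCoh.D X} {n : ℤ}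
    (h : ∀ i, DerivedCategory.IsLE ((rd (U i).ι).obj E) n) : E.IsLE n := by
  rw [isLE_iff_support]
  intro i hi
  refine Set.eq_empty_iff_forall_notMem.2 fun x hx => ?_
  obtain ⟨k, hk⟩ := hU x
  exact Set.eq_empty_iff_forall_notMem.1 ((isLE_iff_support _ n).1 (h k) i hi)
    (⟨x, hk⟩ : ((U k : X.Opens) : Scheme.{u}))
    ((mem_support_rd (U k).ι E i _).2 hx)

theorem pc_obj₃ {T : Set X} {m : ℤ} {Tr : Triangle (DCoh.D X)} (hTr : Tr ∈ distTriang (DCoh.D X))
    (h₁ : PK T Tr.obj₁) (h₂ : DCoh.IsPseudoCoherentD m Tr.obj₂) : DCoh.IsPseudoCoherentD m Tr.obj₃ :=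
  isPseudoCoherentD_obj₃ hTr (isPseudoCoherentD_of_isPerfect h₁.1 _) h₂

/-- Approximation for `(X, T)` with margin `r`. -/
def HasAppr (T : Set X) (r : ℕ) : Prop :=
  ∀ (m : ℤ) (E : DCoh.D X), DCoh.IsQCohD E → DCoh.IsPseudoCoherentD (m - r) E → SF T (m - r) E →
    ∃ (P C : DCoh.D X) (α : P ⟶ E) (p : E ⟶ C) (w : C ⟶ P⟦(1 : ℤ)⟧),
      Triangle.mk α p w ∈ distTriang (DCoh.D X) ∧ PK T P ∧ C.IsLE (m - 1)

theorem exists_isLE_of_pc [CompactSpace X] {m : ℤ} {E : DCoh.D X} (h : DCoh.IsPseudoCoherentD m E) :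
    ∃ b : ℤ, E.IsLE b :=
  exists_isLE_of_local fun x => by
    obtain ⟨V, hx, hV⟩ := (isPseudoCoherentD_iff _ _).1 h x
    obtain ⟨n, hn⟩ := hV.exists_isLE
    exact ⟨V, n, hx, hn⟩

theorem id_triangle {E : DCoh.D X} {T : Set X} :
    ∃ (P : DCoh.D X) (α : P ⟶ E) (p : E ⟶ E) (w : E ⟶ P⟦(1 : ℤ)⟧),
      Triangle.mk α p w ∈ distTriang (DCoh.D X) ∧ PK T P := by
  obtain ⟨P, α, w, hP⟩ := distinguished_cocone_triangle₁ (𝟙 E)
  have hz : IsZero P := (Triangle.isZero₁_iff_isIso₂ _ hP).2 (inferInstanceAs (IsIso (𝟙 E)))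
  exact ⟨P, α, 𝟙 E, w, hP, isPerfect_zero hz, suppIn_of_isZero hz⟩

/-- One step suffices. -/
theorem hasAppr_of_step [CompactSpace X] {T : Set X} (hT : IsClosed T) (r : ℕ)
    (hstep : ∀ (b : ℤ) (E : DCoh.D X), DCoh.IsQCohD E → DCoh.IsPseudoCoherentD (b - r) E → SF T (b - r) E →
      E.IsLE b → ∃ (R C : DCoh.D X) (f : R ⟶ E) (p : E ⟶ C) (w : C ⟶ R⟦(1 : ℤ)⟧),
        Triangle.mk f p w ∈ distTriang (DCoh.D X) ∧ PK T R ∧ C.IsLE (b - 1)) :
    HasAppr T r := by
  suffices H : ∀ (k : ℕ) (m : ℤ) (E : DCoh.D X), DCoh.IsQCohD E → DCoh.IsPseudoCoherentD (m - r) E →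
      SF T (m - r) E → E.IsLE (m - 1 + k) →
      ∃ (P C : DCoh.D X) (α : P ⟶ E) (p : E ⟶ C) (w : C ⟶ P⟦(1 : ℤ)⟧),
        Triangle.mk α p w ∈ distTriang (DCoh.D X) ∧ PK T P ∧ C.IsLE (m - 1) by
    intro m E hq hpc hs
    obtain ⟨b, hb⟩ := exists_isLE_of_pc hpc
    exact H (b - m + 1).toNat m E hq hpc hs
      (DerivedCategory.TStructure.t.isLE_of_le E b _ (by omega))
  intro k
  induction k with
  | zero =>
    intro m E _ _ _ hle
    obtain ⟨P, α, p, w, hP, hPK⟩ := id_triangle (E := E) (T := T)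
    exact ⟨P, E, α, p, w, hP, hPK, by simpa using hle⟩
  | succ k ih =>
    intro m E hq hpc hs hle
    obtain ⟨R, C, f, p, w, hT', hR, hC⟩ := hstep (m + k) E hq (isPseudoCoherentD_mono hpc (by omega))
      (hs.mono subset_rfl (by omega)) (by
        have e : m - 1 + (↑(k + 1) : ℤ) = m + k := by push_cast; omega
        rw [← e]; exact hle)
    obtain ⟨P', C', f', p', w', hT'', hP', hC'⟩ := ih m C
      (QCohD.AffineUnit.isQCohD_obj₃ hT' hR.pq.1 hq) (pc_obj₃ hT' hR hpc) (sf_obj₃ hT hT' hR.2 hs) (by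
        have e : m + (k : ℤ) - 1 = m - 1 + k := by omega
        rw [← e]; exact hC)
    obtain ⟨P, α, q, v, hP, hPK⟩ := exists_comp_triangle (stages_pk hT)
      (fun M n h => h.shift hT n) hT' hT'' hR hP'
    exact ⟨P, C', α, q, v, hP, hPK, hC'⟩

/-- Affine case over a ring. -/
theorem exists_hasAppr_spec (A : Type u) [CommRing A] (T : Set (Spec (CommRingCat.of A))) (hT : IsClosed T)
    (hTc : IsCompact Tᶜ) : ∃ r : ℕ, HasAppr T r := by
  classical
  haveI : PreservesFiniteColimits (tilde.functor (CommRingCat.of A)) :=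
    @PreservesColimitsOfSize.preservesFiniteColimits.{0, 0} _ _ _ _ _
      ((tilde.adjunction (R := CommRingCat.of A)).leftAdjoint_preservesColimits)
  obtain ⟨s, hs⟩ : ∃ s : Finset A, PrimeSpectrum.zeroLocus (s : Set A) = T := by
    obtain ⟨s, hs⟩ := PrimeSpectrum.isCompact_isOpen_iff.1
      ⟨(hTc : IsCompact (Tᶜ : Set (PrimeSpectrum A))), hT.isOpen_compl⟩
    exact ⟨s, compl_injective hs⟩
  subst hs
  refine ⟨s.toList.length, hasAppr_of_step hT _ fun b E hq hpc hsf hle => ?_⟩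
  obtain ⟨M, ⟨e⟩⟩ := QCohD.exists_tildeD_iso (R := CommRingCat.of A) hq
  change Dual.D A at M
  let F := DCoh.tildeD (CommRingCat.of A)
  haveI : (F.obj M).IsLE b := (DerivedCategory.TStructure.t.le b).prop_of_iso e.symm hle.le |> fun h => ⟨h⟩
  haveI := (isLE_tilde_iff M b).1 ‹_›
  have hb : ∀ i, b < i → Subsingleton (Dual.HD A M i) := fun i hi =>
    ModuleCat.subsingleton_of_isZero (DerivedCategory.isZero_of_isLE M b i hi)
  have hpc' : DRing.IsPseudoCoherent A (b - s.toList.length) M :=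
    (pc_tilde_iff M _).1 (isPseudoCoherentD_of_iso e.symm hpc)
  haveI : Module.Finite A (Dual.HD A M b) := H4DR.PCoh.finite_top hpc' (by omega) hb
  obtain ⟨R, C, f, p, w, hT', hR, htors, hC⟩ := exists_step_ring s.toList M b hb fun g hg i hi _ x => by
    have hsupp : CohB1.support (DCoh.HD (F.obj M) i) ⊆ PrimeSpectrum.zeroLocus (s : Set A) :=
      (MVPush.support_iso ((DerivedCategory.homologyFunctor _ i).mapIso e)).trans_subset (hsf i hi)
    exact exists_pow_smul_eq_zero_of_support (s : Set A) M i hsupp g (Finset.mem_toList.1 hg) x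
  have hd := F.map_distinguished _ hT'
  refine ⟨F.obj R, F.obj C, F.map f ≫ e.hom, e.inv ≫ F.map p,
    F.map w ≫ (F.commShiftIso (1 : ℤ)).hom.app R, isomorphic_distinguished _ hd _
      (Triangle.isoMk _ _ (Iso.refl _) e.symm (Iso.refl _)
        (by exact ((Category.assoc _ _ _).trans ((congrArg (F.map f ≫ ·) e.hom_inv_id).trans (Category.comp_id _))).trans (Category.id_comp _).symm)
        (by exact Category.comp_id _)
        (by exact ((congrArg (_ ≫ ·) ((shiftFunctor _ (1 : ℤ)).map_id _)).trans (Category.comp_id _)).trans (Category.id_comp _).symm)),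
    ⟨(S1105.result A R).2 hR, (suppIn_tildeD_iff _ R).2 fun g hg => htors g (Finset.mem_toList.2 hg)⟩, ?_⟩
  exact (isLE_tilde_iff C _).2 ((DerivedCategory.isLE_iff _ _).2 fun i hi =>
    haveI := hC i (by omega)
    @ModuleCat.isZero_of_subsingleton _ _ (hA C i) (hC i (by omega)))

/-- Transport along surjective open immersions. -/
theorem hasAppr_of_surjective {U : Scheme.{u}} (j : U ⟶ X) [IsOpenImmersion j]
    (hj : Function.Surjective j.base) {T : Set X} {r : ℕ} (h : HasAppr (j.base ⁻¹' T) r) : HasAppr T r := by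
  intro m E hq hpc hs
  haveI := QCohD.hasRpush j
  haveI := isIso_restrictRpushAdj_counit j
  let adj := restrictRpushAdj j
  letI := rpushCommShift j
  haveI := rpush_isTriangulated j
  obtain ⟨P', C', α', p', w', hT', hP', hC'⟩ := h m _ (QCohD.isQCohD_rd j hq) (isPseudoCoherentD_rd j hpc)
    (hs.rd' j)
  haveI : IsIso (adj.unit.app E) := by
    obtain ⟨Z, g, w, hZ⟩ := distinguished_cocone_triangle (adj.unit.app E)
    refine (Triangle.isZero₃_iff_isIso₁ _ hZ).1 (isZero_of_rd_surjective j hj ?_)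
    exact (Triangle.isZero₃_iff_isIso₁ _ ((rd j).map_distinguished _ hZ)).2 (isIso_rd_map_unit j E)
  let G := DCoh.Rpush j
  let η : E ≅ G.obj ((rd j).obj E) := asIso (adj.unit.app E)
  have hd := G.map_distinguished _ hT'
  let eP : (rd j).obj (G.obj P') ≅ P' := asIso (adj.counit.app P')
  let eC : (rd j).obj (G.obj C') ≅ C' := asIso (adj.counit.app C')
  refine ⟨G.obj P', G.obj C', G.map α' ≫ η.inv, η.hom ≫ G.map p',
    G.map w' ≫ (G.commShiftIso (1 : ℤ)).hom.app P', isomorphic_distinguished _ hd _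
      (Triangle.isoMk _ _ (Iso.refl _) η (Iso.refl _)
        (by exact ((Category.assoc _ _ _).trans ((congrArg (G.map α' ≫ ·) η.inv_hom_id).trans (Category.comp_id _))).trans (Category.id_comp _).symm)
        (by exact Category.comp_id _)
        (by exact ((congrArg (_ ≫ ·) ((shiftFunctor _ (1 : ℤ)).map_id _)).trans (Category.comp_id _)).trans (Category.id_comp _).symm)),
    ⟨isPerfect_of_rd_surjective j hj (isPerfect_of_iso eP.symm hP'.1),
      suppIn_of_rd j hj (hP'.2.of_iso eP.symm)⟩, ?_⟩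
  rw [isLE_iff_support] at hC' ⊢
  intro i hi
  refine Set.eq_empty_iff_forall_notMem.2 fun y hy => ?_
  obtain ⟨x, rfl⟩ := hj y
  exact Set.eq_empty_iff_forall_notMem.1 (hC' i hi) x
    ((MVPush.support_iso ((DerivedCategory.homologyFunctor _ i).mapIso eC)).subset
      ((mem_support_rd j (G.obj C') i x).2 hy))

theorem exists_hasAppr_affine (X : Scheme.{u}) [IsAffine X] (T : Set X) (hT : IsClosed T)
    (hTc : IsCompact Tᶜ) : ∃ r : ℕ, HasAppr T r := by
  let φ := X.isoSpec.inv.homeomorph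
  obtain ⟨r, hr⟩ := exists_hasAppr_spec Γ(X, ⊤) _ (hT.preimage φ.continuous) (φ.isCompact_preimage.2 hTc)
  exact ⟨r, hasAppr_of_surjective X.isoSpec.inv φ.surjective hr⟩

/-- The inductive step. -/
theorem hasAppr_step [CompactSpace X] [QuasiSeparatedSpace X] (U V : X.Opens) (hU : IsCompact (U : Set X))
    (hUV : ∀ x : X, x ∈ U ∨ x ∈ V) {T : Set X} (hT : IsClosed T) (hTc : IsCompact Tᶜ)
    {rU rV : ℕ} (hapU : HasAppr (U.ι.base ⁻¹' T) rU) (hapV : HasAppr (V.ι.base ⁻¹' (T ∩ (U : Set X)ᶜ)) rV) :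
    HasAppr T (rU + rV) := by
  haveI : CompactSpace (U : Scheme.{u}) := isCompact_iff_compactSpace.1 hU
  haveI := qss_opens U
  haveI := preservesFiniteLimits_extZero V
  have hcl : IsClosed (U.ι.base ⁻¹' T) := hT.preimage U.ι.continuous
  intro m E hq hpc hs
  -- make `E` small on `U`
  have claim : ∀ (k : ℕ) (E : DCoh.D X), DCoh.IsQCohD E → DCoh.IsPseudoCoherentD (m - (rU + rV : ℕ)) E →
      SF T (m - (rU + rV : ℕ)) E → DerivedCategory.IsLE ((rd U.ι).obj E) (m - rV - 1 + k) →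
      ∃ (P C : DCoh.D X) (α : P ⟶ E) (p : E ⟶ C) (w : C ⟶ P⟦(1 : ℤ)⟧),
        Triangle.mk α p w ∈ distTriang (DCoh.D X) ∧ PK T P ∧
          DerivedCategory.IsLE ((rd U.ι).obj C) (m - rV - 1) := by
    intro k
    induction k with
    | zero =>
      intro E _ _ _ hle
      obtain ⟨P, α, p, w, hP, hPK⟩ := id_triangle (E := E) (T := T)
      exact ⟨P, E, α, p, w, hP, hPK, by simpa using hle⟩
    | succ k ih =>
      intro E hq hpc hs hle
      let b : ℤ := m - rV + k
      haveI hEb : DerivedCategory.IsLE ((rd U.ι).obj E) b := by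
        have e : m - (rV : ℤ) - 1 + (↑(k + 1) : ℤ) = b := by push_cast; omega
        rw [← e]; exact hle
      obtain ⟨P, D, α, q, v, hP, hPK, hD⟩ := hapU b _ (QCohD.isQCohD_rd _ hq)
        (isPseudoCoherentD_mono (isPseudoCoherentD_rd U.ι hpc) (by push_cast; omega))
        ((hs.rd' U.ι).mono subset_rfl (by push_cast; omega))
      have hαb : Approx b α := (approx_iff hP b).2 hD
      haveI : DerivedCategory.IsLE P b := by
        rw [DerivedCategory.isLE_iff]
        intro i hi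
        haveI := hαb.1 i hi
        exact (DerivedCategory.isZero_of_isLE ((rd U.ι).obj E) b i hi).of_iso
          (asIso ((DerivedCategory.homologyFunctor _ i).map α))
      obtain ⟨R, hR, ⟨φ⟩⟩ := exists_extend U hU hT hTc (hasGen T hT hTc)
        (hasGen _ (hT.inter U.isOpen.isClosed_compl) (isCompact_compl_inter_compl hTc hU)) hPK.1 hPK.2
      obtain ⟨R', s, g', hR', hsiso, hg'⟩ := exists_lift U hU hT hTc
        (hasGen _ (hT.inter U.isOpen.isClosed_compl) (isCompact_compl_inter_compl hTc hU)) hR hq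
        (φ.hom ≫ biprod.fst ≫ α)
      obtain ⟨C, p, w, hC⟩ := distinguished_cocone_triangle g'
      haveI := hsiso
      haveI hPP : DerivedCategory.IsLE (P ⊞ P⟦(1 : ℤ)⟧) b := by
        haveI : DerivedCategory.IsLE (P⟦(1 : ℤ)⟧) b :=
          haveI : DerivedCategory.IsLE (P⟦(1 : ℤ)⟧) (b - 1) :=
            DerivedCategory.TStructure.t.isLE_shift P b 1 (b - 1)
          DerivedCategory.TStructure.t.isLE_of_le _ (b - 1) b (by omega)
        exact DerivedCategory.TStructure.t.isLE₂ _ (binaryBiproductTriangle_distinguished P (P⟦(1 : ℤ)⟧)) b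
          ‹_› ‹_›
      have happ : Approx b ((rd U.ι).map g') := by
        constructor
        · intro i hi
          have h1 : IsZero ((DerivedCategory.homologyFunctor _ i).obj ((rd U.ι).obj R')) :=
            (DerivedCategory.isZero_of_isLE (P ⊞ P⟦(1 : ℤ)⟧) b i hi).of_iso
              ((DerivedCategory.homologyFunctor _ i).mapIso (asIso ((rd U.ι).map s) ≪≫ φ))
          exact isIso_of_source_target_iso_zero _ h1.isoZero
            (DerivedCategory.isZero_of_isLE ((rd U.ι).obj E) b i hi).isoZero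
        · rw [hg']
          haveI := hαb.2
          haveI : Epi ((DerivedCategory.homologyFunctor (U : Scheme.{u}).Modules b).map
              (biprod.fst : P ⊞ P⟦(1 : ℤ)⟧ ⟶ P)) := inferInstance
          simp only [Functor.map_comp]
          infer_instance
      have hCU : DerivedCategory.IsLE ((rd U.ι).obj C) (m - rV - 1 + k) := by
        have e : b - 1 = m - rV - 1 + k := by omega
        rw [← e]
        exact (approx_iff ((rd U.ι).map_distinguished _ hC) b).1 happ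
      obtain ⟨P₂, C₂, f₂, p₂, w₂, hT₂, hP₂, hC₂⟩ := ih C (QCohD.AffineUnit.isQCohD_obj₃ hC hR'.pq.1 hq)
        (pc_obj₃ hC hR' hpc) (sf_obj₃ hT hC hR'.2 hs) hCU
      obtain ⟨P₃, α₃, q₃, v₃, hP₃, hP₃K⟩ := exists_comp_triangle (stages_pk hT)
        (fun M n h => h.shift hT n) hC hT₂ hR' hP₂
      exact ⟨P₃, C₂, α₃, q₃, v₃, hP₃, hP₃K, hC₂⟩
  obtain ⟨b, hb⟩ := exists_isLE_of_pc hpc
  obtain ⟨R, C, f, p, w, hC, hR, hCU⟩ := claim (b - (m - rV - 1)).toNat E hq hpc hs (by
    haveI := hb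
    haveI := isLE_rd U.ι E b
    exact DerivedCategory.TStructure.t.isLE_of_le _ b _ (by omega))
  have hCq : DCoh.IsQCohD C := QCohD.AffineUnit.isQCohD_obj₃ hC hR.pq.1 hq
  have hCs := sf_obj₃ hT hC hR.2 hs
  have hCsV : SF (T ∩ (U : Set X)ᶜ) (m - rV) C := fun i hi x hx => ⟨hCs i (by push_cast; omega) hx,
    fun hxU => Set.eq_empty_iff_forall_notMem.1 ((isLE_iff_support _ _).1 hCU i (by omega)) ⟨x, hxU⟩
      ((mem_support_rd U.ι C i ⟨x, hxU⟩).2 hx)⟩
  obtain ⟨Q, D, α, q, v, hD, hQ, hDle⟩ := hapV m _ (QCohD.isQCohD_rd _ hCq)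
    (isPseudoCoherentD_mono (isPseudoCoherentD_rd V.ι (pc_obj₃ hC hR hpc)) (by push_cast; omega))
    (hCsV.rd' V.ι)
  let a := extZeroRdAdj V
  haveI := isIso_extZeroRdAdj_unit V
  let Q' := (CxOX.extZeroD V.ι).obj Q
  let α' : Q' ⟶ C := (a.homEquiv Q C).symm α
  have hQ'Z : SuppIn (T ∩ (U : Set X)ᶜ) Q' := fun i x hx => by
    obtain ⟨y, hy, rfl⟩ := MVPush.support_hd_extZeroD V Q i hx
    exact hQ.2 i hy
  have hQ'U : IsZero ((rd U.ι).obj Q') := (suppIn_compl_iff U Q').1 (hQ'Z.mono Set.inter_subset_right)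
  have hQ' : PK T Q' := by
    refine ⟨isPerfect_of_rd fun x => ?_, hQ'Z.mono Set.inter_subset_left⟩
    rcases hUV x with h | h
    · exact ⟨U, h, isPerfect_zero hQ'U⟩
    · exact ⟨V, h, isPerfect_of_iso (asIso (a.unit.app Q)) hQ.1⟩
  obtain ⟨D', q', v', hD'⟩ := distinguished_cocone_triangle α'
  have hle : D'.IsLE (m - 1) := by
    refine isLE_of_cover (fun b : Bool => if b then U else V) (fun x => ?_) fun b => ?_
    · exact (hUV x).elim (fun h => ⟨true, h⟩) fun h => ⟨false, h⟩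
    cases b
    · have hfac : a.unit.app Q ≫ (rd V.ι).map α' = α :=
        (a.homEquiv_unit _ _ _).symm.trans ((a.homEquiv Q C).apply_symm_apply α)
      have hA : Approx m ((rd V.ι).map α') := by
        have h2 : (rd V.ι).map α' = inv (a.unit.app Q) ≫ α := by rw [← hfac, IsIso.inv_hom_id_assoc]
        rw [h2]
        exact (Approx.of_isIso m _).comp ((approx_iff hD m).2 hDle)
      exact (approx_iff ((rd V.ι).map_distinguished _ hD') m).1 hA
    · haveI : IsIso ((rd U.ι).map q') :=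
        (Triangle.isZero₁_iff_isIso₂ _ ((rd U.ι).map_distinguished _ hD')).1 hQ'U
      haveI := hCU
      have h3 : DerivedCategory.IsLE ((rd U.ι).obj C) (m - 1) :=
        DerivedCategory.TStructure.t.isLE_of_le _ (m - rV - 1) _ (by omega)
      exact ⟨(DerivedCategory.TStructure.t.le (m - 1)).prop_of_iso (asIso ((rd U.ι).map q')) h3.le⟩
  obtain ⟨P, αP, pP, wP, hP, hPK⟩ := exists_comp_triangle (stages_pk hT) (fun M n h => h.shift hT n)
    hC hD' hR hQ'
  exact ⟨P, D', αP, pP, wP, hP, hPK, hle⟩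

theorem exists_hasAppr_of_cover : ∀ (n : ℕ) (X : Scheme.{u}) [CompactSpace X] [QuasiSeparatedSpace X]
    (W : Fin n → X.Opens), (∀ i, IsAffineOpen (W i)) → (∀ x : X, ∃ i, x ∈ W i) →
    ∀ T : Set X, IsClosed T → IsCompact Tᶜ → ∃ r : ℕ, HasAppr T r
  | 0, X, _, _, _, _, hcov, T, _, _ => ⟨0, fun m E _ _ _ => by
      obtain ⟨P, α, p, w, hP, hPK⟩ := id_triangle (E := E) (T := T)
      exact ⟨P, E, α, p, w, hP, hPK, (isLE_iff_support E _).2 fun i _ =>
        Set.eq_empty_iff_forall_notMem.2 fun x _ => (hcov x).choose.elim0⟩⟩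
  | n + 1, X, _, _, W, hW, hcov, T, hT, hTc => by
      let U : X.Opens := ⨆ i : Fin n, W i.castSucc
      let V := W (Fin.last n)
      have hU : IsCompact (U : Set X) := by
        rw [TopologicalSpace.Opens.coe_iSup]
        exact isCompact_iUnion fun i => (hW _).isCompact
      have hUV : ∀ x : X, x ∈ U ∨ x ∈ V := fun x => by
        obtain ⟨i, hi⟩ := hcov x
        exact Fin.lastCases (motive := fun i => x ∈ W i → x ∈ U ∨ x ∈ V) (fun h => Or.inr h)
          (fun j h => Or.inl (TopologicalSpace.Opens.mem_iSup.2 ⟨j, h⟩)) i hi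
      haveI : CompactSpace (U : Scheme.{u}) := isCompact_iff_compactSpace.1 hU
      haveI := qss_opens U
      haveI := quasiCompact_ι U hU
      haveI := quasiCompact_ι V (hW _).isCompact
      haveI : IsAffine (V : Scheme.{u}) := hW _
      obtain ⟨rU, hrU⟩ := exists_hasAppr_of_cover n U (fun i => U.ι ⁻¹ᵁ W i.castSucc)
        (fun i => by
          refine (Scheme.Hom.isAffineOpen_iff_of_isOpenImmersion U.ι).1 ?_
          rw [Scheme.Hom.image_preimage_eq_opensRange_inf, Scheme.Opens.opensRange_ι,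
            inf_eq_right.2 (le_iSup (fun i : Fin n => W i.castSucc) i)]
          exact hW _)
        (fun x => by
          obtain ⟨i, hi⟩ := TopologicalSpace.Opens.mem_iSup.1 x.2
          exact ⟨i, hi⟩)
        (U.ι.base ⁻¹' T) (hT.preimage U.ι.continuous)
        (QuasiCompact.isCompact_preimage (f := U.ι) _ hT.isOpen_compl hTc)
      have hZ : IsClosed (T ∩ (U : Set X)ᶜ) := hT.inter U.isOpen.isClosed_compl
      obtain ⟨rV, hrV⟩ := exists_hasAppr_affine (V : Scheme.{u}) (V.ι.base ⁻¹' (T ∩ (U : Set X)ᶜ))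
        (hZ.preimage V.ι.continuous)
        (QuasiCompact.isCompact_preimage (f := V.ι) _ hZ.isOpen_compl (isCompact_compl_inter_compl hTc hU))
      exact ⟨rU + rV, hasAppr_step U V hU hUV hT hTc hrU hrV⟩

/-- Approximation by perfect complexes. -/
theorem exists_hasAppr [CompactSpace X] [QuasiSeparatedSpace X] (T : Set X) (hT : IsClosed T)
    (hTc : IsCompact Tᶜ) : ∃ r : ℕ, HasAppr T r := by
  classical
  have h : ∀ x : X, ∃ V : X.Opens, IsAffineOpen V ∧ x ∈ V := fun x => by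
    obtain ⟨_, ⟨V, hV, rfl⟩, hx, -⟩ :=
      X.isBasis_affineOpens.exists_subset_of_mem_open (Set.mem_univ x) isOpen_univ
    exact ⟨V, hV, hx⟩
  choose V hV hxV using h
  obtain ⟨s, hs⟩ := isCompact_univ.elim_finite_subcover (fun x => (V x : Set X)) (fun x => (V x).isOpen)
    fun x _ => Set.mem_iUnion.2 ⟨x, hxV x⟩
  refine exists_hasAppr_of_cover s.card X (fun i => V (s.equivFin.symm i).1) (fun i => hV _) (fun x => ?_) T hT hTc
  obtain ⟨y, hy, hxy⟩ := Set.mem_iUnion₂.1 (hs (Set.mem_univ x))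
  exact ⟨s.equivFin ⟨y, hy⟩, by simpa using hxy⟩

end Groth.Agent.H16Derived.Thomason
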