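import Groth.Agent.H16Derived.Thomason.AffineGen
import Groth.Agent.H16Derived.KFlat.PerfCoh

/-!
# Transport of generators along isomorphisms; affine schemes
-/

set_option autoImplicit false
set_option linter.style.haveILetI false

universe u

open CategoryTheory CategoryTheory.Limits CategoryTheory.Pretriangulated AlgebraicGeometry

attribute [local instance] HasDerivedCategory.standard

namespace Groth.Agent.H16Derived.Thomason

open Groth.Agent.H16Derived.KFlat Groth.Agent.H16Derived.KFlat.Stalk

variable {U X : Scheme.{u}} (j : U ⟶ X) [IsOpenImmersion j]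

theorem mem_support_rd (E : DCoh.D X) (i : ℤ) (x : U) :
    x ∈ CohB1.support (DCoh.HD ((rd j).obj E) i) ↔ j.base x ∈ CohB1.support (DCoh.HD E i) := by
  rw [MVPush.support_iso (homologyRdIso j E i)]
  let s := ((Scheme.Modules.restrictStalkNatIso j x).app (DCoh.HD E i)).addCommGroupIsoToAddEquiv
  exact not_congr ⟨fun h => @Equiv.subsingleton _ _ s.symm.toEquiv h,
    fun h => @Equiv.subsingleton _ _ s.toEquiv h⟩

theorem SuppIn.rd' {T : Set X} {E : DCoh.D X} (h : SuppIn T E) : SuppIn (j.base ⁻¹' T) ((rd j).obj E) :=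
  fun i x hx => h i ((mem_support_rd j E i x).1 hx)

theorem suppIn_of_rd (hj : Function.Surjective j.base) {T : Set X} {E : DCoh.D X}
    (h : SuppIn (j.base ⁻¹' T) ((rd j).obj E)) : SuppIn T E := fun i y hy => by
  obtain ⟨x, rfl⟩ := hj y
  exact h i ((mem_support_rd j E i x).2 hy)

theorem isPerfect_of_rd_surjective (hj : Function.Surjective j.base) {E : DCoh.D X}
    (h : DCoh.IsPerfect ((rd j).obj E)) : DCoh.IsPerfect E :=
  isPerfect_of_local fun y => by
    obtain ⟨x, rfl⟩ := hj y
    obtain ⟨W, hW, hm⟩ := (isPerfect_iff _).1 h x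
    exact ⟨W, W.ι ≫ j, inferInstance, ⟨⟨x, hW⟩, rfl⟩, hm.of_rd⟩

theorem isZero_of_rd_surjective (hj : Function.Surjective j.base) {E : DCoh.D X}
    (h : IsZero ((rd j).obj E)) : IsZero E :=
  isZero_of_suppIn_empty (suppIn_of_rd j hj (suppIn_of_isZero h))

/-- Generators transport along surjective open immersions. -/
theorem hasGen_of_surjective (hj : Function.Surjective j.base) {T : Set X}
    (h : HasGen (j.base ⁻¹' T)) : HasGen T := by
  obtain ⟨P, hP, hgen⟩ := h
  haveI := QCohD.hasRpush j
  haveI := isIso_restrictRpushAdj_counit j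
  let adj := restrictRpushAdj j
  letI := rpushCommShift j
  haveI := rpush_isTriangulated j
  let e : (rd j).obj ((DCoh.Rpush j).obj P) ≅ P := asIso (adj.counit.app P)
  have hunit : ∀ E : DCoh.D X, IsIso (adj.unit.app E) := fun E => by
    obtain ⟨C, g, w, hT⟩ := distinguished_cocone_triangle (adj.unit.app E)
    refine (Triangle.isZero₃_iff_isIso₁ _ hT).1 (isZero_of_rd_surjective j hj ?_)
    exact (Triangle.isZero₃_iff_isIso₁ _ ((rd j).map_distinguished _ hT)).2 (isIso_rd_map_unit j E)
  refine ⟨(DCoh.Rpush j).obj P, ⟨isPerfect_of_rd_surjective j hj (isPerfect_of_iso e.symm hP.1),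
    suppIn_of_rd j hj (hP.2.of_iso e.symm)⟩, fun E hE ho => ?_⟩
  haveI := hunit E
  have hz : IsZero ((rd j).obj E) := hgen _ ⟨QCohD.isQCohD_rd _ hE.1, hE.2.rd' j⟩ fun n f => by
    have h0 : ((DCoh.Rpush j).commShiftIso n).inv.app P ≫ (DCoh.Rpush j).map f ≫ inv (adj.unit.app E) = 0 :=
      ho n _
    haveI : (DCoh.Rpush j).Faithful := (restrictRpushAdj j).fullyFaithfulROfIsIsoCounit.faithful
    refine (DCoh.Rpush j).map_injective ?_
    rw [Functor.map_zero]
    refine (cancel_mono (inv (adj.unit.app E))).1 ((cancel_epi (((DCoh.Rpush j).commShiftIso n).inv.app P)).1 ?_)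
    simpa using h0
  exact isZero_of_rd_surjective j hj hz

/-- Affine schemes have generators. -/
theorem hasGen_affine (X : Scheme.{u}) [IsAffine X] (T : Set X) (hT : IsClosed T) (hTc : IsCompact Tᶜ) :
    HasGen T := by
  refine hasGen_of_surjective X.isoSpec.inv (X.isoSpec.inv.homeomorph.surjective) ?_
  let φ := X.isoSpec.inv.homeomorph
  exact hasGen_spec Γ(X, ⊤) _ (hT.preimage φ.continuous) (φ.isCompact_preimage.2 hTc)

end Groth.Agent.H16Derived.Thomason
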