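import Groth.Agent.H16Derived.Thomason.Generator
import Groth.Agent.H16Derived.QCohD.RpushUnb
import Groth.Agent.H16Derived.KFlat.RestrictD

/-!
# Boundedness is detected by a generator
-/

set_option autoImplicit false
set_option linter.style.haveILetI false

universe u

open CategoryTheory CategoryTheory.Limits CategoryTheory.Pretriangulated AlgebraicGeometry Filter

attribute [local instance] HasDerivedCategory.standard

namespace Groth.Agent.H16Derived.Thomason

open Groth.Agent.H16Derived.KFlat Groth.Agent.H16Derived.KFlat.Stalk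

attribute [local instance] hasCoproducts_D small_hom

variable {X : Scheme.{u}} {l : Filter ℤ}

/-- Eventually no maps from `R` into the shifts of `E`. -/
def Ev (l : Filter ℤ) (R E : DCoh.D X) : Prop := ∀ᶠ n in l, ∀ φ : R ⟶ E⟦n⟧, φ = 0

/-- Eventually no cohomology. -/
def Bnd (l : Filter ℤ) (E : DCoh.D X) : Prop := ∀ᶠ n in l, IsZero (DCoh.HD E n)

theorem ev_of_iso {R R' E : DCoh.D X} (e : R ≅ R') (h : Ev l R E) : Ev l R' E :=
  h.mono fun _ hn φ => (cancel_epi e.hom).1 ((hn _).trans comp_zero.symm)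

theorem ev_obj₂ {Tr : Triangle (DCoh.D X)} (hTr : Tr ∈ distTriang (DCoh.D X)) {E : DCoh.D X}
    (h₁ : Ev l Tr.obj₁ E) (h₃ : Ev l Tr.obj₃ E) : Ev l Tr.obj₂ E :=
  (h₁.and h₃).mono fun _ hn φ => by
    obtain ⟨ψ, rfl⟩ := Triangle.yoneda_exact₂ Tr hTr φ (hn.1 _)
    rw [hn.2 ψ, comp_zero]

theorem ev_tgt_obj₂ {Tr : Triangle (DCoh.D X)} (hTr : Tr ∈ distTriang (DCoh.D X)) {R : DCoh.D X}
    (h₁ : Ev l R Tr.obj₁) (h₃ : Ev l R Tr.obj₃) : Ev l R Tr.obj₂ :=
  (h₁.and h₃).mono fun n hn φ => by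
    obtain ⟨ψ, hψ⟩ := Triangle.coyoneda_exact₂ _ (Triangle.shift_distinguished _ hTr n) φ (hn.2 _)
    exact hψ.trans ((congrArg (· ≫ _) (hn.1 ψ)).trans zero_comp)

theorem ev_shift (hl : ∀ k : ℤ, Tendsto (· + k) l l) {R E : DCoh.D X} (h : Ev l R E) (k : ℤ) :
    Ev l (R⟦k⟧) E := by
  refine ((hl (-k)).eventually h).mono fun n hn φ => ?_
  let e := (shiftEquiv (DCoh.D X) k).toAdjunction.homEquiv R (E⟦n⟧)
  let s := (shiftFunctorAdd' (DCoh.D X) n (-k) (n + -k) rfl).app E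
  have h0 : ∀ ψ : R ⟶ (E⟦n⟧)⟦-k⟧, ψ = 0 := fun ψ =>
    (cancel_mono s.inv).1 ((hn _).trans zero_comp.symm)
  exact e.injective ((h0 (e φ)).trans (h0 (e 0)).symm)

theorem ev_tgt_shift (hl : ∀ k : ℤ, Tendsto (· + k) l l) {R E : DCoh.D X} (h : Ev l R E) (k : ℤ) :
    Ev l R (E⟦k⟧) := by
  refine ((hl k).eventually h).mono fun n hn φ => ?_
  exact (cancel_mono ((shiftFunctorAdd' (DCoh.D X) k n (n + k) (add_comm k n)).inv.app E)).1
    ((hn _).trans zero_comp.symm)

theorem stages_ev (hl : ∀ k : ℤ, Tendsto (· + k) l l) (E : DCoh.D X) :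
    Stages (fun R => PK Set.univ R ∧ Ev l R E) where
  zero h := ⟨(stages_pk isClosed_univ).zero h, Eventually.of_forall fun _ φ => h.eq_of_src φ 0⟩
  of_iso e h := ⟨(stages_pk isClosed_univ).of_iso e h.1, ev_of_iso e h.2⟩
  cone Tr hTr h₁ h₂ := ⟨(stages_pk isClosed_univ).cone Tr hTr h₁.1 h₂.1,
    ev_obj₂ (rot_of_distTriang _ hTr) h₂.2 (ev_shift hl h₁.2 1)⟩
  fib Tr hTr h₂ h₃ := ⟨(stages_pk isClosed_univ).fib Tr hTr h₂.1 h₃.1,
    ev_obj₂ (inv_rot_of_distTriang _ hTr) (ev_shift hl h₃.2 (-1)) h₂.2⟩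
  sum₂ A B _ hA hB := ⟨(stages_pk isClosed_univ).sum₂ A B hA.1 hB.1,
    ev_obj₂ (binaryBiproductTriangle_distinguished A B) hA.2 hB.2⟩

/-- Vanishing for a generator implies vanishing for all perfect objects. -/
theorem ev_all [CompactSpace X] [QuasiSeparatedSpace X] (hl : ∀ k : ℤ, Tendsto (· + k) l l)
    {G : DCoh.D X} (hG : DCoh.IsPerfect G)
    (hgen : ∀ E : DCoh.D X, DCoh.IsQCohD E → (∀ (n : ℤ) (φ : G⟦n⟧ ⟶ E), φ = 0) → IsZero E)
    {E : DCoh.D X} (h : Ev l G E) {P : DCoh.D X} (hP : DCoh.IsPerfect P) : Ev l P E := by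
  have hGK : PK Set.univ G := ⟨hG, suppIn_univ G⟩
  have hg : Good (𝟭 (DCoh.D X)) (fun R => PK Set.univ R ∧ Ev l R E)
      (fun t : DCoh.D X => DCoh.IsPerfect t) P :=
    good_of_generated (stages_ev hl E) (fun k : ULift.{u} ℤ => G⟦k.down⟧) (fun M => DCoh.IsQCohD M)
      (loc_pq isClosed_univ) (fun _ n h => h.shift isClosed_univ n) (fun M h => h.1)
      (fun R hR => holds_of_isPerfect (fun _ h => h.1) hR.1.1)
      (fun t ht => holds_of_isPerfect (fun _ h => h) ht)
      (fun k => ⟨hGK.shift isClosed_univ k.down, ev_shift hl h k.down⟩)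
      (fun _ n h => ⟨h.1.shift isClosed_univ n, ev_shift hl h.2 n⟩) (fun _ h => h.1.pq)
      (fun k n => ⟨⟨k.down + n⟩, ⟨(shiftFunctorAdd (DCoh.D X) k.down n).app G⟩⟩)
      (fun M hM h => hgen M hM.1 fun n f => h ⟨n⟩ f) ⟨Dual.isQCohD_of_isPerfect hP, suppIn_univ P⟩
  obtain ⟨R, hR, β, x, hx⟩ := hg.surj P hP (𝟙 P)
  change P ⟶ R at x
  change x ≫ β = 𝟙 P at hx
  exact hR.2.mono fun n hn φ => by rw [← Category.id_comp φ, ← hx, Category.assoc, hn (β ≫ φ), comp_zero]

/-- A test object for cohomology supported in `T`. -/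
def HasTest (T : Set X) : Prop :=
  ∃ K : DCoh.D X, PK T K ∧ ∀ C, PQ T C → ∀ n : ℤ, (∀ φ : K ⟶ C⟦n⟧, φ = 0) → IsZero (DCoh.HD C n)

theorem exists_koszul_pointwise {A : Type u} [CommRing A] : ∀ s : List A, ∃ K : Dual.D A,
    DRing.IsPerfect A K ∧ Killed K ∧ (∀ g ∈ s, GTors g K) ∧
    ∀ E : Dual.D A, (∀ g ∈ s, GTors g E) → ∀ n : ℤ, (∀ f : K ⟶ E⟦n⟧, f = 0) → Subsingleton (Dual.HD A E n)
  | [] => by
      refine ⟨Dual.inD A A, isPerfect_unit, fun g E hE φ => ?_, fun g hg => absurd hg (by simp),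
        fun E _ n h => ?_⟩
      · obtain ⟨N, hN⟩ := hE 0 (H4DR.Ext.evalOne E φ)
        exact ⟨N, (H4DR.Ext.bijective_evalOne E).1 (by rw [map_smul, hN, map_zero])⟩
      · exact subsingleton_of_forall_eq 0 fun x => by
          obtain ⟨f, rfl⟩ := (H4DR.Ext.evalEquiv E n).surjective x
          exact (congrArg (H4DR.Ext.evalEquiv E n) (h f)).trans (map_zero _)
  | g :: s => by
      obtain ⟨K, hK, hkill, htors, hgen⟩ := exists_koszul_pointwise s
      obtain ⟨K', a, b, hT⟩ := distinguished_cocone_triangle (g • 𝟙 K)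
      refine ⟨K', H4DR.TorAmp.isPerfect_obj₃ _ hT hK hK, fun h E hE φ => ?_, fun h hh => ?_,
        fun E hE n ho => ?_⟩
      · obtain ⟨N, hN⟩ := hkill h E hE (a ≫ φ)
        rw [← Linear.comp_smul] at hN
        obtain ⟨ψ, hψ⟩ := Triangle.yoneda_exact₃ _ hT (h ^ N • φ) hN
        change h ^ N • φ = b ≫ ψ at hψ
        obtain ⟨M, hM⟩ := killed_shift hkill (1 : ℤ) h E hE ψ
        exact ⟨M + N, by rw [pow_add, mul_smul, hψ, ← Linear.comp_smul, hM, comp_zero]⟩
      · rcases List.mem_cons.1 hh with rfl | hh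
        · exact fun i x => H4DR.FlatBC.torsion_cone h hT h (Or.inl rfl) i x
        · exact fun i x => H4DR.FlatBC.torsion_cone g hT h (Or.inr (htors h hh)) i x
      · refine hgen E (fun h hh => hE h (List.mem_cons_of_mem _ hh)) n fun f => ?_
        obtain ⟨N, hN⟩ := hkill g (E⟦n⟧) ((hE g List.mem_cons_self).shift n) f
        induction N with
        | zero => simpa using hN
        | succ N ih =>
          refine ih ?_
          obtain ⟨χ, hχ⟩ := Triangle.yoneda_exact₂ _ hT (g ^ N • f) (by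
            show (g • 𝟙 K) ≫ (g ^ N • f) = 0
            rw [Linear.smul_comp, Category.id_comp, smul_smul, ← pow_succ', hN])
          change g ^ N • f = a ≫ χ at hχ
          rw [hχ, ho χ, comp_zero]

theorem hasTest_spec (A : Type u) [CommRing A] (T : Set (Spec (CommRingCat.of A))) (hT : IsClosed T)
    (hTc : IsCompact Tᶜ) : HasTest T := by
  classical
  haveI : PreservesFiniteColimits (tilde.functor (CommRingCat.of A)) :=
    @PreservesColimitsOfSize.preservesFiniteColimits.{0, 0} _ _ _ _ _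
      ((tilde.adjunction (R := CommRingCat.of A)).leftAdjoint_preservesColimits)
  obtain ⟨s, hs⟩ : ∃ s : Finset A, PrimeSpectrum.zeroLocus (s : Set A) = T := by
    obtain ⟨s, hs⟩ := PrimeSpectrum.isCompact_isOpen_iff.1
      ⟨(hTc : IsCompact (Tᶜ : Set (PrimeSpectrum A))), hT.isOpen_compl⟩
    exact ⟨s, compl_injective hs⟩
  subst hs
  obtain ⟨K, hK, -, htors, hgen⟩ := exists_koszul_pointwise s.toList
  let F := DCoh.tildeD (CommRingCat.of A)
  refine ⟨F.obj K, ⟨(S1105.result A K).2 hK, (suppIn_tildeD_iff _ K).2 fun g hg => htors g (Finset.mem_toList.2 hg)⟩,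
    fun E hE n ho => ?_⟩
  obtain ⟨M, ⟨e⟩⟩ := QCohD.exists_tildeD_iso (R := CommRingCat.of A) hE.1
  change Dual.D A at M
  have hM : Subsingleton (Dual.HD A M n) := by
    refine hgen M (fun g hg => (suppIn_tildeD_iff _ M).1 (hE.2.of_iso e.symm) g (Finset.mem_toList.1 hg)) n
      fun f => ?_
    haveI := (QCohD.full_faithful (CommRingCat.of A)).2
    refine F.map_injective ?_
    rw [F.map_zero]
    exact (cancel_mono ((F.commShiftIso n).hom.app M ≫ e.hom⟦n⟧')).1 ((ho _).trans zero_comp.symm)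
  exact (((tilde.functor (CommRingCat.of A)).map_isZero
    (@ModuleCat.isZero_of_subsingleton _ _ (hA M n) hM)).of_iso (hdTilde M n)).of_iso
      ((DerivedCategory.homologyFunctor _ n).mapIso e).symm

theorem isZero_hd_iff (E : DCoh.D X) (n : ℤ) :
    IsZero (DCoh.HD E n) ↔ CohB1.support (DCoh.HD E n) = ∅ :=
  ⟨support_eq_empty_of_isZero, fun h => H17.FPExt.isZero_of_stalk _ fun x => by
    by_contra hx
    exact (Set.eq_empty_iff_forall_notMem.1 h) x hx⟩

theorem hasTest_of_surjective {U : Scheme.{u}} (j : U ⟶ X) [IsOpenImmersion j]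
    (hj : Function.Surjective j.base) {T : Set X} (h : HasTest (j.base ⁻¹' T)) : HasTest T := by
  obtain ⟨P, hP, hgen⟩ := h
  haveI := QCohD.hasRpush j
  haveI := isIso_restrictRpushAdj_counit j
  let adj := restrictRpushAdj j
  letI := rpushCommShift j
  haveI := rpush_isTriangulated j
  let e : (rd j).obj ((DCoh.Rpush j).obj P) ≅ P := asIso (adj.counit.app P)
  refine ⟨(DCoh.Rpush j).obj P, ⟨isPerfect_of_rd_surjective j hj (isPerfect_of_iso e.symm hP.1),
    suppIn_of_rd j hj (hP.2.of_iso e.symm)⟩, fun E hE n ho => ?_⟩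
  haveI : IsIso (adj.unit.app E) := by
    obtain ⟨C, g, w, hT⟩ := distinguished_cocone_triangle (adj.unit.app E)
    refine (Triangle.isZero₃_iff_isIso₁ _ hT).1 (isZero_of_rd_surjective j hj ?_)
    exact (Triangle.isZero₃_iff_isIso₁ _ ((rd j).map_distinguished _ hT)).2 (isIso_rd_map_unit j E)
  have hz := hgen _ ⟨QCohD.isQCohD_rd _ hE.1, hE.2.rd' j⟩ n fun f => by
    haveI : (DCoh.Rpush j).Faithful := (restrictRpushAdj j).fullyFaithfulROfIsIsoCounit.faithful
    refine (DCoh.Rpush j).map_injective ?_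
    rw [Functor.map_zero]
    exact (cancel_mono (((DCoh.Rpush j).commShiftIso n).hom.app _ ≫ (inv (adj.unit.app E))⟦n⟧')).1
      ((ho _).trans zero_comp.symm)
  rw [isZero_hd_iff] at hz ⊢
  refine Set.eq_empty_iff_forall_notMem.2 fun y hy => ?_
  obtain ⟨x, rfl⟩ := hj y
  exact Set.eq_empty_iff_forall_notMem.1 hz x ((mem_support_rd j E n x).2 hy)

theorem hasTest_affine (X : Scheme.{u}) [IsAffine X] (T : Set X) (hT : IsClosed T) (hTc : IsCompact Tᶜ) :
    HasTest T := by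
  let φ := X.isoSpec.inv.homeomorph
  exact hasTest_of_surjective X.isoSpec.inv φ.surjective
    (hasTest_spec Γ(X, ⊤) _ (hT.preimage φ.continuous) (φ.isCompact_preimage.2 hTc))

/-- The two directions. -/
theorem shift_tendsto (hl : l = atTop ∨ l = atBot) (k : ℤ) : Tendsto (· + k) l l := by
  rcases hl with rfl | rfl
  · exact tendsto_atTop_add_const_right _ k tendsto_id
  · exact tendsto_atBot_add_const_right _ k tendsto_id

theorem bnd_atTop_iff (E : DCoh.D X) : Bnd atTop E ↔ ∃ b : ℤ, E.IsLE b := by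
  simp only [Bnd, eventually_atTop, DerivedCategory.isLE_iff]
  exact ⟨fun ⟨N, h⟩ => ⟨N, fun i hi => h i hi.le⟩, fun ⟨b, h⟩ => ⟨b + 1, fun i hi => h i (by omega)⟩⟩

theorem bnd_atBot_iff (E : DCoh.D X) : Bnd atBot E ↔ ∃ a : ℤ, E.IsGE a := by
  simp only [Bnd, eventually_atBot, DerivedCategory.isGE_iff]
  exact ⟨fun ⟨N, h⟩ => ⟨N, fun i hi => h i hi.le⟩, fun ⟨a, h⟩ => ⟨a - 1, fun i hi => h i (by omega)⟩⟩

theorem ev_of_bnd [CompactSpace X] [QuasiSeparatedSpace X] (hl : l = atTop ∨ l = atBot) {P : DCoh.D X}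
    (hP : DCoh.IsPerfect P) {C : DCoh.D X} (hC : DCoh.IsQCohD C) (h : Bnd l C) : Ev l P C := by
  rcases hl with rfl | rfl
  · obtain ⟨b, hb⟩ := (bnd_atTop_iff C).1 h
    obtain ⟨c, hc⟩ := QCohD.HomVanish.van_of_isPerfect hP
    refine eventually_atTop.2 ⟨b - c + 1, fun n hn φ => ?_⟩
    haveI := hb
    exact hc _ (QCohD.HomVanish.isQCohD_shift hC n) (b - n) (by omega)
      (DerivedCategory.TStructure.t.isLE_shift C b n (b - n) (by omega)) φ
  · obtain ⟨a, ha⟩ := (bnd_atBot_iff C).1 h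
    obtain ⟨b, hb⟩ := exists_isLE_of_local (fun x => by
      obtain ⟨V, hx, hV⟩ := (isPseudoCoherentD_iff _ _).1 (isPseudoCoherentD_of_isPerfect hP 0) x
      obtain ⟨n, hn⟩ := hV.exists_isLE
      exact ⟨V, n, hx, hn⟩)
    refine eventually_atBot.2 ⟨a - b - 1, fun n hn φ => ?_⟩
    haveI := ha; haveI := hb
    haveI := DerivedCategory.TStructure.t.isGE_shift C a n (a - n) (by omega)
    exact DerivedCategory.TStructure.t.zero φ b (a - n) (by omega)

theorem bnd_rpush [CompactSpace X] [QuasiSeparatedSpace X] (hl : l = atTop ∨ l = atBot) (U : X.Opens)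
    [QuasiCompact U.ι] [DCoh.HasRpush U.ι] {F : DCoh.D (U : Scheme.{u})} (hF : DCoh.IsQCohD F)
    (h : Bnd l F) : Bnd l ((DCoh.Rpush U.ι).obj F) := by
  rcases hl with rfl | rfl
  · obtain ⟨b, hb⟩ := (bnd_atTop_iff F).1 h
    obtain ⟨N, hN⟩ := QCohD.exists_bound U.ι
    haveI := hb
    exact eventually_atTop.2 ⟨b + N, fun m hm => QCohD.isZero_rpush_of_isLE U.ι hN F hF b m hm⟩
  · obtain ⟨a, ha⟩ := (bnd_atBot_iff F).1 h
    haveI := ha
    exact (bnd_atBot_iff _).2 ⟨a, isGE_rpush U.ι F a⟩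

theorem bnd_obj₁ (hl : ∀ k : ℤ, Tendsto (· + k) l l) {Tr : Triangle (DCoh.D X)}
    (hTr : Tr ∈ distTriang (DCoh.D X)) (h₂ : Bnd l Tr.obj₂) (h₃ : Bnd l Tr.obj₃) : Bnd l Tr.obj₁ := by
  refine (h₂.and ((hl (-1)).eventually h₃)).mono fun n hn => ?_
  refine (DerivedCategory.HomologySequence.exact₂ _ (inv_rot_of_distTriang _ hTr) n).isZero_of_both_zeros
    ?_ (IsZero.eq_of_tgt hn.1 _ _)
  exact IsZero.eq_of_src (hn.2.of_iso
    (((DerivedCategory.homologyFunctor X.Modules 0).shiftIso (-1) n (n + -1) (by omega)).app Tr.obj₃)) _ _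

/-- The inductive step. -/
theorem bnd_step [CompactSpace X] [QuasiSeparatedSpace X] (hl : l = atTop ∨ l = atBot) (U V : X.Opens)
    (hU : IsCompact (U : Set X)) (hV : IsAffineOpen V) (hUV : ∀ x : X, x ∈ U ∨ x ∈ V) {E : DCoh.D X}
    (hE : DCoh.IsQCohD E) (hev : ∀ P : DCoh.D X, DCoh.IsPerfect P → Ev l P E)
    (hind : ∀ F : DCoh.D (U : Scheme.{u}), DCoh.IsQCohD F →
      (∀ P : DCoh.D (U : Scheme.{u}), DCoh.IsPerfect P → Ev l P F) → Bnd l F) : Bnd l E := by
  have hl' := shift_tendsto hl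
  haveI : CompactSpace (U : Scheme.{u}) := isCompact_iff_compactSpace.1 hU
  haveI := qss_opens U
  haveI := quasiCompact_ι U hU
  haveI := quasiCompact_ι V hV.isCompact
  haveI : IsAffine (V : Scheme.{u}) := hV
  haveI := QCohD.hasRpush U.ι
  haveI := preservesFiniteLimits_extZero V
  haveI := isIso_extZeroRdAdj_unit V
  letI := rpushCommShift U.ι
  haveI := rpush_isTriangulated U.ι
  let adj := restrictRpushAdj U.ι
  let a := extZeroRdAdj V
  let F := (rd U.ι).obj E
  let G := DCoh.Rpush U.ι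
  let N := G.obj F
  have hFq : DCoh.IsQCohD F := QCohD.isQCohD_rd _ hE
  obtain ⟨C, c, δ, hC⟩ := distinguished_cocone_triangle (adj.unit.app E)
  have hCU : IsZero ((rd U.ι).obj C) :=
    (Triangle.isZero₃_iff_isIso₁ _ ((rd U.ι).map_distinguished _ hC)).2 (isIso_rd_map_unit U.ι E)
  have hCq : DCoh.IsQCohD C := QCohD.AffineUnit.isQCohD_obj₃ hC hE (QCohD.isQCohD_rpush U.ι hFq)
  have hZ : IsClosed ((U : Set X)ᶜ) := U.isOpen.isClosed_compl
  obtain ⟨K, hK, htest⟩ := hasTest_affine (V : Scheme.{u}) (V.ι.base ⁻¹' (U : Set X)ᶜ)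
    (hZ.preimage V.ι.continuous)
    (QuasiCompact.isCompact_preimage (f := V.ι) _ hZ.isOpen_compl (by rwa [compl_compl]))
  let K' := (CxOX.extZeroD V.ι).obj K
  have hK'U : IsZero ((rd U.ι).obj K') := (suppIn_compl_iff U K').1 fun i x hx => by
    obtain ⟨y, hy, rfl⟩ := MVPush.support_hd_extZeroD V K i hx
    exact hK.2 i hy
  have hK' : DCoh.IsPerfect K' := isPerfect_of_rd fun x => by
    rcases hUV x with h | h
    · exact ⟨U, h, isPerfect_zero hK'U⟩
    · exact ⟨V, h, isPerfect_of_iso (asIso (a.unit.app K)) hK.1⟩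
  have hK'N : Ev l K' N := Eventually.of_forall fun n φ => by
    refine (cancel_mono ((G.commShiftIso n).inv.app F)).1 ?_
    rw [zero_comp]
    refine (adj.homEquiv K' _).symm.injective ?_
    exact hK'U.eq_of_src _ _
  have hK'C : Ev l K' C := ev_tgt_obj₂ (rot_of_distTriang _ hC) hK'N (ev_tgt_shift hl' (hev K' hK') 1)
  have hCb : Bnd l C := hK'C.mono fun n hn => by
    have h1 : IsZero (DCoh.HD ((rd V.ι).obj C) n) :=
      htest _ ⟨QCohD.isQCohD_rd _ hCq, ((suppIn_compl_iff U C).2 hCU).rd' V.ι⟩ n fun φ => by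
        refine (cancel_mono (((rd V.ι).commShiftIso n).inv.app C)).1 ?_
        rw [zero_comp]
        exact (a.homEquiv K _).symm.injective ((hn _).trans (hn _).symm)
    rw [isZero_hd_iff] at h1 ⊢
    refine Set.eq_empty_iff_forall_notMem.2 fun x hx => ?_
    rcases hUV x with h | h
    · exact (suppIn_compl_iff U C).2 hCU n hx h
    · exact Set.eq_empty_iff_forall_notMem.1 h1 (⟨x, h⟩ : (V : Scheme.{u}))
        ((mem_support_rd V.ι C n _).2 hx)
  have hN : ∀ P : DCoh.D X, DCoh.IsPerfect P → Ev l P N := fun P hP =>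
    ev_tgt_obj₂ hC (hev P hP) (ev_of_bnd hl hP hCq hCb)
  have hF : ∀ P : DCoh.D (U : Scheme.{u}), DCoh.IsPerfect P → Ev l P F := fun P hP => by
    obtain ⟨R, i, p, hR, hip⟩ := exists_summand U hU (T := Set.univ) isClosed_univ
      (hasGen _ isClosed_univ (by simp)) hP (fun _ => Set.subset_univ _)
    refine (hN R hR.1).mono fun n hn φ => ?_
    have h0 : p ≫ φ = 0 := by
      refine (adj.homEquiv R _).injective ?_
      refine (cancel_mono ((G.commShiftIso n).hom.app F)).1 ?_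
      exact (hn _).trans (hn _).symm
    rw [← Category.id_comp φ, ← hip, Category.assoc, h0, comp_zero]
  exact bnd_obj₁ hl' hC (bnd_rpush hl U hFq (hind F hFq hF)) hCb

theorem bnd_of_cover (hl : l = atTop ∨ l = atBot) : ∀ (n : ℕ) (X : Scheme.{u}) [CompactSpace X]
    [QuasiSeparatedSpace X] (W : Fin n → X.Opens), (∀ i, IsAffineOpen (W i)) → (∀ x : X, ∃ i, x ∈ W i) →
    ∀ E : DCoh.D X, DCoh.IsQCohD E → (∀ P : DCoh.D X, DCoh.IsPerfect P → Ev l P E) → Bnd l E
  | 0, X, _, _, _, _, hcov, E, _, _ => Eventually.of_forall fun n => (isZero_hd_iff E n).2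
      (Set.eq_empty_iff_forall_notMem.2 fun x _ => (hcov x).choose.elim0)
  | n + 1, X, _, _, W, hW, hcov, E, hE, hev => by
      let U : X.Opens := ⨆ i : Fin n, W i.castSucc
      let V := W (Fin.last n)
      have hU : IsCompact (U : Set X) := by
        rw [TopologicalSpace.Opens.coe_iSup]
        exact isCompact_iUnion fun i => (hW _).isCompact
      have hUV : ∀ x : X, x ∈ U ∨ x ∈ V := fun x => by
        obtain ⟨i, hi⟩ := hcov x
        exact Fin.lastCases (motive := fun i => x ∈ W i → x ∈ U ∨ x ∈ V) (fun h => Or.inr h)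
          (fun j h => Or.inl (TopologicalSpace.Opens.mem_iSup.2 ⟨j, h⟩)) i hi
      haveI : CompactSpace (U : Scheme.{u}) := isCompact_iff_compactSpace.1 hU
      haveI := qss_opens U
      refine bnd_step hl U V hU (hW _) hUV hE hev fun F hF hevF =>
        bnd_of_cover hl n U (fun i => U.ι ⁻¹ᵁ W i.castSucc)
          (fun i => by
            refine (Scheme.Hom.isAffineOpen_iff_of_isOpenImmersion U.ι).1 ?_
            rw [Scheme.Hom.image_preimage_eq_opensRange_inf, Scheme.Opens.opensRange_ι,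
              inf_eq_right.2 (le_iSup (fun i : Fin n => W i.castSucc) i)]
            exact hW _)
          (fun x => by
            obtain ⟨i, hi⟩ := TopologicalSpace.Opens.mem_iSup.1 x.2
            exact ⟨i, hi⟩) F hF hevF

/-- Boundedness is detected by vanishing of maps from a generator. -/
theorem bnd_iff_ev [CompactSpace X] [QuasiSeparatedSpace X] (hl : l = atTop ∨ l = atBot)
    {G : DCoh.D X} (hG : DCoh.IsPerfect G)
    (hgen : ∀ E : DCoh.D X, DCoh.IsQCohD E → (∀ (n : ℤ) (φ : G⟦n⟧ ⟶ E), φ = 0) → IsZero E)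
    {E : DCoh.D X} (hE : DCoh.IsQCohD E) : Bnd l E ↔ Ev l G E := by
  refine ⟨ev_of_bnd hl hG hE, fun h => ?_⟩
  classical
  have h' : ∀ x : X, ∃ V : X.Opens, IsAffineOpen V ∧ x ∈ V := fun x => by
    obtain ⟨_, ⟨V, hV, rfl⟩, hx, -⟩ :=
      X.isBasis_affineOpens.exists_subset_of_mem_open (Set.mem_univ x) isOpen_univ
    exact ⟨V, hV, hx⟩
  choose V hV hxV using h'
  obtain ⟨s, hs⟩ := isCompact_univ.elim_finite_subcover (fun x => (V x : Set X)) (fun x => (V x).isOpen)
    fun x _ => Set.mem_iUnion.2 ⟨x, hxV x⟩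
  refine bnd_of_cover hl s.card X (fun i => V (s.equivFin.symm i).1) (fun i => hV _) (fun x => ?_) E hE
    fun P hP => ev_all (shift_tendsto hl) hG hgen h hP
  obtain ⟨y, hy, hxy⟩ := Set.mem_iUnion₂.1 (hs (Set.mem_univ x))
  exact ⟨s.equivFin ⟨y, hy⟩, by simpa using hxy⟩

/-- Shifting the source. -/
theorem forall_shift_neg_iff (G E : DCoh.D X) (i : ℤ) :
    (∀ φ : G⟦-i⟧ ⟶ E, φ = 0) ↔ ∀ φ : G ⟶ E⟦i⟧, φ = 0 := by
  let c := shiftFunctorCompIsoId (DCoh.D X) i (-i) (add_neg_cancel i)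
  let c' := shiftFunctorCompIsoId (DCoh.D X) (-i) i (neg_add_cancel i)
  constructor
  · intro h φ
    exact (shiftFunctor _ (-i)).map_eq_zero_iff.1
      ((cancel_mono (c.hom.app E)).1 ((h _).trans zero_comp.symm))
  · intro h φ
    exact (shiftFunctor _ i).map_eq_zero_iff.1
      ((cancel_epi (c'.inv.app G)).1 ((h _).trans comp_zero.symm))

end Groth.Agent.H16Derived.Thomason
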