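import Groth.Agent.H16Derived.Thomason.IsoTransport
import Groth.Agent.H16Derived.KFlat.SheafStalk

/-!
# Gluing objects supported on two opens along extensions by zero
-/

set_option autoImplicit false
set_option linter.style.haveILetI false

universe v v' u u'

open CategoryTheory CategoryTheory.Limits CategoryTheory.Pretriangulated AlgebraicGeometry

attribute [local instance] HasDerivedCategory.standard

namespace Groth.Agent.H16Derived.Thomason

theorem isIso_neg' {C : Type*} [Category C] [Preadditive C] {X Y : C} (f : X ⟶ Y) [IsIso f] : IsIso (-f) :=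
  ⟨-inv f, by simp, by simp⟩

section

variable {C : Type u} [Category.{v} C] [Preadditive C] [HasZeroObject C] [HasShift C ℤ]
  [∀ n : ℤ, (shiftFunctor C n).Additive] [Pretriangulated C] [IsTriangulated C]
  {C' : Type u'} [Category.{v'} C'] [Preadditive C'] [HasZeroObject C'] [HasShift C' ℤ]
  [∀ n : ℤ, (shiftFunctor C' n).Additive] [Pretriangulated C']

/-- A summand maps isomorphically to a cone when the other component of the map is inverted. -/
theorem isIso_map_comp_cone (L : C ⥤ C') [L.CommShift ℤ] [L.IsTriangulated] {A X₁ X₂ Z₁₂ N : C}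
    (u : X₁ ⟶ X₂) (v : X₂ ⟶ Z₁₂) (h₁₂ : Triangle.mk u v 0 ∈ distTriang C)
    (φ : A ⟶ X₂) (c : X₂ ⟶ N) (e : N ⟶ A⟦(1 : ℤ)⟧) (hN : Triangle.mk φ c e ∈ distTriang C)
    (h : IsIso (L.map (φ ≫ v))) : IsIso (L.map (u ≫ c)) := by
  obtain ⟨D, v₁₃, w₁₃, h₁₃⟩ := distinguished_cocone_triangle (u ≫ c)
  let o := Triangulated.someOctahedron rfl h₁₂ (rot_of_distTriang _ hN) h₁₃
  have h3 : IsIso (L.map o.triangle.mor₃) := by
    have he : o.triangle.mor₃ = -(φ ≫ v)⟦(1 : ℤ)⟧' := by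
      show (-φ⟦(1 : ℤ)⟧') ≫ v⟦(1 : ℤ)⟧' = _
      rw [Preadditive.neg_comp, ← Functor.map_comp]
    haveI := h
    haveI : IsIso ((L.map (φ ≫ v))⟦(1 : ℤ)⟧') := inferInstance
    haveI : IsIso (L.map ((φ ≫ v)⟦(1 : ℤ)⟧')) :=
      (NatIso.isIso_map_iff (L.commShiftIso (1 : ℤ)) (φ ≫ v)).2 ‹_›
    have h' : IsIso (L.map (-(φ ≫ v)⟦(1 : ℤ)⟧')) := by
      rw [Functor.map_neg]; exact isIso_neg' _
    exact (congrArg (fun t => IsIso (L.map t)) he).mpr h'
  have hD : IsZero (L.obj D) :=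
    (Triangle.isZero₂_iff_isIso₃ _ (L.map_distinguished _ o.mem)).2 (by
      show IsIso (L.map o.triangle.mor₃ ≫ (L.commShiftIso (1 : ℤ)).hom.app _)
      infer_instance)
  exact (Triangle.isZero₃_iff_isIso₁ _ (L.map_distinguished _ h₁₃)).1 hD

end

open Groth.Agent.H16Derived.KFlat Groth.Agent.H16Derived.KFlat.Stalk

variable {X : Scheme.{u}}

/-- Supports in arbitrary subsets are closed under cones. -/
theorem suppIn_cone {S : Set X} {Tr : Triangle (DCoh.D X)} (hTr : Tr ∈ distTriang (DCoh.D X))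
    (h₁ : SuppIn S Tr.obj₁) (h₂ : SuppIn S Tr.obj₂) : SuppIn S Tr.obj₃ := fun i x hx => by
  by_contra hxS
  have hsub : ∀ {M : X.Modules}, CohB1.support M ⊆ S → IsZero ((DerSch.stalkFunctor X x).obj M) := by
    intro M hM
    haveI : Subsingleton ((DerSch.stalkFunctor X x).obj M) := not_not.1 fun hh => hxS (hM hh)
    exact ModuleCat.isZero_of_subsingleton _
  have h1' : CohB1.support (DCoh.HD (Tr.obj₁⟦(1 : ℤ)⟧) i) ⊆ S := by
    exact (MVPush.support_iso (((DerivedCategory.homologyFunctor X.Modules 0).shiftIso (1 : ℤ) i (i + 1)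
      (by omega)).app Tr.obj₁)).trans_subset (h₁ (i + 1))
  let F := DerivedCategory.homologyFunctor X.Modules i
  have hex := (exact_iff _).1 (F.map_distinguished_exact Tr.rotate (rot_of_distTriang _ hTr)) x
  have hz : IsZero ((DerSch.stalkFunctor X x).obj (DCoh.HD Tr.obj₃ i)) :=
    hex.isZero_of_both_zeros ((hsub (h₂ i)).eq_of_src _ _) ((hsub h1').eq_of_tgt _ _)
  exact hx (ModuleCat.subsingleton_of_isZero hz)

/-- `j_! ⊣ j^*` on derived categories. -/
noncomputable def extZeroRdAdj (W : X.Opens) [PreservesFiniteLimits (CxOX.extZero W.ι)] :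
    CxOX.extZeroD W.ι ⊣ rd W.ι :=
  ExactAdj.mapDerivedCategoryAdj (CxOX.extZeroAdj W.ι)

theorem isIso_extZeroRdAdj_unit (W : X.Opens) [PreservesFiniteLimits (CxOX.extZero W.ι)] :
    IsIso (extZeroRdAdj W).unit := by
  haveI := QCohD.MV.isIso_extZero_unit W
  haveI : ∀ F, IsIso ((extZeroRdAdj W).unit.app F) := fun F => by
    obtain ⟨F₀, ⟨i⟩⟩ : ∃ F₀ : CochainComplex (W : Scheme.{u}).Modules ℤ,
        Nonempty (DerivedCategory.Q.obj F₀ ≅ F) := ⟨_, ⟨DerivedCategory.Q.objObjPreimageIso F⟩⟩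
    refine (NatTrans.isIso_app_iff_of_iso (extZeroRdAdj W).unit i).1 ?_
    show IsIso ((ExactAdj.mapDerivedCategoryAdj (CxOX.extZeroAdj W.ι)).unit.app (DerivedCategory.Q.obj F₀))
    rw [ExactAdj.mapDerivedCategoryAdj]
    erw [Adjunction.localization_unit_app]
    haveI : ∀ n, IsIso (((mapHomologicalComplexAdj (CxOX.extZeroAdj W.ι)
        (ComplexShape.up ℤ)).unit.app F₀).f n) := fun n =>
      inferInstanceAs (IsIso ((CxOX.extZeroAdj W.ι).unit.app (F₀.X n)))
    haveI : IsIso ((mapHomologicalComplexAdj (CxOX.extZeroAdj W.ι) (ComplexShape.up ℤ)).unit.app F₀) :=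
      HomologicalComplex.Hom.isIso_of_components _
    infer_instance
  exact NatIso.isIso_of_isIso_app _

theorem isIso_rd_map_counit (W : X.Opens) [PreservesFiniteLimits (CxOX.extZero W.ι)] (E : DCoh.D X) :
    IsIso ((rd W.ι).map ((extZeroRdAdj W).counit.app E)) := by
  haveI := isIso_extZeroRdAdj_unit W
  let a := extZeroRdAdj W
  haveI : IsIso (a.unit.app ((rd W.ι).obj E) ≫ (rd W.ι).map (a.counit.app E)) := by
    have h := a.right_triangle_components E
    exact h.symm ▸ (inferInstance : IsIso (𝟙 ((rd W.ι).obj E)))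
  exact IsIso.of_isIso_comp_left (a.unit.app ((rd W.ι).obj E)) ((rd W.ι).map (a.counit.app E))

theorem suppIn_extZeroD (W : X.Opens) [PreservesFiniteLimits (CxOX.extZero W.ι)]
    (F : DCoh.D (W : Scheme.{u})) : SuppIn (W : Set X) ((CxOX.extZeroD W.ι).obj F) := fun i x hx => by
  obtain ⟨w, -, rfl⟩ := MVPush.support_hd_extZeroD W F i hx
  exact w.2

/-- A map to an object supported in `V` whose restriction to `U ∩ V` is invertible, on `U`. -/
theorem isIso_rd_of_isIso_inf (U V : X.Opens) {A B : DCoh.D X} (f : A ⟶ B)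
    (hA : SuppIn (V : Set X) A) (hB : SuppIn (V : Set X) B) (h : IsIso ((rd (U ⊓ V).ι).map f)) :
    IsIso ((rd U.ι).map f) := by
  obtain ⟨C, v, w, hT⟩ := distinguished_cocone_triangle f
  have hW : IsZero ((rd (U ⊓ V).ι).obj C) :=
    (Triangle.isZero₃_iff_isIso₁ _ ((rd (U ⊓ V).ι).map_distinguished _ hT)).2 h
  refine (Triangle.isZero₃_iff_isIso₁ _ ((rd U.ι).map_distinguished _ hT)).1 ?_
  show IsZero ((rd U.ι).obj C)
  rw [← suppIn_compl_iff] at hW ⊢
  intro i x hx hxU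
  exact hW i hx ⟨hxU, suppIn_cone hT hA hB i hx⟩

/-- Gluing. -/
theorem exists_glue (U V : X.Opens) (F : DCoh.D (U : Scheme.{u})) (G : DCoh.D (V : Scheme.{u}))
    (δ : (rd (X.homOfLE (inf_le_left : U ⊓ V ≤ U))).obj F ≅ (rd (X.homOfLE (inf_le_right : U ⊓ V ≤ V))).obj G) :
    ∃ N : DCoh.D X, Nonempty ((rd U.ι).obj N ≅ F) ∧ Nonempty ((rd V.ι).obj N ≅ G) := by
  let W := U ⊓ V
  haveI := preservesFiniteLimits_extZero U
  haveI := preservesFiniteLimits_extZero V
  haveI := preservesFiniteLimits_extZero W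
  let MU := (CxOX.extZeroD U.ι).obj F
  let MV := (CxOX.extZeroD V.ι).obj G
  obtain ⟨eU⟩ := MVPush.nonempty_restrictD_extZeroD U F
  obtain ⟨eV⟩ := MVPush.nonempty_restrictD_extZeroD V G
  let dU := rdComp (X.homOfLE (inf_le_left : W ≤ U)) U.ι W.ι (X.homOfLE_ι _) MU ≪≫ (rd _).mapIso eU
  let dV := rdComp (X.homOfLE (inf_le_right : W ≤ V)) V.ι W.ι (X.homOfLE_ι _) MV ≪≫ (rd _).mapIso eV
  let a := extZeroRdAdj W
  let A := (CxOX.extZeroD W.ι).obj ((rd W.ι).obj MU)
  let f₁ : A ⟶ MU := a.counit.app MU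
  let f₂ : A ⟶ MV := (CxOX.extZeroD W.ι).map (dU ≪≫ δ ≪≫ dV.symm).hom ≫ a.counit.app MV
  haveI hW₁ : IsIso ((rd W.ι).map f₁) := isIso_rd_map_counit W MU
  haveI hW₂ : IsIso ((rd W.ι).map f₂) := by
    haveI := isIso_rd_map_counit W MV
    haveI h' : IsIso ((rd W.ι).map (a.counit.app MV)) := isIso_rd_map_counit W MV
    haveI : IsIso ((CxOX.extZeroD W.ι).map (dU ≪≫ δ ≪≫ dV.symm).hom) := inferInstance
    rw [show (rd W.ι).map f₂ = _ from Functor.map_comp _ _ _]
    infer_instance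
  have hsA : ∀ Z : X.Opens, W ≤ Z → SuppIn (Z : Set X) A := fun Z hZ =>
    (suppIn_extZeroD W _).mono hZ
  have h₁ : IsIso ((rd V.ι).map f₁) := by
    refine isIso_rd_of_isIso_inf V U f₁ (hsA U inf_le_left) (suppIn_extZeroD U F) ?_
    rw [inf_comm]; exact hW₁
  have h₂ : IsIso ((rd U.ι).map f₂) :=
    isIso_rd_of_isIso_inf U V f₂ (hsA V inf_le_right) (suppIn_extZeroD V G) hW₂
  let φ : A ⟶ MU ⊞ MV := biprod.lift f₁ (-f₂)
  obtain ⟨N, c, e, hN⟩ := distinguished_cocone_triangle φ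
  refine ⟨N, ?_, ?_⟩
  · haveI : IsIso ((rd U.ι).map (biprod.inl ≫ c)) := by
      refine isIso_map_comp_cone (rd U.ι) biprod.inl biprod.snd
        (binaryBiproductTriangle_distinguished MU MV) φ c e hN ?_
      rw [biprod.lift_snd, Functor.map_neg]
      haveI := h₂
      exact isIso_neg' _
    exact ⟨(asIso ((rd U.ι).map (biprod.inl ≫ c))).symm ≪≫ eU⟩
  · haveI : IsIso ((rd V.ι).map (biprod.inr ≫ c)) := by
      refine isIso_map_comp_cone (rd V.ι) biprod.inr biprod.fst ?_ φ c e hN ?_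
      · refine isomorphic_distinguished _ (binaryBiproductTriangle_distinguished MV MU) _ ?_
        exact Triangle.isoMk _ _ (Iso.refl _) (biprod.braiding MU MV) (Iso.refl _)
          (by show biprod.inr ≫ (biprod.braiding MU MV).hom = 𝟙 MV ≫ biprod.inl; apply biprod.hom_ext <;> simp)
          (by show biprod.fst ≫ 𝟙 MU = (biprod.braiding MU MV).hom ≫ biprod.snd; simp)
          (by exact zero_comp.trans comp_zero.symm)
      · rw [biprod.lift_fst]
        exact h₁
    exact ⟨(asIso ((rd V.ι).map (biprod.inr ≫ c))).symm ≪≫ eV⟩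

end Groth.Agent.H16Derived.Thomason
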