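import Groth.Agent.H16Derived.Thomason.ExtendAffine
import Groth.Agent.H16Derived.Thomason.Glue

/-!
# Perfect generators on quasi-compact quasi-separated schemes
-/

set_option autoImplicit false
set_option linter.style.haveILetI false

universe u

open CategoryTheory CategoryTheory.Limits CategoryTheory.Pretriangulated AlgebraicGeometry ZeroObject

attribute [local instance] HasDerivedCategory.standard

namespace Groth.Agent.H16Derived.Thomason

open Groth.Agent.H16Derived.KFlat Groth.Agent.H16Derived.KFlat.Stalk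

attribute [local instance] hasCoproducts_D

/-- No maps into any shift. -/
def Orth {X : Scheme.{u}} (P E : DCoh.D X) : Prop := ∀ (n : ℤ) (f : P ⟶ E⟦n⟧), f = 0

theorem orth_iff {X : Scheme.{u}} (P E : DCoh.D X) :
    Orth P E ↔ ∀ (n : ℤ) (f : P⟦n⟧ ⟶ E), f = 0 := by
  constructor
  · intro h n f
    let c := shiftFunctorCompIsoId (DCoh.D X) n (-n) (add_neg_cancel n)
    have h0 : c.inv.app P ≫ f⟦-n⟧' = 0 := h (-n) _
    exact (shiftFunctor _ (-n)).map_eq_zero_iff.1 ((cancel_epi (c.inv.app P)).1 (h0.trans comp_zero.symm))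
  · intro h n f
    let c := shiftFunctorCompIsoId (DCoh.D X) n (-n) (add_neg_cancel n)
    have h0 : f⟦-n⟧' ≫ c.hom.app E = 0 := h (-n) _
    exact (shiftFunctor _ (-n)).map_eq_zero_iff.1 ((cancel_mono (c.hom.app E)).1 (h0.trans zero_comp.symm))

theorem quasiSeparatedSpace_opens {X : Scheme.{u}} [QuasiSeparatedSpace X] (U : X.Opens) :
    QuasiSeparatedSpace (U : Scheme.{u}) := qss_opens U

variable {X : Scheme.{u}} [CompactSpace X] [QuasiSeparatedSpace X]

/-- The inductive step. -/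
theorem hasGen_step (U V : X.Opens) (hU : IsCompact (U : Set X)) (hV : IsAffineOpen V) (hUV : U ⊔ V = ⊤)
    (T : Set X) (hT : IsClosed T) (hTc : IsCompact Tᶜ)
    (hgenU : ∀ S : Set (U : Scheme.{u}), IsClosed S → IsCompact Sᶜ → HasGen S) : HasGen T := by
  haveI : CompactSpace (U : Scheme.{u}) := isCompact_iff_compactSpace.1 hU
  haveI := qss_opens U
  haveI := qss_opens V
  haveI : IsAffine (V : Scheme.{u}) := hV
  haveI := quasiCompact_ι U hU
  haveI := quasiCompact_ι V hV.isCompact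
  haveI := QCohD.hasRpush U.ι
  haveI := preservesFiniteLimits_extZero V
  have hcompl : ∀ W : X.Opens, IsCompact (W : Set X) → QuasiCompact W.ι := fun W hW => quasiCompact_ι W hW
  have hTU : IsCompact (U.ι.base ⁻¹' T)ᶜ :=
    QuasiCompact.isCompact_preimage (f := U.ι) _ hT.isOpen_compl hTc
  have hTV : IsCompact (V.ι.base ⁻¹' T)ᶜ :=
    QuasiCompact.isCompact_preimage (f := V.ι) _ hT.isOpen_compl hTc
  have hcl : IsClosed (U.ι.base ⁻¹' T) := hT.preimage U.ι.continuous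
  have hclV : IsClosed (V.ι.base ⁻¹' T) := hT.preimage V.ι.continuous
  obtain ⟨P, hP, hPgen⟩ := hgenU _ hcl hTU
  -- the trace of `U` on `V`
  let WV : (V : Scheme.{u}).Opens := V.ι ⁻¹ᵁ U
  have hWV : IsCompact (WV : Set (V : Scheme.{u})) :=
    QuasiCompact.isCompact_preimage (f := V.ι) _ U.isOpen hU
  have hrange : Set.range (WV.ι ≫ V.ι).base ⊆ Set.range U.ι.base := by
    rintro _ ⟨w, rfl⟩
    rw [Scheme.Opens.range_ι]
    exact w.2
  let κ : (WV : Scheme.{u}) ⟶ U := IsOpenImmersion.lift U.ι (WV.ι ≫ V.ι) hrange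
  have hκ : κ ≫ U.ι = WV.ι ≫ V.ι := IsOpenImmersion.lift_fac _ _ _
  haveI : IsOpenImmersion κ := by
    haveI : IsOpenImmersion (κ ≫ U.ι) := by rw [hκ]; infer_instance
    exact IsOpenImmersion.of_comp κ U.ι
  let Q : DCoh.D (WV : Scheme.{u}) := (rd κ).obj P
  have hQT : SuppIn (WV.ι.base ⁻¹' (V.ι.base ⁻¹' T)) Q := fun i w hw => by
    have h1 : U.ι.base (κ.base w) ∈ T := hP.2.rd' κ i hw
    have h2 : U.ι.base (κ.base w) = V.ι.base (WV.ι.base w) := congr($(hκ).base w)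
    show V.ι.base (WV.ι.base w) ∈ T
    exact h2 ▸ h1
  obtain ⟨R, hR, ⟨eR⟩⟩ := exists_extend WV hWV hclV hTV (hasGen_affine _ _ hclV hTV)
    (hasGen_affine _ _ (hclV.inter WV.isOpen.isClosed_compl) (isCompact_compl_inter_compl hTV hWV))
    (isPerfect_rd κ hP.1) hQT
  -- comparison on the intersection
  let P' : DCoh.D (U : Scheme.{u}) := P ⊞ P⟦(1 : ℤ)⟧
  have hP' : PK (U.ι.base ⁻¹' T) P' := (stages_pk hcl).sum₂ _ _ hP (hP.shift hcl 1)
  haveI : PreservesBinaryBiproducts (rd κ) := preservesBinaryBiproducts_of_preservesBiproducts _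
  let eQ : (rd κ).obj P' ≅ Q ⊞ Q⟦(1 : ℤ)⟧ :=
    (rd κ).mapBiprod _ _ ≪≫ biprod.mapIso (Iso.refl _) (((rd κ).commShiftIso (1 : ℤ)).app P)
  have hrange' : Set.range (X.homOfLE (inf_le_right : U ⊓ V ≤ V)).base ⊆ Set.range WV.ι.base := by
    rintro _ ⟨w, rfl⟩
    rw [Scheme.Opens.range_ι]
    show V.ι.base ((X.homOfLE (inf_le_right : U ⊓ V ≤ V)).base w) ∈ U
    have h2 : V.ι.base ((X.homOfLE (inf_le_right : U ⊓ V ≤ V)).base w) = (U ⊓ V).ι.base w :=
      congr($(X.homOfLE_ι (inf_le_right : U ⊓ V ≤ V)).base w)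
    rw [h2]
    exact w.2.1
  let ψ : ((U ⊓ V : X.Opens) : Scheme.{u}) ⟶ WV :=
    IsOpenImmersion.lift WV.ι (X.homOfLE (inf_le_right : U ⊓ V ≤ V)) hrange'
  have hψ : ψ ≫ WV.ι = X.homOfLE (inf_le_right : U ⊓ V ≤ V) := IsOpenImmersion.lift_fac _ _ _
  haveI : IsOpenImmersion ψ := by
    haveI : IsOpenImmersion (ψ ≫ WV.ι) := by rw [hψ]; infer_instance
    exact IsOpenImmersion.of_comp ψ WV.ι
  have hψκ : ψ ≫ κ = X.homOfLE (inf_le_left : U ⊓ V ≤ U) := by
    rw [← cancel_mono U.ι, Category.assoc, hκ, reassoc_of% hψ, X.homOfLE_ι, X.homOfLE_ι]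
  let δ := rdComp ψ κ _ hψκ P' ≪≫ (rd ψ).mapIso (eQ ≪≫ eR.symm) ≪≫ (rdComp ψ WV.ι _ hψ R).symm
  obtain ⟨N, ⟨eNU⟩, ⟨eNV⟩⟩ := exists_glue U V P' R δ
  have hcover : ∀ x : X, x ∈ U ∨ x ∈ V := fun x => by
    have : x ∈ U ⊔ V := hUV ▸ TopologicalSpace.Opens.mem_top x
    exact this
  have hpk : ∀ (M : DCoh.D X), DCoh.IsPerfect ((rd U.ι).obj M) → DCoh.IsPerfect ((rd V.ι).obj M) →
      DCoh.IsPerfect M := fun M h1 h2 => isPerfect_of_rd fun x =>
    (hcover x).elim (fun h => ⟨U, h, h1⟩) fun h => ⟨V, h, h2⟩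
  have hN : PK T N := by
    refine ⟨hpk N (isPerfect_of_iso eNU.symm hP'.1) (isPerfect_of_iso eNV.symm hR.1), fun i x hx => ?_⟩
    rcases hcover x with h | h
    · exact (hP'.2.of_iso eNU.symm) i ((mem_support_rd U.ι N i ⟨x, h⟩).2 hx)
    · exact (hR.2.of_iso eNV.symm) i ((mem_support_rd V.ι N i ⟨x, h⟩).2 hx)
  -- the part supported away from `U`
  let Z : Set X := T ∩ (U : Set X)ᶜ
  have hZ : IsClosed Z := hT.inter U.isOpen.isClosed_compl
  have hZc : IsCompact Zᶜ := isCompact_compl_inter_compl hTc hU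
  obtain ⟨K, hK, hKgen⟩ := hasGen_affine (V : Scheme.{u}) (V.ι.base ⁻¹' Z) (hZ.preimage V.ι.continuous)
    (QuasiCompact.isCompact_preimage (f := V.ι) _ hZ.isOpen_compl hZc)
  let K' := (CxOX.extZeroD V.ι).obj K
  have hK'Z : SuppIn Z K' := fun i x hx => by
    obtain ⟨v, hv, rfl⟩ := MVPush.support_hd_extZeroD V K i hx
    exact hK.2 i hv
  have hK'U : IsZero ((rd U.ι).obj K') :=
    (suppIn_compl_iff U K').1 (hK'Z.mono Set.inter_subset_right)
  have hK' : PK T K' := by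
    obtain ⟨e⟩ := MVPush.nonempty_restrictD_extZeroD V K
    exact ⟨hpk K' (isPerfect_zero hK'U) (isPerfect_of_iso e.symm hK.1), hK'Z.mono Set.inter_subset_left⟩
  refine ⟨N ⊞ K', (stages_pk hT).sum₂ _ _ hN hK', fun E hE ho => ?_⟩
  rw [← orth_iff] at ho
  have hoN : Orth N E := fun n f => by
    have h := congrArg (biprod.inl ≫ ·) (ho n (biprod.fst ≫ f))
    simpa using h
  have hoK : Orth K' E := fun n f => by
    have h := congrArg (biprod.inr ≫ ·) (ho n (biprod.snd ≫ f))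
    simpa using h
  let adj := restrictRpushAdj U.ι
  obtain ⟨C, g, w, hC⟩ := distinguished_cocone_triangle (adj.unit.app E)
  letI := rpushCommShift U.ι
  haveI := rpush_isTriangulated U.ι
  have hoC : Orth K' C := fun n x => by
    let Tn := (Triangle.shiftFunctor (DCoh.D X) n).obj (Triangle.mk (adj.unit.app E) g w)
    have hTn : Tn ∈ distTriang _ := Triangle.shift_distinguished _ hC n
    have h1 : x ≫ Tn.mor₃ = 0 := by
      have h2 : (x ≫ Tn.mor₃) ≫ ((shiftFunctorAdd' (DCoh.D X) n 1 (n + 1) rfl).inv.app E) = 0 :=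
        hoK (n + 1) _
      exact (cancel_mono ((shiftFunctorAdd' (DCoh.D X) n 1 (n + 1) rfl).inv.app E)).1 (h2.trans zero_comp.symm)
    obtain ⟨y, hy⟩ := Triangle.coyoneda_exact₃ _ hTn x h1
    change K' ⟶ ((DCoh.Rpush U.ι).obj ((rd U.ι).obj E))⟦n⟧ at y
    have h3 : y ≫ ((DCoh.Rpush U.ι).commShiftIso n).inv.app ((rd U.ι).obj E) = 0 :=
      (adj.homEquiv K' _).symm.injective (hK'U.eq_of_src _ _)
    have hy0 : y = 0 :=
      (cancel_mono (((DCoh.Rpush U.ι).commShiftIso n).inv.app ((rd U.ι).obj E))).1 (h3.trans zero_comp.symm)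
    rw [hy]
    exact (congrArg (· ≫ Tn.mor₂) hy0).trans zero_comp
  have hCU : IsZero ((rd U.ι).obj C) :=
    (Triangle.isZero₃_iff_isIso₁ _ ((rd U.ι).map_distinguished _ hC)).2 (isIso_rd_map_unit U.ι E)
  have hCq : PQ T C := (loc_pq hT).cone _ hC hE
    ⟨QCohD.isQCohD_rpush U.ι (QCohD.isQCohD_rd _ hE.1), suppIn_rpush U hT (hE.2.rd' U.ι)⟩
  have hCV : IsZero ((rd V.ι).obj C) := by
    refine hKgen _ ⟨QCohD.isQCohD_rd _ hCq.1, ?_⟩ ((orth_iff _ _).1 fun n f => ?_)
    · exact SuppIn.rd' V.ι (fun i x hx => ⟨hCq.2 i hx, (suppIn_compl_iff U C).2 hCU i hx⟩)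
    · let a := extZeroRdAdj V
      have h := hoC n ((a.homEquiv K (C⟦n⟧)).symm (f ≫ ((rd V.ι).commShiftIso n).inv.app C))
      haveI := a.left_adjoint_additive
      have h' : f ≫ ((rd V.ι).commShiftIso n).inv.app C = 0 := by
        rw [← (a.homEquiv K (C⟦n⟧)).apply_symm_apply (f ≫ _), h, a.homEquiv_unit, Functor.map_zero,
          comp_zero]
      exact (cancel_mono (((rd V.ι).commShiftIso n).inv.app C)).1 (h'.trans zero_comp.symm)
  have hC0 : IsZero C := MVPush.isZero_of_hd C fun i => H17.FPExt.isZero_of_stalk _ fun x => by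
    by_contra hx
    rcases hcover x with h | h
    · have := (mem_support_rd U.ι C i ⟨x, h⟩).2 hx
      exact suppIn_of_isZero (T := (∅ : Set _)) hCU i this
    · have := (mem_support_rd V.ι C i ⟨x, h⟩).2 hx
      exact suppIn_of_isZero (T := (∅ : Set _)) hCV i this
  haveI : IsIso (adj.unit.app E) := (Triangle.isZero₃_iff_isIso₁ _ hC).1 hC0
  have hoU : Orth P' ((rd U.ι).obj E) := fun n f => by
    let f' : (rd U.ι).obj N ⟶ ((rd U.ι).obj E)⟦n⟧ := eNU.hom ≫ f
    let g' : N ⟶ E⟦n⟧ := adj.homEquiv _ _ f' ≫ ((DCoh.Rpush U.ι).commShiftIso n).hom.app _ ≫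
      (inv (adj.unit.app E))⟦n⟧'
    have hg' : g' = 0 := hoN n g'
    have h1 : adj.homEquiv _ _ f' = 0 :=
      (cancel_mono (((DCoh.Rpush U.ι).commShiftIso n).hom.app ((rd U.ι).obj E) ≫
        (inv (adj.unit.app E))⟦n⟧')).1 (hg'.trans zero_comp.symm)
    haveI := adj.left_adjoint_additive
    have h2 : f' = 0 := by
      rw [← (adj.homEquiv _ _).symm_apply_apply f', h1, adj.homEquiv_counit, Functor.map_zero, zero_comp]
    exact (cancel_epi eNU.hom).1 (h2.trans comp_zero.symm)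
  have hU0 : IsZero ((rd U.ι).obj E) :=
    hPgen _ ⟨QCohD.isQCohD_rd _ hE.1, hE.2.rd' U.ι⟩ ((orth_iff _ _).1 fun n f => by
      have h := congrArg (biprod.inl ≫ ·) (hoU n (biprod.fst ≫ f))
      simpa using h)
  exact (Functor.map_isZero (DCoh.Rpush U.ι) hU0).of_iso (asIso (adj.unit.app E))

theorem hasGen_of_cover : ∀ (n : ℕ) (X : Scheme.{u}) [CompactSpace X] [QuasiSeparatedSpace X]
    (W : Fin n → X.Opens), (∀ i, IsAffineOpen (W i)) → (∀ x : X, ∃ i, x ∈ W i) →
    ∀ T : Set X, IsClosed T → IsCompact Tᶜ → HasGen T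
  | 0, X, _, _, _, _, hcov, T, _, _ => by
      refine ⟨0, ⟨isPerfect_zero (isZero_zero _), suppIn_of_isZero (isZero_zero _)⟩, fun E _ _ => ?_⟩
      exact MVPush.isZero_of_hd E fun i => H17.FPExt.isZero_of_stalk _ fun x =>
        ((hcov x).choose).elim0
  | n + 1, X, _, _, W, hW, hcov, T, hT, hTc => by
      let U : X.Opens := ⨆ i : Fin n, W i.castSucc
      have hU : IsCompact (U : Set X) := by
        rw [TopologicalSpace.Opens.coe_iSup]
        exact isCompact_iUnion fun i => (hW _).isCompact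
      have hUV : U ⊔ W (Fin.last n) = ⊤ := top_le_iff.1 fun x _ => by
        obtain ⟨i, hi⟩ := hcov x
        refine Fin.lastCases (motive := fun i => x ∈ W i → x ∈ U ⊔ W (Fin.last n)) (fun h => Or.inr h)
          (fun j h => Or.inl (TopologicalSpace.Opens.mem_iSup.2 ⟨j, h⟩)) i hi
      refine hasGen_step U (W (Fin.last n)) hU (hW _) hUV T hT hTc fun S hS hSc => ?_
      haveI : CompactSpace (U : Scheme.{u}) := isCompact_iff_compactSpace.1 hU
      haveI := qss_opens U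
      refine hasGen_of_cover n U (fun i => U.ι ⁻¹ᵁ W i.castSucc) (fun i => ?_) (fun x => ?_) S hS hSc
      · refine (Scheme.Hom.isAffineOpen_iff_of_isOpenImmersion U.ι).1 ?_
        rw [Scheme.Hom.image_preimage_eq_opensRange_inf, Scheme.Opens.opensRange_ι,
          inf_eq_right.2 (le_iSup (fun i : Fin n => W i.castSucc) i)]
        exact hW _
      · obtain ⟨i, hi⟩ := TopologicalSpace.Opens.mem_iSup.1 x.2
        exact ⟨i, hi⟩

/-- Perfect generators with supports. -/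
theorem hasGen (T : Set X) (hT : IsClosed T) (hTc : IsCompact Tᶜ) : HasGen T := by
  classical
  have h : ∀ x : X, ∃ V : X.Opens, IsAffineOpen V ∧ x ∈ V := fun x => by
    obtain ⟨_, ⟨V, hV, rfl⟩, hx, -⟩ :=
      X.isBasis_affineOpens.exists_subset_of_mem_open (Set.mem_univ x) isOpen_univ
    exact ⟨V, hV, hx⟩
  choose V hV hxV using h
  obtain ⟨s, hs⟩ := isCompact_univ.elim_finite_subcover (fun x => (V x : Set X)) (fun x => (V x).isOpen)
    fun x _ => Set.mem_iUnion.2 ⟨x, hxV x⟩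
  refine hasGen_of_cover s.card X (fun i => V (s.equivFin.symm i).1) (fun i => hV _) (fun x => ?_) T hT hTc
  obtain ⟨y, hy, hxy⟩ := Set.mem_iUnion₂.1 (hs (Set.mem_univ x))
  exact ⟨s.equivFin ⟨y, hy⟩, by simpa using hxy⟩

end Groth.Agent.H16Derived.Thomason
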