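import Groth.Agent.H16Derived.Thomason.Supp
import Mathlib.CategoryTheory.Triangulated.Triangulated

/-!
# Lifting perfect objects and their morphisms from a quasi-compact open
-/

set_option autoImplicit false
set_option linter.style.haveILetI false

universe u

open CategoryTheory CategoryTheory.Limits CategoryTheory.Pretriangulated AlgebraicGeometry

attribute [local instance] HasDerivedCategory.standard

namespace Groth.Agent.H16Derived.Thomason

open Groth.Agent.H16Derived.KFlat Groth.Agent.H16Derived.KFlat.Stalk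

attribute [local instance] hasCoproducts_D small_hom

variable {X : Scheme.{u}}

/-- A perfect object supported in `T` generating `D_{QCoh,T}`. -/
def HasGen (T : Set X) : Prop :=
  ∃ P : DCoh.D X, PK T P ∧ ∀ E, PQ T E → (∀ (n : ℤ) (f : P⟦n⟧ ⟶ E), f = 0) → IsZero E

/-- Every object of `D_{QCoh,T}` is good. -/
theorem good_pq [CompactSpace X] [QuasiSeparatedSpace X] {Y : Scheme.{u}} [CompactSpace Y]
    [QuasiSeparatedSpace Y] (L : DCoh.D X ⥤ DCoh.D Y) [L.CommShift ℤ] [L.IsTriangulated]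
    [∀ κ : Type u, PreservesColimitsOfShape (Discrete κ) L]
    (hL : ∀ E, DCoh.IsQCohD E → DCoh.IsQCohD (L.obj E)) {T : Set X} (hT : IsClosed T) (hgen : HasGen T)
    {E : DCoh.D X} (hE : PQ T E) :
    Good L (PK T) (fun t : DCoh.D Y => DCoh.IsPerfect t) E := by
  obtain ⟨P, hP, hgen⟩ := hgen
  exact good_of_generated (stages_pk hT) (fun k : ULift.{u} ℤ => P⟦k.down⟧) (fun M => DCoh.IsQCohD M)
    (loc_pq hT) (fun _ n h => h.shift hT n) (fun M h => hL M h.1)
    (fun R hR => holds_of_isPerfect (fun _ h => h.1) hR.1)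
    (fun t ht => holds_of_isPerfect (fun _ h => h) ht)
    (fun k => hP.shift hT k.down) (fun _ n h => h.shift hT n) (fun _ h => h.pq)
    (fun k n => ⟨⟨k.down + n⟩, ⟨(shiftFunctorAdd (DCoh.D X) k.down n).app P⟩⟩)
    (fun M hM h => hgen M hM fun n f => h ⟨n⟩ f) hE

/-- Support of a direct image from an open. -/
theorem suppIn_rpush (U : X.Opens) [DCoh.HasRpush U.ι] {T : Set X} (hT : IsClosed T)
    {F : DCoh.D (U : Scheme.{u})} (hF : SuppIn (U.ι.base ⁻¹' T) F) :
    SuppIn T ((DCoh.Rpush U.ι).obj F) := by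
  let V := oc T hT
  haveI := QCohD.hasRpush (U.ι ∣_ V)
  obtain ⟨e⟩ := nonempty_restrictD_rpush_iso U.ι V
  letI := rpushCommShift (U.ι ∣_ V)
  haveI := rpush_isTriangulated (U.ι ∣_ V)
  refine (suppIn_iff hT _).2 (IsZero.of_iso (Functor.map_isZero (DCoh.Rpush (U.ι ∣_ V)) ?_) (e.app F))
  exact MVPush.isZero_restrictD_of_support _ F (U.ι.base ⁻¹' T) hF
    (Set.disjoint_left.2 fun x hx hxT => hx hxT)

theorem suppIn_rd {T : Set X} (V : X.Opens) {E : DCoh.D X} (h : SuppIn T E) :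
    SuppIn (V.ι.base ⁻¹' T) ((rd V.ι).obj E) := fun i x hx => by
  obtain ⟨e⟩ := MVPush.nonempty_hd_restrict_iso V E i
  rw [MVPush.support_iso e] at hx
  exact h i ((MVPush.mem_support_restrict V _ x).1 hx)

theorem suppIn_compl_iff (U : X.Opens) (E : DCoh.D X) :
    SuppIn ((U : Set X)ᶜ) E ↔ IsZero ((rd U.ι).obj E) := by
  have h : oc ((U : Set X)ᶜ) U.isOpen.isClosed_compl = U := TopologicalSpace.Opens.ext (compl_compl _)
  rw [suppIn_iff U.isOpen.isClosed_compl, h]

theorem quasiCompact_ι [QuasiSeparatedSpace X] (U : X.Opens) (hU : IsCompact (U : Set X)) :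
    QuasiCompact U.ι :=
  haveI : CompactSpace (U : Scheme.{u}) := isCompact_iff_compactSpace.1 hU
  quasiCompact_of_compactSpace U.ι

theorem qss_opens [QuasiSeparatedSpace X] (U : X.Opens) : QuasiSeparatedSpace (U : Scheme.{u}) :=
  U.ι.isOpenEmbedding.quasiSeparatedSpace

/-- The part of `C` supported in `A`. -/
theorem exists_supported_part [QuasiSeparatedSpace X] {A B : Set X} (hA : IsClosed A)
    (hAc : IsCompact Aᶜ) (hB : IsClosed B) {C : DCoh.D X} (hC : PQ B C) :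
    ∃ (C' : DCoh.D X) (a : C' ⟶ C), PQ (A ∩ B) C' ∧
      ∀ R : DCoh.D X, SuppIn A R → ∀ c : R ⟶ C, ∃ c' : R ⟶ C', c' ≫ a = c := by
  let V := oc A hA
  haveI := quasiCompact_ι V hAc
  haveI := QCohD.hasRpush V.ι
  let adj := restrictRpushAdj V.ι
  obtain ⟨C', a, b, hT⟩ := distinguished_cocone_triangle₁ (adj.unit.app C)
  have hN : PQ B ((DCoh.Rpush V.ι).obj ((rd V.ι).obj C)) :=
    ⟨QCohD.isQCohD_rpush V.ι (QCohD.isQCohD_rd _ hC.1), suppIn_rpush V hB (suppIn_rd V hC.2)⟩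
  have hq : PQ B C' :=
    (loc_pq hB).cone _ (inv_rot_of_distTriang _ (inv_rot_of_distTriang _ hT))
      (hC.shift hB (-1)) (hN.shift hB (-1))
  have hA' : SuppIn A C' := by
    refine (suppIn_iff hA C').2 ?_
    haveI : IsIso ((rd V.ι).map (adj.unit.app C)) := isIso_rd_map_unit V.ι C
    exact (Triangle.isZero₁_iff_isIso₂ _ ((rd V.ι).map_distinguished _ hT)).2
      (inferInstanceAs (IsIso ((rd V.ι).map (adj.unit.app C))))
  refine ⟨C', a, ⟨hq.1, fun i => Set.subset_inter (hA' i) (hq.2 i)⟩, fun R hR c => ?_⟩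
  have h0 : c ≫ adj.unit.app C = 0 := by
    letI := rpushCommShift V.ι
    haveI := rpush_isTriangulated V.ι
    refine (adj.unit.naturality c).trans ?_
    have hz : IsZero ((DCoh.Rpush V.ι).obj ((rd V.ι).obj R)) :=
      Functor.map_isZero _ ((suppIn_iff hA R).1 hR)
    exact (congrArg (adj.unit.app R ≫ ·) (hz.eq_of_src _ 0)).trans comp_zero
  obtain ⟨c', hc'⟩ := Triangle.coyoneda_exact₂ _ hT c h0
  exact ⟨c', hc'.symm⟩

variable [CompactSpace X] [QuasiSeparatedSpace X] (U : X.Opens) (hU : IsCompact (U : Set X))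
include hU

/-- A perfect object on `U` is a summand of a restriction. -/
theorem exists_summand {T : Set X} (hT : IsClosed T) (hgen : HasGen T) {P : DCoh.D (U : Scheme.{u})}
    (hP : DCoh.IsPerfect P) (hPT : SuppIn (U.ι.base ⁻¹' T) P) :
    ∃ (R : DCoh.D X) (i : P ⟶ (rd U.ι).obj R) (p : (rd U.ι).obj R ⟶ P), PK T R ∧ i ≫ p = 𝟙 P := by
  haveI : CompactSpace (U : Scheme.{u}) := isCompact_iff_compactSpace.1 hU
  haveI := qss_opens U
  haveI := quasiCompact_ι U hU
  haveI := QCohD.hasRpush U.ι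
  haveI := rd_isLeftAdjoint U.ι
  haveI := isIso_restrictRpushAdj_counit U.ι
  let adj := restrictRpushAdj U.ι
  have hF : PQ T ((DCoh.Rpush U.ι).obj P) :=
    ⟨QCohD.isQCohD_rpush U.ι (Dual.isQCohD_of_isPerfect hP), suppIn_rpush U hT hPT⟩
  obtain ⟨R, hR, β, i, hi⟩ := (good_pq (rd U.ι) (fun _ h => QCohD.isQCohD_rd _ h) hT hgen hF).surj P hP
    (inv (adj.counit.app P))
  refine ⟨R, i, (rd U.ι).map β ≫ adj.counit.app P, hR, ?_⟩
  exact ((Category.assoc _ _ _).symm.trans (congrArg (· ≫ adj.counit.app P) hi)).trans (IsIso.inv_hom_id _)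

/-- Morphisms lift after changing the source away from `U`. -/
theorem exists_lift {T : Set X} (hT : IsClosed T) (hTc : IsCompact Tᶜ)
    (hgen : HasGen (T ∩ (U : Set X)ᶜ)) {R M : DCoh.D X} (hR : PK T R) (hM : DCoh.IsQCohD M)
    (g : (rd U.ι).obj R ⟶ (rd U.ι).obj M) :
    ∃ (R' : DCoh.D X) (s : R' ⟶ R) (g' : R' ⟶ M), PK T R' ∧ IsIso ((rd U.ι).map s) ∧
      (rd U.ι).map g' = (rd U.ι).map s ≫ g := by
  haveI := quasiCompact_ι U hU
  haveI := QCohD.hasRpush U.ι
  let adj := restrictRpushAdj U.ι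
  let gh : R ⟶ (DCoh.Rpush U.ι).obj ((rd U.ι).obj M) := adj.homEquiv _ _ g
  obtain ⟨C, δ, w, hT'⟩ := distinguished_cocone_triangle (adj.unit.app M)
  have hC : PQ (U : Set X)ᶜ C := by
    refine ⟨QCohD.AffineUnit.isQCohD_obj₃ hT' hM
      (QCohD.isQCohD_rpush U.ι (QCohD.isQCohD_rd _ hM)), ?_⟩
    rw [suppIn_compl_iff]
    exact (Triangle.isZero₃_iff_isIso₁ _ ((rd U.ι).map_distinguished _ hT')).2
      (isIso_rd_map_unit U.ι M)
  obtain ⟨C', a, hC', hfac⟩ := exists_supported_part hT hTc U.isOpen.isClosed_compl hC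
  obtain ⟨c', hc'⟩ := hfac R hR.2 (gh ≫ δ)
  have hTU : IsClosed (T ∩ (U : Set X)ᶜ) := hT.inter U.isOpen.isClosed_compl
  obtain ⟨R₁, hR₁, β₁, x', hx'⟩ := (good_pq (𝟭 (DCoh.D X)) (fun _ h => h) hTU hgen hC').surj R hR.1 c'
  change R ⟶ R₁ at x'
  change x' ≫ β₁ = c' at hx'
  obtain ⟨R', s, t, hs⟩ := distinguished_cocone_triangle₁ x'
  have hsx : s ≫ x' = 0 := comp_distTriang_mor_zero₁₂ _ hs
  obtain ⟨g', hg'⟩ := Triangle.coyoneda_exact₂ _ hT' (s ≫ gh) (by
    show (s ≫ gh) ≫ δ = 0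
    rw [Category.assoc, ← hc', ← hx', Category.assoc, reassoc_of% hsx, zero_comp])
  change R' ⟶ M at g'
  change s ≫ gh = g' ≫ adj.unit.app M at hg'
  have hR₁T : PK T R₁ := ⟨hR₁.1, hR₁.2.mono Set.inter_subset_left⟩
  refine ⟨R', s, g', (stages_pk hT).fib _ hs hR hR₁T, ?_, ?_⟩
  · exact (Triangle.isZero₃_iff_isIso₁ _ ((rd U.ι).map_distinguished _ hs)).1
      ((suppIn_compl_iff U R₁).1 (hR₁.2.mono Set.inter_subset_right))
  · have h1 : (rd U.ι).map gh ≫ adj.counit.app _ = g := by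
      exact (Adjunction.homEquiv_counit adj _ _ gh).symm.trans ((adj.homEquiv _ _).symm_apply_apply g)
    calc (rd U.ι).map g'
        = (rd U.ι).map g' ≫ (rd U.ι).map (adj.unit.app M) ≫ adj.counit.app _ :=
          ((congrArg ((rd U.ι).map g' ≫ ·) (adj.left_triangle_components M)).trans (Category.comp_id _)).symm
      _ = (rd U.ι).map (g' ≫ adj.unit.app M) ≫ adj.counit.app _ := by
          rw [Functor.map_comp]; exact (Category.assoc _ _ _).symm
      _ = (rd U.ι).map (s ≫ gh) ≫ adj.counit.app _ := by rw [hg']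
      _ = (rd U.ι).map s ≫ g := by rw [Functor.map_comp, Category.assoc, h1]

end Groth.Agent.H16Derived.Thomason
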