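import Groth.Agent.H16Derived.Thomason.Bounded
import Groth.Agent.H16Derived.DTrunc
import Groth.Prelude.Def_Koszul
import Groth.Prelude.Def_Wider

/-!
# Maps from the Koszul complex and truncations of the unit `E ⟶ Rj_*(E|_U)`
-/

set_option autoImplicit false
set_option linter.style.haveILetI false

universe u

open CategoryTheory CategoryTheory.Limits CategoryTheory.Pretriangulated AlgebraicGeometry

attribute [local instance] HasDerivedCategory.standard

namespace Groth.Agent.H16Derived.Thomason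

open Groth.Agent.H16Derived.KFlat Groth.Agent.H16Derived.KFlat.Stalk
open DerivedCategory.TStructure (t)

section Ring

variable {A : Type u} [CommRing A]

/-- The Koszul complex in the derived category. -/
noncomputable abbrev kos (fs : List A) : Dual.D A := DerivedCategory.Q.obj (Koszul.koszul A fs)

theorem exists_kos_triangle (f : A) (l : List A) :
    ∃ (a : kos l ⟶ kos (f :: l)) (b : kos (f :: l) ⟶ (kos l)⟦(1 : ℤ)⟧),
      Triangle.mk (f • 𝟙 (kos l)) a b ∈ distTriang (Dual.D A) := by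
  let φ := f • 𝟙 (Koszul.koszul A l)
  have h : DerivedCategory.Q.mapTriangle.obj (CochainComplex.mappingCone.triangle φ) ∈ distTriang _ :=
    DerivedCategory.mappingCone_triangle_distinguished φ
  have e : DerivedCategory.Q.map φ = f • 𝟙 (kos l) := by
    rw [Functor.map_smul, CategoryTheory.Functor.map_id]
  change Triangle.mk (DerivedCategory.Q.map φ) _ _ ∈ _ at h
  rw [e] at h
  exact ⟨_, _, h⟩

theorem kos_props : ∀ fs : List A, DRing.IsPerfect A (kos fs) ∧ Killed (kos fs) ∧
    (∀ g ∈ fs, GTors g (kos fs)) ∧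
    (∀ E : Dual.D A, (∀ g ∈ fs, GTors g E) → ∀ n : ℤ, (∀ f : kos fs ⟶ E⟦n⟧, f = 0) →
      Subsingleton (Dual.HD A E n)) ∧
    (∀ L : Dual.D A, L.IsLE (-(fs.length : ℤ) - 1) → ∀ φ : kos fs ⟶ L, φ = 0) ∧
    ∀ L : Dual.D A, L.IsGE 1 → ∀ φ : kos fs ⟶ L, φ = 0
  | [] => by
      let e : kos ([] : List A) ≅ Dual.inD A A := (H4DR.PCoh.inDIso (ModuleCat.of A A)).symm
      have hz : ∀ (L : Dual.D A), Subsingleton (Dual.HD A L 0) → ∀ φ : kos ([] : List A) ⟶ L, φ = 0 :=
        fun L hL φ => (cancel_epi e.inv).1 (((H4DR.Ext.bijective_evalOne L).1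
          (@Subsingleton.elim _ hL _ (H4DR.Ext.evalOne L 0))).trans comp_zero.symm)
      refine ⟨H4DR.TorAmp.isPerfect_of_iso e.symm isPerfect_unit, fun g E hE φ => ?_,
        fun g hg => absurd hg (by simp), fun E _ n h => ?_,
        fun L hL => hz L (haveI := hL; ModuleCat.subsingleton_of_isZero
          (L.isZero_of_isLE (-(([] : List A).length : ℤ) - 1) 0 (by simp))),
        fun L hL => hz L (haveI := hL; ModuleCat.subsingleton_of_isZero
          (L.isZero_of_isGE 1 0 (by omega)))⟩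
      · obtain ⟨N, hN⟩ := hE 0 (H4DR.Ext.evalOne E (e.inv ≫ φ))
        refine ⟨N, (cancel_epi e.inv).1 (Eq.trans ?_ comp_zero.symm)⟩
        exact (H4DR.Ext.bijective_evalOne E).1 (by rw [Linear.comp_smul, map_smul, hN, map_zero])
      · exact subsingleton_of_forall_eq 0 fun x => by
          obtain ⟨f, rfl⟩ := (H4DR.Ext.evalEquiv E n).surjective x
          have hf : f = 0 := (cancel_epi e.hom).1 ((h _).trans comp_zero.symm)
          exact (congrArg (H4DR.Ext.evalEquiv E n) hf).trans (map_zero _)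
  | g :: s => by
      obtain ⟨hK, hkill, htors, hgen, hle, hge⟩ := kos_props s
      obtain ⟨a, b, hT⟩ := exists_kos_triangle g s
      refine ⟨H4DR.TorAmp.isPerfect_obj₃ _ hT hK hK, fun h E hE φ => ?_, fun h hh => ?_,
        fun E hE n ho => ?_, fun L hL φ => ?_, fun L hL φ => ?_⟩
      · obtain ⟨N, hN⟩ := hkill h E hE (a ≫ φ)
        rw [← Linear.comp_smul] at hN
        obtain ⟨ψ, hψ⟩ := Triangle.yoneda_exact₃ _ hT (h ^ N • φ) hN
        change h ^ N • φ = b ≫ ψ at hψ
        obtain ⟨M, hM⟩ := killed_shift hkill (1 : ℤ) h E hE ψ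
        exact ⟨M + N, by rw [pow_add, mul_smul, hψ, ← Linear.comp_smul, hM, comp_zero]⟩
      · rcases List.mem_cons.1 hh with rfl | hh
        · exact fun i x => H4DR.FlatBC.torsion_cone h hT h (Or.inl rfl) i x
        · exact fun i x => H4DR.FlatBC.torsion_cone g hT h (Or.inr (htors h hh)) i x
      · refine hgen E (fun h hh => hE h (List.mem_cons_of_mem _ hh)) n fun f => ?_
        obtain ⟨N, hN⟩ := hkill g (E⟦n⟧) ((hE g List.mem_cons_self).shift n) f
        induction N with
        | zero => simpa using hN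
        | succ N ih =>
          refine ih ?_
          obtain ⟨χ, hχ⟩ := Triangle.yoneda_exact₂ _ hT (g ^ N • f) (by
            show (g • 𝟙 (kos s)) ≫ (g ^ N • f) = 0
            rw [Linear.smul_comp, Category.id_comp, smul_smul, ← pow_succ', hN])
          change g ^ N • f = a ≫ χ at hχ
          rw [hχ, ho χ, comp_zero]
      · haveI := hL
        obtain ⟨ψ, hψ⟩ := Triangle.yoneda_exact₃ _ hT φ
          (hle L (t.isLE_of_le L (-((g :: s).length : ℤ) - 1) _
            (by simp only [List.length_cons]; push_cast; omega)) _)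
        let c := shiftFunctorCompIsoId (Dual.D A) (1 : ℤ) (-1) (by norm_num)
        have h0 : c.inv.app (kos s) ≫ ψ⟦(-1 : ℤ)⟧' = 0 := hle _
          (t.isLE_shift L (-((g :: s).length : ℤ) - 1) (-1) _ (by simp only [List.length_cons]; push_cast; omega)) _
        have h1 : ψ⟦(-1 : ℤ)⟧' = 0 := (cancel_epi (c.inv.app (kos s))).1 (h0.trans comp_zero.symm)
        have h2 : ψ = 0 := (shiftFunctor (Dual.D A) (-1 : ℤ)).map_eq_zero_iff.1 h1
        exact hψ.trans ((congrArg (_ ≫ ·) h2).trans comp_zero)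
      · obtain ⟨ψ, hψ⟩ := Triangle.yoneda_exact₃ _ hT φ (hge L hL _)
        haveI := hL
        let c := shiftFunctorCompIsoId (Dual.D A) (1 : ℤ) (-1) (by norm_num)
        haveI h3 : t.IsGE (L⟦(-1 : ℤ)⟧) 2 := t.isGE_shift L 1 (-1) 2 (by omega)
        have h0 : c.inv.app (kos s) ≫ ψ⟦(-1 : ℤ)⟧' = 0 := hge _ (t.isGE_of_ge _ 1 2 (by omega)) _
        have h1 : ψ⟦(-1 : ℤ)⟧' = 0 := (cancel_epi (c.inv.app (kos s))).1 (h0.trans comp_zero.symm)
        have h2 : ψ = 0 := (shiftFunctor (Dual.D A) (-1 : ℤ)).map_eq_zero_iff.1 h1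
        exact hψ.trans ((congrArg (_ ≫ ·) h2).trans comp_zero)

end Ring

section Trunc

variable {C : Type*} [Category C] [Abelian C] [HasDerivedCategory C]

theorem isIso_truncGE_map_iff {X Y : DerivedCategory C} (f : X ⟶ Y) (a : ℤ) :
    IsIso ((t.truncGE a).map f) ↔ ∀ i, a ≤ i → IsIso ((DerivedCategory.homologyFunctor C i).map f) := by
  have key : ∀ i, a ≤ i → (IsIso ((DerivedCategory.homologyFunctor C i).map f) ↔
      IsIso ((DerivedCategory.homologyFunctor C i).map ((t.truncGE a).map f))) := fun i hi => by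
    haveI := DTrunc.isIso_homology_truncGEπ X a i hi
    haveI := DTrunc.isIso_homology_truncGEπ Y a i hi
    have h := congrArg (DerivedCategory.homologyFunctor C i).map ((t.truncGEπ a).naturality f)
    rw [Functor.map_comp, Functor.map_comp, Functor.id_map] at h
    constructor <;> intro h'
    · haveI := h'
      exact IsIso.of_isIso_fac_left h.symm
    · haveI := h'
      exact IsIso.of_isIso_fac_right h
  rw [DerivedCategory.isIso_iff]
  refine ⟨fun h i hi => (key i hi).2 (h i), fun h i => ?_⟩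
  rcases le_or_gt a i with hi | hi
  · exact (key i hi).1 (h i hi)
  · exact isIso_of_source_target_iso_zero _ (DerivedCategory.isZero_of_isGE _ a i hi).isoZero
      (DerivedCategory.isZero_of_isGE _ a i hi).isoZero

theorem isIso_truncLE_map_iff {X Y : DerivedCategory C} (f : X ⟶ Y) (a : ℤ) :
    IsIso ((t.truncLE a).map f) ↔ ∀ i, i ≤ a → IsIso ((DerivedCategory.homologyFunctor C i).map f) := by
  have key : ∀ i, i ≤ a → (IsIso ((DerivedCategory.homologyFunctor C i).map f) ↔
      IsIso ((DerivedCategory.homologyFunctor C i).map ((t.truncLT (a + 1)).map f))) := fun i hi => by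
    haveI := DTrunc.isIso_homology_truncLTι X (a + 1) i (by omega)
    haveI := DTrunc.isIso_homology_truncLTι Y (a + 1) i (by omega)
    have h := congrArg (DerivedCategory.homologyFunctor C i).map ((t.truncLTι (a + 1)).naturality f)
    rw [Functor.map_comp, Functor.map_comp, Functor.id_map] at h
    constructor <;> intro h'
    · haveI := h'
      exact IsIso.of_isIso_fac_right h
    · haveI := h'
      exact IsIso.of_isIso_fac_left h.symm
  change IsIso ((t.truncLT (a + 1)).map f) ↔ _
  rw [DerivedCategory.isIso_iff]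
  refine ⟨fun h i hi => (key i hi).2 (h i), fun h i => ?_⟩
  rcases le_or_gt i a with hi | hi
  · exact (key i hi).1 (h i hi)
  · exact isIso_of_source_target_iso_zero _ (DerivedCategory.isZero_of_isLE _ (a + 1 - 1) i (by omega)).isoZero
      (DerivedCategory.isZero_of_isLE _ (a + 1 - 1) i (by omega)).isoZero

end Trunc

section Spec

variable (A : Type u) [CommRing A] [PreservesFiniteLimits (tilde.functor (CommRingCat.of A))] (fs : List A)

/-- The complement of `V(fs)`. -/
noncomputable abbrev punct : (Spec (CommRingCat.of A)).Opens :=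
  LocCoh.puncturedOpen A (Ideal.span {a | a ∈ fs})

/-- The Koszul object on `Spec A`. -/
noncomputable abbrev kosD : DCoh.D (Spec (CommRingCat.of A)) :=
  (DCoh.tildeD (CommRingCat.of A)).obj (kos fs)

theorem compl_punct : ((punct A fs : Set (Spec (CommRingCat.of A))))ᶜ = PrimeSpectrum.zeroLocus {a | a ∈ fs} :=
  (compl_compl _).trans (PrimeSpectrum.zeroLocus_span _)

theorem isCompact_punct : IsCompact (punct A fs : Set (Spec (CommRingCat.of A))) := by
  classical
  refine (PrimeSpectrum.isCompact_isOpen_iff.2 ⟨fs.toFinset, ?_⟩).1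
  show (PrimeSpectrum.zeroLocus (fs.toFinset : Set A))ᶜ =
    (PrimeSpectrum.zeroLocus ((Ideal.span {a | a ∈ fs} : Ideal A) : Set A))ᶜ
  rw [PrimeSpectrum.zeroLocus_span]
  congr 2
  ext; simp

variable {A fs} [DCoh.HasRpush (punct A fs).ι] {E : DCoh.D (Spec (CommRingCat.of A))}

theorem kosD_rpush_zero (F : DCoh.D (punct A fs : Scheme.{u})) (n : ℤ)
    (φ : kosD A fs ⟶ ((DCoh.Rpush (punct A fs).ι).obj F)⟦n⟧) : φ = 0 := by
  haveI : PreservesFiniteColimits (tilde.functor (CommRingCat.of A)) :=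
    @PreservesColimitsOfSize.preservesFiniteColimits.{0, 0} _ _ _ _ _
      ((tilde.adjunction (R := CommRingCat.of A)).leftAdjoint_preservesColimits)
  let j := (punct A fs).ι
  letI := rpushCommShift j
  have hz : IsZero ((rd j).obj (kosD A fs)) := (suppIn_compl_iff (punct A fs) _).1 (by
    rw [compl_punct]
    exact (suppIn_tildeD_iff _ _).2 (kos_props fs).2.2.1)
  refine (cancel_mono (((DCoh.Rpush j).commShiftIso n).inv.app F)).1 ?_
  rw [zero_comp]
  exact ((restrictRpushAdj j).homEquiv _ _).symm.injective (hz.eq_of_src _ _)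

/-- The key computation. -/
theorem exists_supported (hE : DCoh.IsQCohD E) :
    ∃ (C : DCoh.D (Spec (CommRingCat.of A))) (γ : C ⟶ E) (w : (DCoh.Rpush (punct A fs).ι).obj ((rd (punct A fs).ι).obj E) ⟶ C⟦(1 : ℤ)⟧),
      Triangle.mk γ ((restrictRpushAdj (punct A fs).ι).unit.app E) w ∈ distTriang _ ∧
      ∀ n : ℤ, (∀ φ : kosD A fs ⟶ E⟦n⟧, φ = 0) → IsZero (DCoh.HD C n) := by
  haveI : PreservesFiniteColimits (tilde.functor (CommRingCat.of A)) :=
    @PreservesColimitsOfSize.preservesFiniteColimits.{0, 0} _ _ _ _ _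
      ((tilde.adjunction (R := CommRingCat.of A)).leftAdjoint_preservesColimits)
  let U := punct A fs
  haveI := quasiCompact_ι U (isCompact_punct A fs)
  obtain ⟨C, γ, w, hT⟩ := distinguished_cocone_triangle₁ ((restrictRpushAdj U.ι).unit.app E)
  have hCU : IsZero ((rd U.ι).obj C) := by
    haveI : IsIso ((rd U.ι).map ((restrictRpushAdj U.ι).unit.app E)) := isIso_rd_map_unit U.ι E
    exact (Triangle.isZero₁_iff_isIso₂ _ ((rd U.ι).map_distinguished _ hT)).2
      (inferInstanceAs (IsIso ((rd U.ι).map ((restrictRpushAdj U.ι).unit.app E))))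
  have hCq : DCoh.IsQCohD C := QCohD.AffineUnit.isQCohD_obj₃
    (inv_rot_of_distTriang _ (inv_rot_of_distTriang _ hT)) (QCohD.HomVanish.isQCohD_shift hE (-1))
    (QCohD.HomVanish.isQCohD_shift (QCohD.isQCohD_rpush U.ι (QCohD.isQCohD_rd _ hE)) (-1))
  refine ⟨C, γ, w, hT, fun n hn => ?_⟩
  obtain ⟨M, ⟨e⟩⟩ := QCohD.exists_tildeD_iso (R := CommRingCat.of A) hCq
  change Dual.D A at M
  let F := DCoh.tildeD (CommRingCat.of A)
  have hC0 : ∀ φ : F.obj (kos fs) ⟶ C⟦n⟧, φ = 0 := fun φ => by
    obtain ⟨ψ, hψ⟩ := Triangle.coyoneda_exact₂ _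
      (Triangle.shift_distinguished _ (inv_rot_of_distTriang _ hT) n) φ (hn _)
    refine hψ.trans ((congrArg (· ≫ _) ?_).trans zero_comp)
    exact (cancel_mono ((shiftFunctorAdd' (DCoh.D (Spec (CommRingCat.of A))) (-1) n (-1 + n) rfl).inv.app _)).1
      ((kosD_rpush_zero _ _ _).trans zero_comp.symm)
  have hM : Subsingleton (Dual.HD A M n) := by
    refine (kos_props fs).2.2.2.1 M (fun g hg => (suppIn_tildeD_iff {a | a ∈ fs} M).1
      (SuppIn.of_iso e.symm ?_) g hg) n fun f => ?_
    · rw [← compl_punct]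
      exact (suppIn_compl_iff U C).2 hCU
    · haveI := (QCohD.full_faithful (CommRingCat.of A)).2
      refine F.map_injective ?_
      rw [F.map_zero]
      exact (cancel_mono ((F.commShiftIso n).hom.app M ≫ e.hom⟦n⟧')).1 ((hC0 _).trans zero_comp.symm)
  exact (((tilde.functor (CommRingCat.of A)).map_isZero
    (@ModuleCat.isZero_of_subsingleton _ _ (hA M n) hM)).of_iso (hdTilde M n)).of_iso
      ((DerivedCategory.homologyFunctor _ n).mapIso e).symm

/-- Vanishing of maps into bounded objects. -/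
theorem kosD_zero {L : DCoh.D (Spec (CommRingCat.of A))} (hL : DCoh.IsQCohD L)
    (h : L.IsLE (-(fs.length : ℤ) - 1) ∨ L.IsGE 1) (φ : kosD A fs ⟶ L) : φ = 0 := by
  haveI : PreservesFiniteColimits (tilde.functor (CommRingCat.of A)) :=
    @PreservesColimitsOfSize.preservesFiniteColimits.{0, 0} _ _ _ _ _
      ((tilde.adjunction (R := CommRingCat.of A)).leftAdjoint_preservesColimits)
  obtain ⟨M, ⟨e⟩⟩ := QCohD.exists_tildeD_iso (R := CommRingCat.of A) hL
  change Dual.D A at M
  let F := DCoh.tildeD (CommRingCat.of A)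
  haveI := (QCohD.full_faithful (CommRingCat.of A)).1
  haveI := (QCohD.full_faithful (CommRingCat.of A)).2
  obtain ⟨ψ, hψ⟩ := F.map_surjective (φ ≫ e.inv)
  have h0 : ψ = 0 := by
    rcases h with h | h
    · refine (kos_props fs).2.2.2.2.1 M ((isLE_tilde_iff M _).1 ?_) ψ
      exact ⟨(t.le _).prop_of_iso e.symm h.le⟩
    · refine (kos_props fs).2.2.2.2.2 M ?_ ψ
      rw [DerivedCategory.isGE_iff] at h ⊢
      exact fun i hi => isZero_of_isZero_tilde
        (((h i hi).of_iso ((DerivedCategory.homologyFunctor _ i).mapIso e)).of_iso (hdTilde M i).symm)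
  refine (cancel_mono e.inv).1 (hψ.symm.trans ?_)
  rw [h0, F.map_zero, zero_comp]

theorem unit_trunc {E : DCoh.D (Spec (CommRingCat.of A))} (hE : DCoh.IsQCohD E) (a : ℤ) :
    let η := (restrictRpushAdj (punct A fs).ι).unit.app E
    ((∀ n, n ≤ a → ∀ φ : kosD A fs ⟶ E⟦n⟧, φ = 0) → IsIso ((t.truncLE (a - 1)).map η)) ∧
    (IsIso ((t.truncLE (a - 1)).map η) → ∀ n, n ≤ a - 1 → ∀ φ : kosD A fs ⟶ E⟦n⟧, φ = 0) ∧
    ((∀ n, a ≤ n → ∀ φ : kosD A fs ⟶ E⟦n⟧, φ = 0) → IsIso ((t.truncGE a).map η)) ∧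
    (IsIso ((t.truncGE a).map η) → ∀ n, a + (fs.length : ℤ) ≤ n → ∀ φ : kosD A fs ⟶ E⟦n⟧, φ = 0) := by
  intro η
  obtain ⟨C, γ, w, hT, hC⟩ := exists_supported (fs := fs) hE
  let H := fun i : ℤ => DerivedCategory.homologyFunctor (Spec (CommRingCat.of A)).Modules i
  have hiso : ∀ i, IsZero (DCoh.HD C i) → IsZero (DCoh.HD C (i + 1)) → IsIso ((H i).map η) := fun i h h' => by
    haveI : Mono ((H i).map η) :=
      (DerivedCategory.HomologySequence.mono_homologyMap_mor₂_iff _ hT i).2 (h.eq_of_src _ _)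
    haveI : Epi ((H i).map η) :=
      (DerivedCategory.HomologySequence.epi_homologyMap_mor₂_iff _ hT i (i + 1)).2 (h'.eq_of_tgt _ _)
    exact isIso_of_mono_of_epi ((H i).map η)
  haveI := quasiCompact_ι (punct A fs) (isCompact_punct A fs)
  have hNq := QCohD.isQCohD_rpush (punct A fs).ι (QCohD.isQCohD_rd (punct A fs).ι hE)
  refine ⟨fun h => (isIso_truncLE_map_iff η _).2 fun i hi => hiso i (hC i (h i (by omega))) (hC _ (h _ (by omega))),
    fun h n hn φ => ?_, fun h => (isIso_truncGE_map_iff η _).2 fun i hi => hiso i (hC i (h i hi)) (hC _ (h _ (by omega))),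
    fun h n hn φ => ?_⟩
  · have hi := (isIso_truncLE_map_iff η _).1 h
    obtain ⟨ψ, hψ⟩ := Triangle.coyoneda_exact₂ _ (Triangle.shift_distinguished _ hT n) φ
      (kosD_rpush_zero _ n _)
    refine hψ.trans ((congrArg (· ≫ _) ?_).trans zero_comp)
    have hCge : C.IsGE a := by
      rw [DerivedCategory.isGE_iff]
      intro i hia
      haveI := hi i (by omega)
      haveI := hi (i - 1) (by omega)
      refine (DerivedCategory.HomologySequence.exact₂ _ (inv_rot_of_distTriang _ hT) i).isZero_of_both_zeros ?_ ?_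
      · exact (DerivedCategory.HomologySequence.mono_homologyMap_mor₂_iff _ (inv_rot_of_distTriang _ hT) i).1
          ((DerivedCategory.HomologySequence.mono_homologyMap_mor₁_iff _ hT (i - 1) i (by omega)).2
            ((DerivedCategory.HomologySequence.epi_homologyMap_mor₂_iff _ hT (i - 1) i (by omega)).1
              (@IsIso.epi_of_iso _ _ _ _ _ (hi (i - 1) (by omega)))))
      · exact (DerivedCategory.HomologySequence.mono_homologyMap_mor₂_iff _ hT i).1
          (@IsIso.mono_of_iso _ _ _ _ _ (hi i (by omega)))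
    haveI := hCge
    haveI := t.isGE_shift C a n (a - n) (by omega)
    refine kosD_zero (QCohD.HomVanish.isQCohD_shift ?_ n) (Or.inr (t.isGE_of_ge (C⟦n⟧) 1 (a - n) (by omega))) ψ
    exact QCohD.AffineUnit.isQCohD_obj₃ (inv_rot_of_distTriang _ (inv_rot_of_distTriang _ hT))
      (QCohD.HomVanish.isQCohD_shift hE (-1)) (QCohD.HomVanish.isQCohD_shift hNq (-1))
  · haveI := h
    have hLT : ∀ (M : DCoh.D (Spec (CommRingCat.of A))), DCoh.IsQCohD M →
        ∀ χ : kosD A fs ⟶ ((t.truncLT a).obj M)⟦n⟧, χ = 0 := fun M hM => by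
      haveI := t.isLE_shift ((t.truncLT a).obj M) (a - 1) n (a - 1 - n) (by omega)
      exact kosD_zero (QCohD.HomVanish.isQCohD_shift
        (QCohD.homP_truncLT Coh.IsQCoh QCohD.isQCoh_iso QCohD.isQCoh_isZero hM a) n)
        (Or.inl (t.isLE_of_le _ (a - 1 - n) _ (by omega)))
    have h1 : (φ ≫ ((t.truncGEπ a).app E)⟦n⟧') ≫ ((t.truncGE a).map η)⟦n⟧' = 0 := by
      rw [Category.assoc, ← Functor.map_comp]
      refine (congrArg (fun g => φ ≫ g⟦n⟧') ((t.truncGEπ a).naturality η)).symm.trans ?_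
      exact (congrArg (φ ≫ ·) (Functor.map_comp _ _ _)).trans ((Category.assoc _ _ _).symm.trans
        ((congrArg (· ≫ _) (kosD_rpush_zero _ n _)).trans zero_comp))
    have h2 : φ ≫ ((t.truncGEπ a).app E)⟦n⟧' = 0 := (cancel_mono _).1 (h1.trans zero_comp.symm)
    obtain ⟨ψ, hψ⟩ := Triangle.coyoneda_exact₂ _
      (Triangle.shift_distinguished _ (t.triangleLTGE_distinguished a E) n) φ (by
        show φ ≫ (n.negOnePow • ((t.truncGEπ a).app E)⟦n⟧') = 0
        rw [Linear.comp_units_smul, h2, smul_zero])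
    exact hψ.trans ((congrArg (· ≫ _) (hLT E hE ψ)).trans zero_comp)

end Spec

end Groth.Agent.H16Derived.Thomason
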