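import Groth.Agent.H16Derived.Thomason.Consequences
import Groth.Agent.H16Derived.Thomason.Approx
import Groth.Agent.H16Derived.Thomason.KoszulOrth
import Groth.Agent.H16Derived.Dual.PseudoCoh

/-!
# Extension of bounded coherent objects from an open of a Noetherian scheme
-/

set_option autoImplicit false
set_option linter.style.haveILetI false

universe u

open CategoryTheory CategoryTheory.Limits CategoryTheory.Pretriangulated AlgebraicGeometry ZeroObject
open DerivedCategory.TStructure (t)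

attribute [local instance] HasDerivedCategory.standard

namespace Groth.Agent.H16Derived.Thomason

open Groth.Agent.H16Derived.KFlat Groth.Agent.H16Derived.KFlat.Stalk
open Groth.Agent.H16Derived.Dual (isCohD_iso isCohD_shift isCohD_obj₂ isCoh_isZero)

variable {X : Scheme.{u}}

/-- Bounded with coherent cohomology. -/
def KC (G : DCoh.D X) : Prop :=
  DCoh.IsCohD G ∧ (∃ a : ℤ, t.IsGE G a) ∧ ∃ b : ℤ, t.IsLE G b

theorem kc_iso {G G' : DCoh.D X} (e : G ≅ G') (h : KC G) : KC G' := by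
  obtain ⟨hc, ⟨a, ha⟩, b, hb⟩ := h
  exact ⟨isCohD_iso e hc, ⟨a, t.isGE_of_iso e a⟩, b, t.isLE_of_iso e b⟩

theorem kc_shift {G : DCoh.D X} (n : ℤ) (h : KC G) : KC (G⟦n⟧) := by
  obtain ⟨hc, ⟨a, ha⟩, b, hb⟩ := h
  exact ⟨isCohD_shift hc n, ⟨a - n, t.isGE_shift G a n (a - n) (by omega)⟩,
    b - n, t.isLE_shift G b n (b - n) (by omega)⟩

theorem kc_obj₂ [IsLocallyNoetherian X] {Tr : Triangle (DCoh.D X)} (hT : Tr ∈ distTriang (DCoh.D X))
    (h₁ : KC Tr.obj₁) (h₃ : KC Tr.obj₃) : KC Tr.obj₂ := by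
  obtain ⟨c₁, ⟨a₁, g₁⟩, b₁, l₁⟩ := h₁
  obtain ⟨c₃, ⟨a₃, g₃⟩, b₃, l₃⟩ := h₃
  exact ⟨isCohD_obj₂ hT c₁ c₃, ⟨min a₁ a₃, t.isGE₂ Tr hT _ (t.isGE_of_ge _ (min a₁ a₃) a₁ (min_le_left _ _))
    (t.isGE_of_ge _ (min a₁ a₃) a₃ (min_le_right _ _))⟩,
    max b₁ b₃, t.isLE₂ Tr hT _ (t.isLE_of_le _ b₁ _ (le_max_left _ _)) (t.isLE_of_le _ b₃ _ (le_max_right _ _))⟩

theorem stages_kc [IsLocallyNoetherian X] : Stages (KC (X := X)) where
  zero h := ⟨fun i => isCoh_isZero (Functor.map_isZero _ h), ⟨0, t.isGE_of_isZero h 0⟩, 0, t.isLE_of_isZero h 0⟩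
  of_iso e h := kc_iso e h
  cone Tr hT h₁ h₂ := kc_obj₂ (rot_of_distTriang _ hT) h₂ (kc_shift 1 h₁)
  fib Tr hT h₂ h₃ := kc_obj₂ (inv_rot_of_distTriang _ hT) (kc_shift (-1) h₃) h₂
  sum₂ A B _ hA hB := kc_obj₂ (binaryBiproductTriangle_distinguished A B) hA hB

theorem kc_truncLE [IsLocallyNoetherian X] {G : DCoh.D X} (h : KC G) (n : ℤ) : KC ((t.truncLE n).obj G) := by
  obtain ⟨hc, ⟨a, ha⟩, -⟩ := h
  refine ⟨fun i => ?_, ⟨a, inferInstance⟩, n, inferInstance⟩
  rcases lt_or_ge n i with hi | hi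
  · haveI : DerivedCategory.IsLE ((t.truncLE n).obj G) n := inferInstanceAs (t.IsLE ((t.truncLE n).obj G) n)
    exact isCoh_isZero (DerivedCategory.isZero_of_isLE _ n i hi)
  · haveI := DTrunc.isIso_homology_truncLTι G (n + 1) i (by omega)
    exact H10Coh.isCoh_of_iso
      (asIso ((DerivedCategory.homologyFunctor _ i).map ((t.truncLTι (n + 1)).app G))).symm (hc i)

theorem kc_truncGE [IsLocallyNoetherian X] {G : DCoh.D X} (h : KC G) (n : ℤ) : KC ((t.truncGE n).obj G) := by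
  obtain ⟨hc, -, b, hb⟩ := h
  refine ⟨fun i => ?_, ⟨n, inferInstance⟩, b, inferInstance⟩
  rcases lt_or_ge i n with hi | hi
  · haveI : DerivedCategory.IsGE ((t.truncGE n).obj G) n := inferInstanceAs (t.IsGE ((t.truncGE n).obj G) n)
    exact isCoh_isZero (DerivedCategory.isZero_of_isGE _ n i hi)
  · haveI := DTrunc.isIso_homology_truncGEπ G n i hi
    exact H10Coh.isCoh_of_iso
      (asIso ((DerivedCategory.homologyFunctor _ i).map ((t.truncGEπ n).app G))) (hc i)

theorem kc_rd [IsLocallyNoetherian X] (U : X.Opens) {G : DCoh.D X} (h : KC G) : KC ((rd U.ι).obj G) := by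
  obtain ⟨hc, ⟨a, ha⟩, b, hb⟩ := h
  haveI : G.IsLE b := hb
  haveI : G.IsGE a := ha
  exact ⟨Dual.isCohD_rd U hc, ⟨a, (DerivedCategory.isGE_iff _ _).2 fun i hi =>
    ((Scheme.Modules.restrictFunctor U.ι).map_isZero (DerivedCategory.isZero_of_isGE G a i hi)).of_iso
      (homologyRdIso U.ι G i)⟩, b, isLE_rd U.ι G b⟩

theorem isGE_rd (U : X.Opens) (C : DCoh.D X) (n : ℤ) [C.IsGE n] : DerivedCategory.IsGE ((rd U.ι).obj C) n :=
  (DerivedCategory.isGE_iff _ _).2 fun i hi =>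
    ((Scheme.Modules.restrictFunctor U.ι).map_isZero (DerivedCategory.isZero_of_isGE C n i hi)).of_iso
      (homologyRdIso U.ι C i)

theorem isIso_hd_rd_truncLTι (U : X.Opens) (G : DCoh.D X) (n i : ℤ) (hi : i < n) :
    IsIso ((DerivedCategory.homologyFunctor _ i).map ((rd U.ι).map ((t.truncLTι n).app G))) := by
  haveI : DerivedCategory.IsGE ((t.truncGE n).obj G) n := inferInstanceAs (t.IsGE ((t.truncGE n).obj G) n)
  haveI := isGE_rd U ((t.truncGE n).obj G) n
  have hd := (rd U.ι).map_distinguished _ (t.triangleLTGE_distinguished n G)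
  haveI : Mono ((DerivedCategory.homologyFunctor _ i).map ((rd U.ι).map ((t.truncLTι n).app G))) :=
    (DerivedCategory.HomologySequence.mono_homologyMap_mor₁_iff _ hd (i - 1) i (by omega)).2
      ((DerivedCategory.isZero_of_isGE ((rd U.ι).obj ((t.truncGE n).obj G)) n (i - 1) (by omega)).eq_of_src _ _)
  haveI : Epi ((DerivedCategory.homologyFunctor _ i).map ((rd U.ι).map ((t.truncLTι n).app G))) :=
    (DerivedCategory.HomologySequence.epi_homologyMap_mor₁_iff _ hd i).2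
      ((DerivedCategory.isZero_of_isGE ((rd U.ι).obj ((t.truncGE n).obj G)) n i hi).eq_of_tgt _ _)
  exact isIso_of_mono_of_epi _

theorem isIso_hd_rd_truncGEπ (U : X.Opens) (G : DCoh.D X) (n i : ℤ) (hi : n ≤ i) :
    IsIso ((DerivedCategory.homologyFunctor _ i).map ((rd U.ι).map ((t.truncGEπ n).app G))) := by
  haveI : DerivedCategory.IsLE ((t.truncLT n).obj G) (n - 1) := inferInstanceAs (t.IsLE ((t.truncLT n).obj G) (n - 1))
  haveI := isLE_rd U.ι ((t.truncLT n).obj G) (n - 1)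
  have hd := (rd U.ι).map_distinguished _ (t.triangleLTGE_distinguished n G)
  haveI : Mono ((DerivedCategory.homologyFunctor _ i).map ((rd U.ι).map ((t.truncGEπ n).app G))) :=
    (DerivedCategory.HomologySequence.mono_homologyMap_mor₂_iff _ hd i).2
      ((DerivedCategory.isZero_of_isLE ((rd U.ι).obj ((t.truncLT n).obj G)) (n - 1) i (by omega)).eq_of_src _ _)
  haveI : Epi ((DerivedCategory.homologyFunctor _ i).map ((rd U.ι).map ((t.truncGEπ n).app G))) :=
    (DerivedCategory.HomologySequence.epi_homologyMap_mor₂_iff _ hd i (i + 1)).2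
      ((DerivedCategory.isZero_of_isLE ((rd U.ι).obj ((t.truncLT n).obj G)) (n - 1) (i + 1) (by omega)).eq_of_tgt _ _)
  exact isIso_of_mono_of_epi _

/-- Bounded coherent objects over `U` are approximated by restrictions from `X`. -/
theorem exists_kc_approx [IsNoetherian X] (U : X.Opens) {E : DCoh.D X} (hE : DCoh.IsQCohD E)
    (hF : KC ((rd U.ι).obj E)) (b : ℤ) (hb : DerivedCategory.IsLE ((rd U.ι).obj E) b) (k : ℕ) :
    ∃ (G C : DCoh.D X) (f : G ⟶ E) (g : E ⟶ C) (h : C ⟶ G⟦(1 : ℤ)⟧),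
      Triangle.mk f g h ∈ distTriang (DCoh.D X) ∧ KC G ∧ DerivedCategory.IsLE ((rd U.ι).obj C) (b - k) := by
  induction k with
  | zero =>
    obtain ⟨C, g, h, hT⟩ := distinguished_cocone_triangle (0 : (0 : DCoh.D X) ⟶ E)
    haveI : IsIso g := (Triangle.isZero₁_iff_isIso₂ _ hT).1 (isZero_zero _)
    refine ⟨0, C, 0, g, h, hT, stages_kc.zero (isZero_zero _), ?_⟩
    rw [Nat.cast_zero, sub_zero]
    haveI : t.IsLE ((rd U.ι).obj E) b := hb
    exact t.isLE_of_iso ((rd U.ι).mapIso (asIso g)) b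
  | succ k ih =>
    obtain ⟨G, C, f, g, h, hT, hG, hC⟩ := ih
    let n : ℤ := b - k
    haveI : CompactSpace (U : Scheme.{u}) := isCompact_iff_compactSpace.1
      (TopologicalSpace.NoetherianSpace.isCompact (U : Set X))
    haveI := qss_opens U
    have hCU : KC ((rd U.ι).obj C) :=
      stages_kc.cone _ ((rd U.ι).map_distinguished _ hT) (kc_rd U hG) hF
    haveI := hC
    obtain ⟨r, hr⟩ := exists_hasAppr (X := (U : Scheme.{u})) Set.univ isClosed_univ (by simp)
    obtain ⟨P, C₁, α, p₁, w₁, hd, hP, hC₁⟩ := hr n ((rd U.ι).obj C) (fun i => (hCU.1 i).1)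
      (Dual.isPseudoCoherentD_of_isCohD n hCU.1 _) (fun i _ => Set.subset_univ _)
    have hα := (approx_iff hd n).2 hC₁
    have hCq : DCoh.IsQCohD C :=
      QCohD.AffineUnit.isQCohD_obj₃ hT (fun i => (hG.1 i).1) hE
    obtain ⟨R, β, i', p', hR, hip, hβ⟩ := exists_lift_map U
      (TopologicalSpace.NoetherianSpace.isCompact (U : Set X)) isClosed_univ (by simp) hCq hP.1
      (fun _ => Set.subset_univ _) α
    obtain ⟨hRc, a', b', ha', hb'⟩ := isCohD_and_bounded_of_isPerfect hR.1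
    have hR' : KC ((t.truncLE n).obj R) := kc_truncLE ⟨hRc, ⟨a', ⟨ha'.ge⟩⟩, b', ⟨hb'.le⟩⟩ n
    let ι' : (t.truncLE n).obj R ⟶ R := (t.truncLTι (n + 1)).app R
    obtain ⟨C', g', h', hT'⟩ := distinguished_cocone_triangle (ι' ≫ β)
    obtain ⟨G', f', p, w, hd', hG'⟩ := exists_comp_triangle stages_kc (fun _ m => kc_shift m) hT hT' hG hR'
    refine ⟨G', C', f', p, w, hd', hG', ?_⟩
    have happ : Approx n ((rd U.ι).map (ι' ≫ β)) := by
      haveI hRle : DerivedCategory.IsLE ((rd U.ι).obj ((t.truncLE n).obj R)) n := by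
        haveI : DerivedCategory.IsLE ((t.truncLE n).obj R) n := inferInstanceAs (t.IsLE ((t.truncLE n).obj R) n)
        exact isLE_rd U.ι _ n
      refine ⟨fun i hi => isIso_of_source_target_iso_zero _
        (DerivedCategory.isZero_of_isLE _ n i hi).isoZero (DerivedCategory.isZero_of_isLE _ n i hi).isoZero, ?_⟩
      let H := DerivedCategory.homologyFunctor (U : Scheme.{u}).Modules n
      haveI hι : IsIso (H.map ((rd U.ι).map ι')) := isIso_hd_rd_truncLTι U R (n + 1) n (by omega)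
      haveI : Epi (H.map ((rd U.ι).map β)) := by
        haveI : Epi (H.map i' ≫ H.map ((rd U.ι).map β)) := by
          rw [← Functor.map_comp, hβ]
          exact hα.2
        exact epi_of_epi (H.map i') _
      rw [Functor.map_comp, Functor.map_comp]
      infer_instance
    have hle := (approx_iff ((rd U.ι).map_distinguished _ hT') n).1 happ
    rw [show b - ((k + 1 : ℕ) : ℤ) = n - 1 by simp [n]; ring]
    exact hle

/-- Bounded coherent objects extend. -/
theorem exists_kc_extend [IsNoetherian X] (U : X.Opens) {F : DCoh.D (U : Scheme.{u})} (hF : KC F) :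
    ∃ G : DCoh.D X, KC G ∧ Nonempty ((rd U.ι).obj G ≅ F) := by
  haveI := QCohD.hasRpush U.ι
  obtain ⟨e⟩ := MVPush.nonempty_restrictD_rpush U F
  let E := (DCoh.Rpush U.ι).obj F
  have hEF : KC ((rd U.ι).obj E) := kc_iso e.symm hF
  have hE : DCoh.IsQCohD E := QCohD.isQCohD_rpush U.ι fun i => (hF.1 i).1
  obtain ⟨-, ⟨a, ha⟩, b, hb⟩ := id hEF
  obtain ⟨G, C, f, g, h, hT, hG, hC⟩ := exists_kc_approx U hE hEF b ⟨hb.le⟩ (b - (a - 1) + 1).toNat
  refine ⟨(t.truncGE a).obj G, kc_truncGE hG a, ⟨?_⟩⟩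
  have h1 : ∀ i, a ≤ i → IsIso ((DerivedCategory.homologyFunctor _ i).map ((rd U.ι).map f)) := fun i hi =>
    ((approx_iff ((rd U.ι).map_distinguished _ hT) (a - 1)).2
      ((DerivedCategory.isLE_iff _ _).2 fun j hj => by
        haveI := hC
        exact DerivedCategory.isZero_of_isLE ((rd U.ι).obj C) (b - ((b - (a - 1) + 1).toNat : ℤ)) j (by omega))).1 i
      (by omega)
  have h2 : ∀ i, a ≤ i →
      IsIso ((DerivedCategory.homologyFunctor _ i).map ((rd U.ι).map ((t.truncGEπ a).app G))) :=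
    fun i hi => isIso_hd_rd_truncGEπ U G a i hi
  haveI := (isIso_truncGE_map_iff ((rd U.ι).map f) a).2 h1
  haveI := (isIso_truncGE_map_iff ((rd U.ι).map ((t.truncGEπ a).app G)) a).2 h2
  have hGE : t.IsGE ((rd U.ι).obj ((t.truncGE a).obj G)) a := by
    haveI : DerivedCategory.IsGE ((t.truncGE a).obj G) a := inferInstanceAs (t.IsGE ((t.truncGE a).obj G) a)
    exact ⟨((DerivedCategory.isGE_iff _ _).2 fun i hi =>
      ((Scheme.Modules.restrictFunctor U.ι).map_isZero (DerivedCategory.isZero_of_isGE _ a i hi)).of_iso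
        (homologyRdIso U.ι _ i)).ge⟩
  haveI := (t.isGE_iff_isIso_truncGEπ_app a _).1 hGE
  haveI := (t.isGE_iff_isIso_truncGEπ_app a _).1 ha
  exact asIso ((t.truncGEπ a).app _) ≪≫ (asIso ((t.truncGE a).map ((rd U.ι).map ((t.truncGEπ a).app G)))).symm ≪≫
    asIso ((t.truncGE a).map ((rd U.ι).map f)) ≪≫ (asIso ((t.truncGEπ a).app _)).symm ≪≫ e

end Groth.Agent.H16Derived.Thomason
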