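import Groth.Agent.H16Derived.Thomason.IsoTransport
import Groth.Agent.H4DR.PCoh.Attach
import Groth.Agent.H16Derived.KFlat.PerfTilde

/-!
# One step of approximation by perfect objects on an affine scheme
-/

set_option autoImplicit false
set_option linter.style.haveILetI false

universe u

open CategoryTheory CategoryTheory.Limits CategoryTheory.Pretriangulated AlgebraicGeometry
open Groth.Agent.H4DR.PCoh (hm δl)

attribute [local instance] HasDerivedCategory.standard

namespace Groth.Agent.H16Derived.Thomason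

variable {A : Type u} [CommRing A]

/-- `g`-torsion cohomology in degrees `[-d, 0]`. -/
def WTors (g : A) (d : ℕ) (E : Dual.D A) : Prop :=
  ∀ (i : ℤ), -(d : ℤ) ≤ i → i ≤ 0 → ∀ x : Dual.HD A E i, ∃ n : ℕ, g ^ n • x = 0

/-- Maps into objects torsion in a window are killed. -/
def WKilled (d : ℕ) (K : Dual.D A) : Prop :=
  ∀ (g : A) (E : Dual.D A), WTors g d E → ∀ φ : K ⟶ E, ∃ N : ℕ, g ^ N • φ = 0

theorem WTors.shift {g : A} {d : ℕ} {E : Dual.D A} (h : WTors g (d + 1) E) : WTors g d (E⟦(-1 : ℤ)⟧) :=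
  fun i hi hi' x => by
    obtain ⟨k, hk⟩ := h (-1 + i) (by push_cast; omega) (by omega)
      (H4DR.PCoh.hShift E (-1) i (-1 + i) rfl x)
    exact ⟨k, (H4DR.PCoh.hShift E (-1) i (-1 + i) rfl).injective (by rw [map_smul, hk, map_zero])⟩

theorem WTors.mono {g : A} {d e : ℕ} (hde : d ≤ e) {E : Dual.D A} (h : WTors g e E) : WTors g d E :=
  fun i hi hi' x => h i (by omega) hi' x

/-- A class in degree zero which is torsion for `s` factors through a Koszul object. -/
theorem exists_factor : ∀ (s : List A) (M : Dual.D A), (∀ g ∈ s, WTors g (s.length - 1) M) →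
    ∀ x : Dual.inD A A ⟶ M, ∃ (K : Dual.D A) (e : Dual.inD A A ⟶ K) (φ : K ⟶ M),
      DRing.IsPerfect A K ∧ WKilled s.length K ∧ (∀ i, 0 < i → Subsingleton (Dual.HD A K i)) ∧
        (∀ g ∈ s, GTors g K) ∧ e ≫ φ = x
  | [], M, _, x => ⟨Dual.inD A A, 𝟙 _, x, isPerfect_unit, fun g E hE φ => by
      obtain ⟨N, hN⟩ := hE 0 (by simp) le_rfl (H4DR.Ext.evalOne E φ)
      exact ⟨N, (H4DR.Ext.bijective_evalOne E).1 (by rw [map_smul, hN, map_zero])⟩,
      fun i hi => H4DR.PCoh.subsingleton_HD_inD (ModuleCat.of A A) i (by omega), fun g hg => absurd hg (by simp),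
      Category.id_comp _⟩
  | g :: s, M, hM, x => by
      obtain ⟨K, e, φ, hK, hkill, hle, htors, he⟩ := exists_factor s M
        (fun h hh => (hM h (List.mem_cons_of_mem _ hh)).mono (by simp)) x
      obtain ⟨N, hN⟩ := hkill g M ((hM g List.mem_cons_self).mono (by simp)) φ
      obtain ⟨K', a, b, hT⟩ := distinguished_cocone_triangle (g ^ N • 𝟙 K)
      obtain ⟨φ', hφ'⟩ := Triangle.yoneda_exact₂ _ hT φ (by
        show (g ^ N • 𝟙 K) ≫ φ = 0
        rw [Linear.smul_comp, Category.id_comp, hN])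
      change φ = a ≫ φ' at hφ'
      refine ⟨K', e ≫ a, φ', H4DR.TorAmp.isPerfect_obj₃ _ hT hK hK, fun h E hE ψ => ?_, fun i hi => ?_,
        fun h hh => ?_, by rw [Category.assoc, ← hφ', he]⟩
      · obtain ⟨N₁, hN₁⟩ := hkill h E (hE.mono (by simp)) (a ≫ ψ)
        rw [← Linear.comp_smul] at hN₁
        obtain ⟨χ, hχ⟩ := Triangle.yoneda_exact₃ _ hT (h ^ N₁ • ψ) hN₁
        change h ^ N₁ • ψ = b ≫ χ at hχ
        change K⟦(1 : ℤ)⟧ ⟶ E at χ
        let c := shiftFunctorCompIsoId (Dual.D A) (1 : ℤ) (-1) (by norm_num)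
        obtain ⟨N₂, hN₂⟩ := hkill h (E⟦(-1 : ℤ)⟧) hE.shift (c.inv.app K ≫ χ⟦(-1 : ℤ)⟧')
        have hχ0 : h ^ N₂ • χ = 0 := by
          refine (shiftFunctor (Dual.D A) (-1 : ℤ)).map_injective ?_
          rw [Functor.map_zero]
          refine (cancel_epi (c.inv.app K)).1 (Eq.trans ?_ comp_zero.symm)
          rw [Functor.map_smul, Linear.comp_smul]
          exact hN₂
        exact ⟨N₂ + N₁, by rw [pow_add, mul_smul, hχ, ← Linear.comp_smul, hχ0, comp_zero]⟩
      · exact H4DR.PCoh.subsingleton₃ _ hT i (i + 1) rfl (hle (i + 1) (by omega)) (hle i hi)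
      · intro i y
        rcases List.mem_cons.1 hh with rfl | hh
        · obtain ⟨n, hn⟩ := H4DR.FlatBC.torsion_cone (h ^ N) hT (h ^ N) (Or.inl rfl) i y
          exact ⟨N * n, by rw [pow_mul, hn]⟩
        · exact H4DR.FlatBC.torsion_cone (g ^ N) hT h (Or.inr (htors h hh)) i y

/-- Finitely many classes in degree zero. -/
theorem exists_cover (s : List A) (M : Dual.D A) (hM : ∀ g ∈ s, WTors g s.length M)
    (S : Finset (Dual.HD A M 0)) :
    ∃ (R : Dual.D A) (f : R ⟶ M), DRing.IsPerfect A R ∧ (∀ i, 0 < i → Subsingleton (Dual.HD A R i)) ∧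
      (∀ g ∈ s, GTors g R) ∧ ∀ x ∈ S, x ∈ LinearMap.range (hm 0 f) := by
  classical
  induction S using Finset.induction_on with
  | empty =>
    open ZeroObject in
    have hz : ∀ i, Subsingleton (Dual.HD A (0 : Dual.D A) i) := fun i =>
      ModuleCat.subsingleton_of_isZero ((DerivedCategory.homologyFunctor _ i).map_isZero (isZero_zero _))
    open ZeroObject in
    refine ⟨0, 0, ?_, fun i _ => hz i, fun g _ i x => ⟨0, @Subsingleton.elim _ (hz i) _ _⟩, by simp⟩
    refine ⟨0, 0, 0, fun i _ => Functor.map_isZero (HomologicalComplex.eval _ _ i) (isZero_zero _),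
      fun i => H4DR.TorAmp.finiteProjective_of_isZero
        (Functor.map_isZero (HomologicalComplex.eval _ _ i) (isZero_zero _)),
      ⟨(DerivedCategory.Q.map_isZero (isZero_zero _)).iso (isZero_zero _)⟩⟩
  | @insert x S hx ih =>
    obtain ⟨R, f, hR, hle, htors, hrange⟩ := ih
    obtain ⟨y, hy⟩ := (H4DR.Ext.bijective_evalOne M).2 x
    obtain ⟨K, e, φ, hK, -, hle', htors', he⟩ := exists_factor s M
      (fun g hg => (hM g hg).mono (by omega)) y
    refine ⟨R ⊞ K, biprod.desc f φ,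
      H4DR.TorAmp.isPerfect_obj₂ _ (binaryBiproductTriangle_distinguished R K) hR hK,
      fun i hi => H4DR.PCoh.subsingleton₂ _ (binaryBiproductTriangle_distinguished R K) i (hle i hi) (hle' i hi),
      fun g hg i z => ?_, fun z hz => ?_⟩
    · let T := binaryBiproductTriangle R K
      obtain ⟨n, hn⟩ := htors' g hg i (hm i T.mor₂ z)
      obtain ⟨w, hw⟩ := (H4DR.PCoh.ex₂ T (binaryBiproductTriangle_distinguished R K) i (g ^ n • z)).1
        ((map_smul _ _ _).trans hn)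
      obtain ⟨k, hk⟩ := htors g hg i w
      refine ⟨k + n, ?_⟩
      rw [pow_add, mul_smul]
      exact ((congrArg (g ^ k • ·) hw).symm.trans
        ((map_smul (hm i T.mor₁) (g ^ k) w).symm.trans ((congrArg (hm i T.mor₁) hk).trans (map_zero _))))
    · rcases Finset.mem_insert.1 hz with rfl | hz
      · refine ⟨hm 0 (e ≫ biprod.inr) (H4DR.Ext.evalOne (Dual.inD A A) (𝟙 _)), ?_⟩
        rw [← hy, ← he]
        show hm 0 _ (hm 0 _ (hm 0 _ _)) = hm 0 _ _
        rw [H4DR.PCoh.hm_id, ← H4DR.PCoh.hm_comp_apply, Category.assoc, biprod.inr_desc]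
        rfl
      · obtain ⟨w, hw⟩ := hrange z hz
        exact ⟨hm 0 biprod.inl w, by rw [← H4DR.PCoh.hm_comp_apply, biprod.inl_desc, hw]⟩

/-- One approximation step in `D(A)`. -/
theorem exists_step_ring (s : List A) (E : Dual.D A) (b : ℤ) (hb : ∀ i, b < i → Subsingleton (Dual.HD A E i))
    [Module.Finite A (Dual.HD A E b)]
    (hE : ∀ g ∈ s, ∀ i, b - s.length ≤ i → i ≤ b → ∀ x : Dual.HD A E i, ∃ n : ℕ, g ^ n • x = 0) :
    ∃ (R C : Dual.D A) (f : R ⟶ E) (p : E ⟶ C) (w : C ⟶ R⟦(1 : ℤ)⟧),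
      Triangle.mk f p w ∈ distTriang (Dual.D A) ∧ DRing.IsPerfect A R ∧ (∀ g ∈ s, GTors g R) ∧
        ∀ i, b ≤ i → Subsingleton (Dual.HD A C i) := by
  classical
  let M := E⟦b⟧
  let σ := H4DR.PCoh.hShift E b 0 b (add_zero b)
  haveI : Module.Finite A (Dual.HD A M 0) := Module.Finite.equiv σ.symm
  obtain ⟨S, hS⟩ : (⊤ : Submodule A (Dual.HD A M 0)).FG := Module.Finite.fg_top
  have hM : ∀ g ∈ s, WTors g s.length M := fun g hg i hi hi' x => by
    obtain ⟨n, hn⟩ := hE g hg (b + i) (by omega) (by omega) (H4DR.PCoh.hShift E b i (b + i) rfl x)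
    exact ⟨n, (H4DR.PCoh.hShift E b i (b + i) rfl).injective (by rw [map_smul, hn, map_zero])⟩
  obtain ⟨R, f, hR, hle, htors, hrange⟩ := exists_cover s M hM S
  obtain ⟨C, p, w, hT⟩ := distinguished_cocone_triangle f
  have hsurj : Function.Surjective (hm 0 f) := LinearMap.range_eq_top.1 (top_le_iff.1 (hS ▸ Submodule.span_le.2 hrange))
  have hleM : ∀ i, 0 < i → Subsingleton (Dual.HD A M i) := fun i hi =>
    @Equiv.subsingleton _ _ (H4DR.PCoh.hShift E b i (b + i) rfl).toEquiv (hb (b + i) (by omega))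
  have hC : ∀ i, 0 ≤ i → Subsingleton (Dual.HD A C i) := fun i hi => by
    refine (H4DR.PCoh.subsingleton₃_iff _ hT i (i + 1) rfl).2 ⟨fun z => ?_, fun a a' _ => ?_⟩
    · rcases eq_or_lt_of_le hi with rfl | hlt
      · exact hsurj z
      · exact ⟨0, @Subsingleton.elim _ (hleM i hlt) _ _⟩
    · exact @Subsingleton.elim _ (hle (i + 1) (by omega)) _ _
  let sh : Triangle (Dual.D A) := (Triangle.shiftFunctor (Dual.D A) (-b)).obj (Triangle.mk f p w)
  have hsh : sh ∈ distTriang _ := Triangle.shift_distinguished _ hT (-b)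
  let c : (E⟦b⟧)⟦-b⟧ ≅ E := (shiftFunctorCompIsoId (Dual.D A) b (-b) (add_neg_cancel b)).app E
  refine ⟨R⟦-b⟧, C⟦-b⟧, sh.mor₁ ≫ c.hom, c.inv ≫ sh.mor₂, sh.mor₃,
    isomorphic_distinguished _ hsh _ (Triangle.isoMk _ _ (Iso.refl _) c.symm (Iso.refl _) ?_ ?_ ?_),
    H4DR.TorAmp.isPerfect_shift _ hR, fun g hg => (htors g hg).shift _, fun i hi => ?_⟩
  · show (sh.mor₁ ≫ c.hom) ≫ c.inv = 𝟙 _ ≫ sh.mor₁
    erw [Category.assoc, c.hom_inv_id, Category.comp_id, Category.id_comp]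
  · show (c.inv ≫ sh.mor₂) ≫ 𝟙 _ = c.inv ≫ sh.mor₂
    exact Category.comp_id _
  · show sh.mor₃ ≫ (𝟙 _)⟦(1 : ℤ)⟧' = 𝟙 _ ≫ sh.mor₃
    rw [CategoryTheory.Functor.map_id]
    exact (Category.comp_id _).trans (Category.id_comp _).symm
  · exact @Equiv.subsingleton _ _ (H4DR.PCoh.hShift C (-b) i (-b + i) rfl).toEquiv (hC _ (by omega))

open Groth.Agent.H16Derived.KFlat.Stalk in
/-- Torsion in one degree from the support. -/
theorem exists_pow_smul_eq_zero_of_support [PreservesFiniteLimits (tilde.functor (CommRingCat.of A))]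
    (s : Set A) (M : Dual.D A) (i : ℤ)
    (h : CohB1.support (DCoh.HD ((DCoh.tildeD (CommRingCat.of A)).obj M) i) ⊆
      (PrimeSpectrum.zeroLocus s : Set (Spec (CommRingCat.of A))))
    (g : A) (hg : g ∈ s) (x : hA M i) : ∃ n : ℕ, g ^ n • x = 0 := by
  let J : Ideal A := LinearMap.ker (LinearMap.toSpanSingleton A (hA M i) x)
  have : g ∈ J.radical := by
    rw [Ideal.radical_eq_sInf, Submodule.mem_sInf]
    rintro P ⟨hJP, hP⟩
    by_contra hgP
    have hp : (⟨P, hP⟩ : PrimeSpectrum A) ∉ PrimeSpectrum.zeroLocus s := fun hh => hgP (hh hg)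
    rw [MVPush.support_iso (hdTilde M i)] at h
    have hsub : Subsingleton ((tilde (R := CommRingCat.of A) (hA M i)).presheaf.stalk (⟨P, hP⟩ : PrimeSpectrum A)) :=
      not_not.1 fun hh => hp (h hh)
    obtain ⟨c, hc, hcx⟩ := (subsingleton_stalk_tilde_iff (R := CommRingCat.of A) (hA M i) ⟨P, hP⟩).1 hsub x
    exact hc (hJP (LinearMap.mem_ker.2 hcx))
  obtain ⟨n, hn⟩ := this
  exact ⟨n, LinearMap.mem_ker.1 hn⟩

end Groth.Agent.H16Derived.Thomason
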