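import Groth.Agent.H16Derived.Thomason.KoszulOrth
import Groth.Agent.H16Derived.Thomason.ApproxAffine
import Groth.Agent.H16Derived.QCohD.Tensor

/-!
# Sections factor through Koszul complexes of powers
-/

set_option autoImplicit false
set_option linter.style.haveILetI false
set_option linter.unusedSectionVars false

universe u

open CategoryTheory CategoryTheory.Limits CategoryTheory.Pretriangulated AlgebraicGeometry

attribute [local instance] HasDerivedCategory.standard

namespace Groth.Agent.H16Derived.Thomason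

open Groth.Agent.H16Derived.KFlat Groth.Agent.H16Derived.KFlat.Stalk

variable {A : Type u} [CommRing A]

/-- The inclusion of degree zero. -/
noncomputable def kosι : ∀ l : List A, kos ([] : List A) ⟶ kos l
  | [] => 𝟙 _
  | f :: l => kosι l ≫ DerivedCategory.Q.map (CochainComplex.mappingCone.inr (f • 𝟙 (Koszul.koszul A l)))

theorem exists_kos_triangle_inr (f : A) (l : List A) :
    ∃ b : kos (f :: l) ⟶ (kos l)⟦(1 : ℤ)⟧,
      Triangle.mk (f • 𝟙 (kos l))
        (DerivedCategory.Q.map (CochainComplex.mappingCone.inr (f • 𝟙 (Koszul.koszul A l)))) b ∈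
        distTriang (Dual.D A) := by
  let φ := f • 𝟙 (Koszul.koszul A l)
  have h : DerivedCategory.Q.mapTriangle.obj (CochainComplex.mappingCone.triangle φ) ∈ distTriang _ :=
    DerivedCategory.mappingCone_triangle_distinguished φ
  have e : DerivedCategory.Q.map φ = f • 𝟙 (kos l) := by
    rw [Functor.map_smul, CategoryTheory.Functor.map_id]
  change Triangle.mk (DerivedCategory.Q.map φ) (DerivedCategory.Q.map (CochainComplex.mappingCone.inr φ)) _ ∈ _ at h
  rw [e] at h
  exact ⟨_, h⟩

/-- Koszul complexes of larger powers map to those of smaller ones. -/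
theorem exists_transition : ∀ (l : List A) (e E : ℕ), e ≤ E →
    ∃ τ : kos (l.map (· ^ E)) ⟶ kos (l.map (· ^ e)), kosι (l.map (· ^ E)) ≫ τ = kosι (l.map (· ^ e))
  | [], _, _, _ => ⟨𝟙 _, Category.comp_id _⟩
  | g :: s, e, E, h => by
      obtain ⟨τ, hτ⟩ := exists_transition s e E h
      obtain ⟨b₁, h₁⟩ := exists_kos_triangle_inr (g ^ E) (s.map (· ^ E))
      obtain ⟨b₂, h₂⟩ := exists_kos_triangle_inr (g ^ e) (s.map (· ^ e))
      obtain ⟨c, hc, -⟩ := complete_distinguished_triangle_morphism _ _ h₁ h₂ (g ^ (E - e) • τ) τ (by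
        show (g ^ E • 𝟙 _) ≫ τ = (g ^ (E - e) • τ) ≫ (g ^ e • 𝟙 _)
        rw [Linear.smul_comp, Category.id_comp, Linear.smul_comp, Linear.comp_smul, Category.comp_id,
          smul_smul, ← pow_add, Nat.sub_add_cancel h])
      refine ⟨c, ?_⟩
      show (kosι (s.map (· ^ E)) ≫ _) ≫ c = kosι (s.map (· ^ e)) ≫ _
      exact ((Category.assoc _ _ _).trans (congrArg (kosι (s.map (· ^ E)) ≫ ·) hc)).trans
        ((Category.assoc _ _ _).symm.trans (congrArg (· ≫ _) hτ))

/-- Maps into objects torsion in a window are killed. -/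
theorem wkilled_kos : ∀ l : List A, WKilled l.length (kos l)
  | [] => fun g E hE φ => by
      let e : kos ([] : List A) ≅ Dual.inD A A := (H4DR.PCoh.inDIso (ModuleCat.of A A)).symm
      obtain ⟨N, hN⟩ := hE 0 (by simp) le_rfl (H4DR.Ext.evalOne E (e.inv ≫ φ))
      refine ⟨N, (cancel_epi e.inv).1 (Eq.trans ?_ comp_zero.symm)⟩
      exact (H4DR.Ext.bijective_evalOne E).1 (by rw [Linear.comp_smul, map_smul, hN, map_zero])
  | g :: s => fun h E hE φ => by
      obtain ⟨b, hT⟩ := exists_kos_triangle_inr g s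
      obtain ⟨N₁, hN₁⟩ := wkilled_kos s h E (hE.mono (by simp)) (_ ≫ φ)
      rw [← Linear.comp_smul] at hN₁
      obtain ⟨χ, hχ⟩ := Triangle.yoneda_exact₃ _ hT (h ^ N₁ • φ) hN₁
      change h ^ N₁ • φ = b ≫ χ at hχ
      change (kos s)⟦(1 : ℤ)⟧ ⟶ E at χ
      let c := shiftFunctorCompIsoId (Dual.D A) (1 : ℤ) (-1) (by norm_num)
      obtain ⟨N₂, hN₂⟩ := wkilled_kos s h (E⟦(-1 : ℤ)⟧) hE.shift (c.inv.app (kos s) ≫ χ⟦(-1 : ℤ)⟧')
      have hχ0 : h ^ N₂ • χ = 0 := by
        refine (shiftFunctor (Dual.D A) (-1 : ℤ)).map_injective ?_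
        rw [Functor.map_zero]
        refine (cancel_epi (c.inv.app (kos s))).1 (Eq.trans ?_ comp_zero.symm)
        rw [Functor.map_smul, Linear.comp_smul]
        exact hN₂
      exact ⟨N₂ + N₁, by rw [pow_add, mul_smul, hχ, ← Linear.comp_smul, hχ0, comp_zero]⟩

/-- A torsion class in degree zero factors through a Koszul complex of powers. -/
theorem exists_factor_pow : ∀ (l : List A) (M : Dual.D A), (∀ g ∈ l, WTors g (l.length - 1) M) →
    ∀ x : kos ([] : List A) ⟶ M, ∃ (e : ℕ) (ψ : kos (l.map (· ^ e)) ⟶ M), kosι (l.map (· ^ e)) ≫ ψ = x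
  | [], _, _, x => ⟨0, x, Category.id_comp _⟩
  | g :: s, M, hM, x => by
      obtain ⟨e₀, ψ₀, hψ₀⟩ := exists_factor_pow s M
        (fun h hh => (hM h (List.mem_cons_of_mem _ hh)).mono (by simp)) x
      obtain ⟨N, hN⟩ := wkilled_kos (s.map (· ^ e₀)) g M ((hM g List.mem_cons_self).mono (by simp)) ψ₀
      let E := e₀ + N
      obtain ⟨τ, hτ⟩ := exists_transition s e₀ E (Nat.le_add_right _ _)
      obtain ⟨b, hT⟩ := exists_kos_triangle_inr (g ^ E) (s.map (· ^ E))
      have h0 : g ^ E • (τ ≫ ψ₀) = 0 := by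
        rw [← Linear.comp_smul, pow_add, mul_smul, hN, smul_zero, comp_zero]
      obtain ⟨ψ, hψ⟩ := Triangle.yoneda_exact₂ _ hT (τ ≫ ψ₀)
        (((Linear.smul_comp (R := A) _ _ _ _ _ _).trans (congrArg (g ^ E • ·) (Category.id_comp _))).trans h0)
      refine ⟨E, ψ, ?_⟩
      show (kosι (s.map (· ^ E)) ≫ _) ≫ ψ = x
      exact (Category.assoc _ _ _).trans ((congrArg (kosι (s.map (· ^ E)) ≫ ·) hψ.symm).trans
        ((Category.assoc _ _ _).symm.trans ((congrArg (· ≫ ψ₀) hτ).trans hψ₀)))

/-- The structure sheaf as the empty Koszul object. -/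
noncomputable def structureIso (A : Type u) [CommRing A] [PreservesFiniteLimits (tilde.functor (CommRingCat.of A))]
    [PreservesFiniteColimits (tilde.functor (CommRingCat.of A))] :
    (DCoh.tildeD (CommRingCat.of A)).obj (kos ([] : List A)) ≅
      DCoh.inD (Spec (CommRingCat.of A)) (Coh.structureModule (Spec (CommRingCat.of A))) :=
  (DCoh.tildeD (CommRingCat.of A)).mapIso
      ((DerivedCategory.singleFunctorIsoCompQ (ModuleCat.{u} A) 0).symm.app (ModuleCat.of A A)) ≪≫
    ((tilde.functor (CommRingCat.of A)).mapDerivedCategorySingleFunctor 0).app (ModuleCat.of A A) ≪≫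
    (DerivedCategory.singleFunctor (Spec (CommRingCat.of A)).Modules 0).mapIso
      (tildeSelf (R := CommRingCat.of A))

end Groth.Agent.H16Derived.Thomason
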