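import Groth.Agent.H16Derived.Thomason.Lift
import Groth.Agent.H4DR.Ext.Point
import Groth.Agent.H4DR.FlatBC.TorsionExt
import Groth.Agent.H4DR.TorAmp.Perfect
import Groth.Agent.H16Derived.QCohD.Equiv
import Groth.Agent.S1105

/-!
# Koszul generators on affine schemes
-/

set_option autoImplicit false
set_option linter.style.haveILetI false

universe u

open CategoryTheory CategoryTheory.Limits CategoryTheory.Pretriangulated AlgebraicGeometry
open Groth.Agent.H4DR (Ext.evalEquiv)

attribute [local instance] HasDerivedCategory.standard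

namespace Groth.Agent.H16Derived.Thomason

variable {A : Type u} [CommRing A]

/-- Cohomology is `g`-power torsion. -/
def GTors (g : A) (E : Dual.D A) : Prop := ∀ (i : ℤ) (x : Dual.HD A E i), ∃ n : ℕ, g ^ n • x = 0

theorem GTors.shift {g : A} {E : Dual.D A} (h : GTors g E) (n : ℤ) : GTors g (E⟦n⟧) := fun i x => by
  obtain ⟨k, hk⟩ := h (n + i) (H4DR.PCoh.hShift E n i (n + i) rfl x)
  exact ⟨k, (H4DR.PCoh.hShift E n i (n + i) rfl).injective (by rw [map_smul, hk, map_zero])⟩

theorem isPerfect_unit : DRing.IsPerfect A (Dual.inD A A) := by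
  refine ⟨(HomologicalComplex.single (ModuleCat.{u} A) (ComplexShape.up ℤ) 0).obj (ModuleCat.of A A), 0, 0,
    fun i hi => HomologicalComplex.isZero_single_obj_X _ _ _ _ (by omega), fun i => ?_,
    ⟨(H4DR.PCoh.inDIso (ModuleCat.of A A)).symm⟩⟩
  by_cases h : i = 0
  · subst h
    exact H4DR.TorAmp.finiteProjective_of_iso
      (HomologicalComplex.singleObjXSelf (ComplexShape.up ℤ) 0 (ModuleCat.of A A)).symm
      ⟨Module.Finite.self A, Module.Projective.of_free⟩
  · exact H4DR.TorAmp.finiteProjective_of_isZero (HomologicalComplex.isZero_single_obj_X _ _ _ _ h)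

/-- Maps into torsion objects are killed. -/
def Killed (K : Dual.D A) : Prop :=
  ∀ (g : A) (E : Dual.D A), GTors g E → ∀ φ : K ⟶ E, ∃ N : ℕ, g ^ N • φ = 0

theorem killed_shift {K : Dual.D A} (h : Killed K) (n : ℤ) : Killed (K⟦n⟧) := fun g E hE φ => by
  let c := shiftFunctorCompIsoId (Dual.D A) n (-n) (add_neg_cancel n)
  obtain ⟨N, hN⟩ := h g (E⟦-n⟧) (hE.shift _) (c.inv.app K ≫ φ⟦-n⟧')
  refine ⟨N, (shiftFunctor (Dual.D A) (-n)).map_injective ?_⟩
  rw [Functor.map_zero]
  refine (cancel_epi (c.inv.app K)).1 (Eq.trans ?_ comp_zero.symm)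
  rw [Functor.map_smul, Linear.comp_smul]
  exact hN

/-- Koszul-type generators in `D(A)`. -/
theorem exists_koszul : ∀ s : List A, ∃ K : Dual.D A, DRing.IsPerfect A K ∧ Killed K ∧
    (∀ g ∈ s, GTors g K) ∧
    ∀ E : Dual.D A, (∀ g ∈ s, GTors g E) → (∀ (n : ℤ) (f : K ⟶ E⟦n⟧), f = 0) → IsZero E
  | [] => by
      refine ⟨Dual.inD A A, isPerfect_unit, fun g E hE φ => ?_, fun g hg => absurd hg (by simp),
        fun E _ h => ?_⟩
      · obtain ⟨N, hN⟩ := hE 0 (H4DR.Ext.evalOne E φ)
        exact ⟨N, (H4DR.Ext.bijective_evalOne E).1 (by rw [map_smul, hN, map_zero])⟩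
      · haveI : ∀ i, Subsingleton (Dual.HD A E i) := fun i =>
          subsingleton_of_forall_eq 0 fun x => by
            obtain ⟨f, rfl⟩ := (H4DR.Ext.evalEquiv E i).surjective x
            exact (congrArg (H4DR.Ext.evalEquiv E i) (h i f)).trans (map_zero _)
        rw [IsZero.iff_id_eq_zero]
        haveI : IsIso (0 : E ⟶ E) := by
          rw [DerivedCategory.isIso_iff]
          intro i
          rw [ConcreteCategory.isIso_iff_bijective]
          exact ⟨fun a b _ => @Subsingleton.elim (Dual.HD A E i) _ a b,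
            fun b => ⟨0, @Subsingleton.elim (Dual.HD A E i) _ _ _⟩⟩
        exact (cancel_epi (0 : E ⟶ E)).1 (by rw [zero_comp, zero_comp])
  | g :: s => by
      obtain ⟨K, hK, hkill, htors, hgen⟩ := exists_koszul s
      obtain ⟨K', a, b, hT⟩ := distinguished_cocone_triangle (g • 𝟙 K)
      refine ⟨K', H4DR.TorAmp.isPerfect_obj₃ _ hT hK hK, fun h E hE φ => ?_, fun h hh => ?_, fun E hE ho => ?_⟩
      · obtain ⟨N, hN⟩ := hkill h E hE (a ≫ φ)
        rw [← Linear.comp_smul] at hN
        obtain ⟨ψ, hψ⟩ := Triangle.yoneda_exact₃ _ hT (h ^ N • φ) hN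
        change h ^ N • φ = b ≫ ψ at hψ
        obtain ⟨M, hM⟩ := killed_shift hkill (1 : ℤ) h E hE ψ
        exact ⟨M + N, by rw [pow_add, mul_smul, hψ, ← Linear.comp_smul, hM, comp_zero]⟩
      · rcases List.mem_cons.1 hh with rfl | hh
        · exact fun i x => H4DR.FlatBC.torsion_cone h hT h (Or.inl rfl) i x
        · exact fun i x => H4DR.FlatBC.torsion_cone g hT h (Or.inr (htors h hh)) i x
      · refine hgen E (fun h hh => hE h (List.mem_cons_of_mem _ hh)) fun n f => ?_
        obtain ⟨N, hN⟩ := hkill g (E⟦n⟧) ((hE g List.mem_cons_self).shift n) f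
        induction N with
        | zero => simpa using hN
        | succ N ih =>
          refine ih ?_
          obtain ⟨χ, hχ⟩ := Triangle.yoneda_exact₂ _ hT (g ^ N • f) (by
            show (g • 𝟙 K) ≫ (g ^ N • f) = 0
            rw [Linear.smul_comp, Category.id_comp, smul_smul, ← pow_succ', hN])
          change g ^ N • f = a ≫ χ at hχ
          rw [hχ, ho n χ, comp_zero]

theorem subsingleton_stalk_tilde_iff {R : CommRingCat.{u}} (N : ModuleCat.{u} R) (p : PrimeSpectrum R) :
    Subsingleton ((tilde N).presheaf.stalk p) ↔ ∀ x : N, ∃ c ∉ p.asIdeal, c • x = 0 := by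
  let l := tilde.toStalk N p
  haveI h1 : IsLocalizedModule p.asIdeal.primeCompl l.hom := inferInstance
  constructor
  · intro hsub x
    obtain ⟨c, hc⟩ := (IsLocalizedModule.eq_zero_iff p.asIdeal.primeCompl l.hom).1
      (@Subsingleton.elim _ hsub (l.hom x) 0)
    exact ⟨c.1, c.2, hc⟩
  · intro h
    refine subsingleton_of_forall_eq 0 fun z => ?_
    obtain ⟨⟨x, c⟩, rfl⟩ := IsLocalizedModule.mk'_surjective p.asIdeal.primeCompl l.hom z
    obtain ⟨d, hd, hdx⟩ := h x
    exact (IsLocalizedModule.mk'_eq_zero' l.hom c).2 ⟨⟨d, hd⟩, hdx⟩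

open Groth.Agent.H16Derived.KFlat.Stalk in
theorem suppIn_tildeD_iff [PreservesFiniteLimits (tilde.functor (CommRingCat.of A))] (s : Set A) (M : Dual.D A) :
    SuppIn (PrimeSpectrum.zeroLocus s : Set (Spec (CommRingCat.of A))) ((DCoh.tildeD (CommRingCat.of A)).obj M) ↔
      ∀ g ∈ s, GTors g M := by
  have hsupp : ∀ (i : ℤ) (p : PrimeSpectrum A),
      (p : Spec (CommRingCat.of A)) ∉ CohB1.support (DCoh.HD ((DCoh.tildeD (CommRingCat.of A)).obj M) i) ↔
        ∀ x : hA M i, ∃ c ∉ p.asIdeal, c • x = 0 := fun i p => by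
    rw [MVPush.support_iso (hdTilde M i)]
    show ¬ ¬ Subsingleton _ ↔ _
    rw [not_not]
    exact subsingleton_stalk_tilde_iff (R := CommRingCat.of A) (hA M i) p
  constructor
  · intro h g hg i x
    let J : Ideal A := LinearMap.ker (LinearMap.toSpanSingleton A (hA M i) x)
    have : g ∈ J.radical := by
      rw [Ideal.radical_eq_sInf, Submodule.mem_sInf]
      rintro P ⟨hJP, hP⟩
      by_contra hgP
      have hp : (⟨P, hP⟩ : PrimeSpectrum A) ∉ PrimeSpectrum.zeroLocus s := fun hh => hgP (hh hg)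
      obtain ⟨c, hc, hcx⟩ := (hsupp i ⟨P, hP⟩).1 (fun hh => hp (h i hh)) x
      exact hc (hJP (LinearMap.mem_ker.2 hcx))
    obtain ⟨n, hn⟩ := this
    exact ⟨n, LinearMap.mem_ker.1 hn⟩
  · intro h i p hp
    by_contra hps
    obtain ⟨g, hg, hgp⟩ : ∃ g ∈ s, g ∉ (p : PrimeSpectrum A).asIdeal := Set.not_subset.1 hps
    refine (hsupp i p).2 (fun x => ?_) hp
    obtain ⟨n, hn⟩ := h g hg i x
    exact ⟨g ^ n, fun hh => hgp ((p : PrimeSpectrum A).isPrime.mem_of_pow_mem n hh), hn⟩

theorem hasGen_spec (A : Type u) [CommRing A] (T : Set (Spec (CommRingCat.of A))) (hT : IsClosed T)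
    (hTc : IsCompact Tᶜ) : HasGen T := by
  classical
  haveI : PreservesFiniteColimits (tilde.functor (CommRingCat.of A)) :=
    @PreservesColimitsOfSize.preservesFiniteColimits.{0, 0} _ _ _ _ _
      ((tilde.adjunction (R := CommRingCat.of A)).leftAdjoint_preservesColimits)
  obtain ⟨s, hs⟩ : ∃ s : Finset A, PrimeSpectrum.zeroLocus (s : Set A) = T := by
    obtain ⟨s, hs⟩ := PrimeSpectrum.isCompact_isOpen_iff.1
      ⟨(hTc : IsCompact (Tᶜ : Set (PrimeSpectrum A))), hT.isOpen_compl⟩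
    exact ⟨s, compl_injective hs⟩
  subst hs
  obtain ⟨K, hK, -, htors, hgen⟩ := exists_koszul s.toList
  let F := DCoh.tildeD (CommRingCat.of A)
  refine ⟨F.obj K, ⟨(S1105.result A K).2 hK, (suppIn_tildeD_iff _ K).2 fun g hg => htors g (Finset.mem_toList.2 hg)⟩,
    fun E hE ho => ?_⟩
  obtain ⟨M, ⟨e⟩⟩ := QCohD.exists_tildeD_iso (R := CommRingCat.of A) hE.1
  change Dual.D A at M
  have hM : IsZero M := by
    refine hgen M (fun g hg => (suppIn_tildeD_iff _ M).1 (hE.2.of_iso e.symm) g (Finset.mem_toList.1 hg))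
      fun n f => ?_
    let c := shiftFunctorCompIsoId (DCoh.D (Spec (CommRingCat.of A))) n (-n) (add_neg_cancel n)
    let g : F.obj K ⟶ E⟦n⟧ := F.map f ≫ (F.commShiftIso n).hom.app M ≫ e.hom⟦n⟧'
    have h0 : g⟦-n⟧' ≫ c.hom.app E = 0 := ho (-n) _
    have hg : g = 0 := (shiftFunctor _ (-n)).map_eq_zero_iff.1
      ((cancel_mono (c.hom.app E)).1 (h0.trans zero_comp.symm))
    haveI := (QCohD.full_faithful (CommRingCat.of A)).2
    refine F.map_injective ?_
    rw [F.map_zero]
    exact (cancel_mono ((F.commShiftIso n).hom.app M ≫ e.hom⟦n⟧')).1 (hg.trans zero_comp.symm)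
  exact (F.map_isZero hM).of_iso e.symm

end Groth.Agent.H16Derived.Thomason
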