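import Groth.Agent.H16Derived.Thomason.Approx

/-!
# Approximation on a scheme covered by an open and an affine open
-/

set_option autoImplicit false
set_option linter.style.haveILetI false
set_option linter.style.setOption false
set_option maxHeartbeats 800000

universe u

open CategoryTheory CategoryTheory.Limits CategoryTheory.Pretriangulated AlgebraicGeometry ZeroObject

attribute [local instance] HasDerivedCategory.standard

namespace Groth.Agent.H16Derived.Thomason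

open Groth.Agent.H16Derived.KFlat Groth.Agent.H16Derived.KFlat.Stalk

variable {X : Scheme.{u}}

/-- Biproducts with a shift and exact functors. -/
theorem nonempty_map_biprod_shift {C C' : Type*} [Category C] [Category C'] [Preadditive C] [Preadditive C']
    [HasShift C ℤ] [HasShift C' ℤ] [HasBinaryBiproducts C] [HasBinaryBiproducts C'] (F : C ⥤ C') [F.Additive]
    [F.CommShift ℤ] (P : C) : Nonempty (F.obj (P ⊞ P⟦(1 : ℤ)⟧) ≅ F.obj P ⊞ (F.obj P)⟦(1 : ℤ)⟧) := by
  haveI := preservesBinaryBiproducts_of_preservesBiproducts F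
  exact ⟨F.mapBiprod P (P⟦(1 : ℤ)⟧) ≪≫ biprod.mapIso (Iso.refl _) ((F.commShiftIso (1 : ℤ)).app P)⟩

/-- A morphism to a restriction, the source of which extends on the other open, extends. -/
theorem exists_glue_hom (U V : X.Opens) (hUV : ∀ x : X, x ∈ U ∨ x ∈ V) {T : Set X} (E : DCoh.D X)
    [PreservesFiniteLimits (CxOX.extZero U.ι)]
    (F : DCoh.D (U : Scheme.{u})) (hF : PK (U.ι.base ⁻¹' T) F) (gF : F ⟶ (rd U.ι).obj E)
    (R : DCoh.D (V : Scheme.{u})) (hR : PK (V.ι.base ⁻¹' T) R) (g' : R ⟶ (rd V.ι).obj E)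
    (ψ : (rd (V.ι ⁻¹ᵁ U).ι).obj R ≅ (rd (V.ι ⁻¹ᵁ U).ι).obj ((rd V.ι).obj ((CxOX.extZeroD U.ι).obj F)))
    (hψ : (rd (V.ι ⁻¹ᵁ U).ι).map g' = ψ.hom ≫
      (rd (V.ι ⁻¹ᵁ U).ι).map ((rd V.ι).map (((extZeroRdAdj U).homEquiv F E).symm gF))) :
    ∃ (N : DCoh.D X) (g : N ⟶ E) (e : F ≅ (rd U.ι).obj N), PK T N ∧ e.hom ≫ (rd U.ι).map g = gF := by
  let U' := V.ι ⁻¹ᵁ U
  haveI := preservesFiniteLimits_extZero V
  haveI := preservesFiniteLimits_extZero U'
  let aU := extZeroRdAdj U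
  let aV := extZeroRdAdj V
  let a' := extZeroRdAdj U'
  haveI := isIso_extZeroRdAdj_unit U
  haveI := isIso_extZeroRdAdj_unit V
  let MU := (CxOX.extZeroD U.ι).obj F
  let MV := (CxOX.extZeroD V.ι).obj R
  let g₁ : MU ⟶ E := (aU.homEquiv F E).symm gF
  let g₂ : MV ⟶ E := (aV.homEquiv R E).symm g'
  let Y := (CxOX.extZeroD U'.ι).obj ((rd U'.ι).obj ((rd V.ι).obj MU))
  let A := (CxOX.extZeroD V.ι).obj Y
  let k₁ : Y ⟶ (rd V.ι).obj MU := a'.counit.app _
  let k₂ : Y ⟶ R := (CxOX.extZeroD U'.ι).map ψ.inv ≫ a'.counit.app R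
  let f₁ : A ⟶ MU := (aV.homEquiv Y MU).symm k₁
  let f₂ : A ⟶ MV := (CxOX.extZeroD V.ι).map k₂
  have hk₁ : IsIso ((rd U'.ι).map k₁) := isIso_rd_map_counit U' _
  have hk₂ : IsIso ((rd U'.ι).map k₂) := by
    haveI h := isIso_rd_map_counit U' R
    haveI : IsIso ((rd U'.ι).map (a'.counit.app R)) := h
    rw [Functor.map_comp]
    infer_instance
  have hg : f₁ ≫ g₁ = f₂ ≫ g₂ := by
    have h : k₁ ≫ (rd V.ι).map g₁ = k₂ ≫ g' := by
      apply (a'.homEquiv _ _).injective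
      rw [Adjunction.homEquiv_naturality_right, Adjunction.homEquiv_naturality_right, hψ]
      rw [show a'.homEquiv _ _ k₁ = 𝟙 _ from (a'.homEquiv_unit _ _ _).trans (a'.right_triangle_components _)]
      rw [show a'.homEquiv _ _ k₂ = ψ.inv from
        (a'.homEquiv_naturality_left ψ.inv (a'.counit.app R)).trans
          ((congrArg (ψ.inv ≫ ·) ((a'.homEquiv_unit _ _ _).trans (a'.right_triangle_components _))).trans
            (Category.comp_id _))]
      rw [Iso.inv_hom_id_assoc]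
      exact Category.id_comp _
    show (aV.homEquiv Y MU).symm k₁ ≫ g₁ = (CxOX.extZeroD V.ι).map k₂ ≫ (aV.homEquiv R E).symm g'
    rw [← Adjunction.homEquiv_naturality_right_symm, ← Adjunction.homEquiv_naturality_left_symm, h]
  have hsA : SuppIn (U : Set X) A ∧ SuppIn (V : Set X) A := by
    refine ⟨fun i x hx => ?_, suppIn_extZeroD V _⟩
    obtain ⟨y, hy, rfl⟩ := MVPush.support_hd_extZeroD V Y i hx
    exact (suppIn_extZeroD U' _) i hy
  have hkey : ∀ {B : DCoh.D X} (f : A ⟶ B) (W : X.Opens), IsIso ((rd U'.ι).map ((rd V.ι).map f)) →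
      (∀ x : X, x ∈ W → x ∈ U ∧ x ∈ V ∨ x ∉ U ∨ x ∉ V) → ∀ (S : Set X), SuppIn S A → SuppIn S B →
      (∀ x : X, x ∈ W → x ∈ S → x ∈ U ∧ x ∈ V) → IsIso ((rd W.ι).map f) := by
    intro B f W hf _ S hA hB hW
    obtain ⟨C, v, w, hT⟩ := distinguished_cocone_triangle f
    refine (Triangle.isZero₃_iff_isIso₁ _ ((rd W.ι).map_distinguished _ hT)).1 ?_
    show IsZero ((rd W.ι).obj C)
    rw [← suppIn_compl_iff]
    intro i x hx hxW
    obtain ⟨hxU, hxV⟩ := hW x hxW (suppIn_cone hT hA hB i hx)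
    have hC : IsZero ((rd U'.ι).obj ((rd V.ι).obj C)) :=
      (Triangle.isZero₃_iff_isIso₁ _ ((rd U'.ι).map_distinguished _ ((rd V.ι).map_distinguished _ hT))).2 hf
    rw [← suppIn_compl_iff] at hC
    exact hC i ((mem_support_rd V.ι C i ⟨x, hxV⟩).2 hx) hxU
  have hr₁ : IsIso ((rd V.ι).map f₁) := by
    refine hkey f₁ V ?_ (fun x _ => (em _).elim Or.inl (fun h => Or.inr (by tauto))) U hsA.1 (suppIn_extZeroD U F)
      fun x h1 h2 => ⟨h2, h1⟩
    have h : aV.unit.app Y ≫ (rd V.ι).map f₁ = k₁ :=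
      (aV.homEquiv_unit _ _ _).symm.trans ((aV.homEquiv _ _).apply_symm_apply _)
    have h' : (rd V.ι).map f₁ = inv (aV.unit.app Y) ≫ k₁ := by rw [← h, IsIso.inv_hom_id_assoc]
    haveI := hk₁
    rw [h', Functor.map_comp]
    infer_instance
  have hr₂ : IsIso ((rd U.ι).map f₂) := by
    refine hkey f₂ U ?_ (fun x _ => (em _).elim Or.inl (fun h => Or.inr (by tauto))) V hsA.2 (suppIn_extZeroD V R)
      fun x h1 h2 => ⟨h1, h2⟩
    have h : k₂ ≫ aV.unit.app R = aV.unit.app Y ≫ (rd V.ι).map f₂ := aV.unit.naturality k₂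
    have h' : (rd V.ι).map f₂ = inv (aV.unit.app Y) ≫ k₂ ≫ aV.unit.app R := by
      rw [h, IsIso.inv_hom_id_assoc]
    haveI := hk₂
    rw [h', Functor.map_comp, Functor.map_comp]
    infer_instance
  obtain ⟨N, c, w, hN⟩ := distinguished_cocone_triangle (biprod.lift f₁ (-f₂))
  obtain ⟨g, hg'⟩ := Triangle.yoneda_exact₂ _ hN (biprod.desc g₁ g₂) (by
    show biprod.lift f₁ (-f₂) ≫ biprod.desc g₁ g₂ = 0
    rw [biprod.lift_desc, Preadditive.neg_comp, hg, add_neg_cancel])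
  change N ⟶ E at g
  change biprod.desc g₁ g₂ = c ≫ g at hg'
  haveI hiU : IsIso ((rd U.ι).map (biprod.inl ≫ c)) := by
    refine isIso_map_comp_cone (rd U.ι) biprod.inl biprod.snd
      (binaryBiproductTriangle_distinguished MU MV) _ c w hN ?_
    rw [biprod.lift_snd, Functor.map_neg]
    haveI := hr₂
    exact isIso_neg' _
  haveI hiV : IsIso ((rd V.ι).map (biprod.inr ≫ c)) := by
    refine isIso_map_comp_cone (rd V.ι) biprod.inr biprod.fst ?_ _ c w hN ?_
    · refine isomorphic_distinguished _ (binaryBiproductTriangle_distinguished MV MU) _ ?_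
      exact Triangle.isoMk _ _ (Iso.refl _) (biprod.braiding MU MV) (Iso.refl _)
        (by show biprod.inr ≫ (biprod.braiding MU MV).hom = 𝟙 MV ≫ biprod.inl; apply biprod.hom_ext <;> simp)
        (by show biprod.fst ≫ 𝟙 MU = (biprod.braiding MU MV).hom ≫ biprod.snd; simp)
        (by exact zero_comp.trans comp_zero.symm)
    · rw [biprod.lift_fst]
      exact hr₁
  let eU : F ≅ (rd U.ι).obj N := asIso (aU.unit.app F) ≪≫ asIso ((rd U.ι).map (biprod.inl ≫ c))
  let eV : R ≅ (rd V.ι).obj N := asIso (aV.unit.app R) ≪≫ asIso ((rd V.ι).map (biprod.inr ≫ c))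
  refine ⟨N, g, eU, ⟨isPerfect_of_rd fun x => ?_, fun i x hx => ?_⟩, ?_⟩
  · exact (hUV x).elim (fun h => ⟨U, h, isPerfect_of_iso eU hF.1⟩) fun h => ⟨V, h, isPerfect_of_iso eV hR.1⟩
  · rcases hUV x with h | h
    · exact (hF.2.of_iso eU) i ((mem_support_rd U.ι N i ⟨x, h⟩).2 hx)
    · exact (hR.2.of_iso eV) i ((mem_support_rd V.ι N i ⟨x, h⟩).2 hx)
  · show (aU.unit.app F ≫ (rd U.ι).map (biprod.inl ≫ c)) ≫ (rd U.ι).map g = gF
    rw [Category.assoc, ← Functor.map_comp, Category.assoc, ← hg', biprod.inl_desc]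
    exact (aU.homEquiv_unit _ _ _).symm.trans ((aU.homEquiv F E).apply_symm_apply gF)

/-- Approximation passes from an open and an affine open covering the scheme. -/
theorem hasAppr_glue (U V : X.Opens) [CompactSpace X] [IsAffine (V : Scheme.{u})]
    (hUV : ∀ x : X, x ∈ U ∨ x ∈ V) {T : Set X} (hT : IsClosed T)
    (hTc : IsCompact (V.ι.base ⁻¹' Tᶜ)) (hU : IsCompact ((V.ι ⁻¹ᵁ U : (V : Scheme.{u}).Opens) : Set (V : Scheme.{u})))
    {rU rV : ℕ} (hapU : HasAppr (U.ι.base ⁻¹' T) rU) (hapV : HasAppr (V.ι.base ⁻¹' (T ∩ (U : Set X)ᶜ)) rV) :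
    HasAppr T (rU + rV) := by
  haveI := preservesFiniteLimits_extZero U
  haveI := preservesFiniteLimits_extZero V
  let U' := V.ι ⁻¹ᵁ U
  have hTV : IsClosed (V.ι.base ⁻¹' T) := hT.preimage V.ι.continuous
  have hgenV := hasGen (V.ι.base ⁻¹' T) hTV hTc
  have hgenZ := hasGen _ (hTV.inter U'.isOpen.isClosed_compl) (isCompact_compl_inter_compl hTc hU)
  intro m E hq hpc hs
  have claim : ∀ (k : ℕ) (E : DCoh.D X), DCoh.IsQCohD E → DCoh.IsPseudoCoherentD (m - (rU + rV : ℕ)) E →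
      SF T (m - (rU + rV : ℕ)) E → DerivedCategory.IsLE ((rd U.ι).obj E) (m - rV - 1 + k) →
      ∃ (P C : DCoh.D X) (α : P ⟶ E) (p : E ⟶ C) (w : C ⟶ P⟦(1 : ℤ)⟧),
        Triangle.mk α p w ∈ distTriang (DCoh.D X) ∧ PK T P ∧
          DerivedCategory.IsLE ((rd U.ι).obj C) (m - rV - 1) := by
    intro k
    induction k with
    | zero =>
      intro E _ _ _ hle
      obtain ⟨P, α, p, w, hP, hPK⟩ := id_triangle (E := E) (T := T)
      exact ⟨P, E, α, p, w, hP, hPK, by simpa using hle⟩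
    | succ k ih =>
      intro E hq hpc hs hle
      let b : ℤ := m - rV + k
      haveI hEb : DerivedCategory.IsLE ((rd U.ι).obj E) b := by
        have e : m - (rV : ℤ) - 1 + (↑(k + 1) : ℤ) = b := by push_cast; omega
        rw [← e]; exact hle
      obtain ⟨P, D, α, q, v, hP, hPK, hD⟩ := hapU b _ (QCohD.isQCohD_rd _ hq)
        (isPseudoCoherentD_mono (isPseudoCoherentD_rd U.ι hpc) (by push_cast; omega))
        ((hs.rd' U.ι).mono subset_rfl (by push_cast; omega))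
      have hαb : Approx b α := (approx_iff hP b).2 hD
      haveI : DerivedCategory.IsLE P b := by
        rw [DerivedCategory.isLE_iff]
        intro i hi
        haveI := hαb.1 i hi
        exact (DerivedCategory.isZero_of_isLE ((rd U.ι).obj E) b i hi).of_iso
          (asIso ((DerivedCategory.homologyFunctor _ i).map α))
      let F := P ⊞ P⟦(1 : ℤ)⟧
      haveI : DerivedCategory.IsLE (P⟦(1 : ℤ)⟧) b :=
        haveI : DerivedCategory.IsLE (P⟦(1 : ℤ)⟧) (b - 1) :=
          DerivedCategory.TStructure.t.isLE_shift P b 1 (b - 1)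
        DerivedCategory.TStructure.t.isLE_of_le _ (b - 1) b (by omega)
      haveI hPP : DerivedCategory.IsLE F b :=
        DerivedCategory.TStructure.t.isLE₂ _ (binaryBiproductTriangle_distinguished P (P⟦(1 : ℤ)⟧)) b ‹_› ‹_›
      let gF : F ⟶ (rd U.ι).obj E := biprod.fst ≫ α
      obtain ⟨e₁⟩ := nonempty_map_biprod_shift (CxOX.extZeroD U.ι) P
      obtain ⟨e₂⟩ := nonempty_map_biprod_shift (rd V.ι) ((CxOX.extZeroD U.ι).obj P)
      obtain ⟨e₃⟩ := nonempty_map_biprod_shift (rd U'.ι) ((rd V.ι).obj ((CxOX.extZeroD U.ι).obj P))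
      let P' := (rd U'.ι).obj ((rd V.ι).obj ((CxOX.extZeroD U.ι).obj P))
      let θ : (rd U'.ι).obj ((rd V.ι).obj ((CxOX.extZeroD U.ι).obj F)) ≅ P' ⊞ P'⟦(1 : ℤ)⟧ :=
        (rd U'.ι).mapIso ((rd V.ι).mapIso e₁ ≪≫ e₂) ≪≫ e₃
      let MU := (CxOX.extZeroD U.ι).obj P
      have hMP : DCoh.IsPerfect ((rd U.ι).obj MU) := by
        haveI := isIso_extZeroRdAdj_unit U
        exact isPerfect_of_iso (asIso ((extZeroRdAdj U).unit.app P)) hPK.1
      have hP' : PK (U'.ι.base ⁻¹' (V.ι.base ⁻¹' T)) P' := by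
        refine ⟨?_, suppIn_rd U' (suppIn_rd V fun i x hx => ?_)⟩
        · rw [isPerfect_iff]
          intro z
          obtain ⟨W, hW, hWP⟩ := (isPerfect_iff _).1 hMP ⟨(U'.ι ≫ V.ι).base z, z.2⟩
          have hWP' := hWP.of_rd.opensRange
          obtain ⟨k, _, hk⟩ := exists_preimage_lift (U'.ι ≫ V.ι) (W.ι ≫ U.ι).opensRange
          refine ⟨(U'.ι ≫ V.ι) ⁻¹ᵁ (W.ι ≫ U.ι).opensRange, ⟨⟨⟨_, z.2⟩, hW⟩, rfl⟩, ?_⟩
          exact HasPerfModel.to_rd (HasPerfModel.to_rd
            (hWP'.pull k ((((U'.ι ≫ V.ι) ⁻¹ᵁ (W.ι ≫ U.ι).opensRange).ι ≫ U'.ι) ≫ V.ι)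
              (hk.trans (Category.assoc _ _ _).symm)))
        · obtain ⟨y, hy, rfl⟩ := MVPush.support_hd_extZeroD U P i hx
          exact hPK.2 i hy
      obtain ⟨R₀, hR₀, ⟨φ⟩⟩ := exists_extend U' hU hTV hTc hgenV hgenZ hP'.1 hP'.2
      let φ' := φ ≪≫ θ.symm
      obtain ⟨R, s, g', hR, hsiso, hg'⟩ := exists_lift U' hU hTV hTc hgenZ hR₀ (QCohD.isQCohD_rd V.ι hq)
        (φ'.hom ≫ (rd U'.ι).map ((rd V.ι).map (((extZeroRdAdj U).homEquiv F E).symm gF)))
      haveI := hsiso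
      obtain ⟨N, g, e, hN, heg⟩ := exists_glue_hom (T := T) U V hUV E F
        ⟨isPerfect_biprod hPK.1 (hPK.shift (hT.preimage U.ι.continuous) 1).1,
          suppIn_obj₂ (hT.preimage U.ι.continuous) (binaryBiproductTriangle_distinguished P (P⟦(1 : ℤ)⟧))
            hPK.2 (hPK.shift (hT.preimage U.ι.continuous) 1).2⟩
        gF R hR g' (asIso ((rd U'.ι).map s) ≪≫ φ') (hg'.trans (Category.assoc _ _ _).symm)
      obtain ⟨C, p, w, hC⟩ := distinguished_cocone_triangle g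
      have happ : Approx b ((rd U.ι).map g) := by
        have hge : (rd U.ι).map g = e.inv ≫ gF := by rw [← heg, Iso.inv_hom_id_assoc]
        constructor
        · intro i hi
          have h1 : IsZero ((DerivedCategory.homologyFunctor _ i).obj ((rd U.ι).obj N)) :=
            (DerivedCategory.isZero_of_isLE F b i hi).of_iso ((DerivedCategory.homologyFunctor _ i).mapIso e.symm)
          exact isIso_of_source_target_iso_zero _ h1.isoZero
            (DerivedCategory.isZero_of_isLE ((rd U.ι).obj E) b i hi).isoZero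
        · rw [hge]
          haveI := hαb.2
          haveI : Epi ((DerivedCategory.homologyFunctor (U : Scheme.{u}).Modules b).map
              (biprod.fst : P ⊞ P⟦(1 : ℤ)⟧ ⟶ P)) := inferInstance
          simp only [gF, Functor.map_comp]
          infer_instance
      have hCU : DerivedCategory.IsLE ((rd U.ι).obj C) (m - rV - 1 + k) := by
        have e : b - 1 = m - rV - 1 + k := by omega
        rw [← e]
        exact (approx_iff ((rd U.ι).map_distinguished _ hC) b).1 happ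
      have hpcC := pc_obj₃ hC hN hpc
      have hsC := sf_obj₃ (n := m - ((rU + rV : ℕ) : ℤ)) (Tr := Triangle.mk g p w) hT hC hN.2 hs
      obtain ⟨P₂, C₂, f₂, p₂, w₂, hT₂, hP₂, hC₂⟩ := ih C (QCohD.AffineUnit.isQCohD_obj₃ hC (PK.pq hN).1 hq)
        hpcC hsC hCU
      obtain ⟨P₃, α₃, q₃, v₃, hP₃, hP₃K⟩ := exists_comp_triangle (stages_pk hT)
        (fun M n h => h.shift hT n) hC hT₂ hN hP₂
      exact ⟨P₃, C₂, α₃, q₃, v₃, hP₃, hP₃K, hC₂⟩
  obtain ⟨b, hb⟩ := exists_isLE_of_pc hpc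
  obtain ⟨R, C, f, p, w, hC, hR, hCU⟩ := claim (b - (m - rV - 1)).toNat E hq hpc hs (by
    haveI := hb
    haveI := isLE_rd U.ι E b
    exact DerivedCategory.TStructure.t.isLE_of_le _ b _ (by omega))
  have hCq : DCoh.IsQCohD C := QCohD.AffineUnit.isQCohD_obj₃ hC hR.pq.1 hq
  have hCs := sf_obj₃ hT hC hR.2 hs
  have hCsV : SF (T ∩ (U : Set X)ᶜ) (m - rV) C := fun i hi x hx => ⟨hCs i (by push_cast; omega) hx,
    fun hxU => Set.eq_empty_iff_forall_notMem.1 ((isLE_iff_support _ _).1 hCU i (by omega)) ⟨x, hxU⟩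
      ((mem_support_rd U.ι C i ⟨x, hxU⟩).2 hx)⟩
  obtain ⟨Q, D, α, q, v, hD, hQ, hDle⟩ := hapV m _ (QCohD.isQCohD_rd _ hCq)
    (isPseudoCoherentD_mono (isPseudoCoherentD_rd V.ι (pc_obj₃ hC hR hpc)) (by push_cast; omega))
    (hCsV.rd' V.ι)
  let a := extZeroRdAdj V
  haveI := isIso_extZeroRdAdj_unit V
  let Q' := (CxOX.extZeroD V.ι).obj Q
  let α' : Q' ⟶ C := (a.homEquiv Q C).symm α
  have hQ'Z : SuppIn (T ∩ (U : Set X)ᶜ) Q' := fun i x hx => by
    obtain ⟨y, hy, rfl⟩ := MVPush.support_hd_extZeroD V Q i hx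
    exact hQ.2 i hy
  have hQ'U : IsZero ((rd U.ι).obj Q') := (suppIn_compl_iff U Q').1 (hQ'Z.mono Set.inter_subset_right)
  have hQ' : PK T Q' := by
    refine ⟨isPerfect_of_rd fun x => ?_, hQ'Z.mono Set.inter_subset_left⟩
    rcases hUV x with h | h
    · exact ⟨U, h, isPerfect_zero hQ'U⟩
    · exact ⟨V, h, isPerfect_of_iso (asIso (a.unit.app Q)) hQ.1⟩
  obtain ⟨D', q', v', hD'⟩ := distinguished_cocone_triangle α'
  have hle : D'.IsLE (m - 1) := by
    refine isLE_of_cover (fun b : Bool => if b then U else V) (fun x => ?_) fun b => ?_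
    · exact (hUV x).elim (fun h => ⟨true, h⟩) fun h => ⟨false, h⟩
    cases b
    · have hfac : a.unit.app Q ≫ (rd V.ι).map α' = α :=
        (a.homEquiv_unit _ _ _).symm.trans ((a.homEquiv Q C).apply_symm_apply α)
      have hA : Approx m ((rd V.ι).map α') := by
        have h2 : (rd V.ι).map α' = inv (a.unit.app Q) ≫ α := by rw [← hfac, IsIso.inv_hom_id_assoc]
        rw [h2]
        exact (Approx.of_isIso m _).comp ((approx_iff hD m).2 hDle)
      exact (approx_iff ((rd V.ι).map_distinguished _ hD') m).1 hA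
    · haveI : IsIso ((rd U.ι).map q') :=
        (Triangle.isZero₁_iff_isIso₂ _ ((rd U.ι).map_distinguished _ hD')).1 hQ'U
      haveI := hCU
      have h3 : DerivedCategory.IsLE ((rd U.ι).obj C) (m - 1) :=
        DerivedCategory.TStructure.t.isLE_of_le _ (m - rV - 1) _ (by omega)
      exact ⟨(DerivedCategory.TStructure.t.le (m - 1)).prop_of_iso (asIso ((rd U.ι).map q')) h3.le⟩
  obtain ⟨P, αP, pP, wP, hP, hPK⟩ := exists_comp_triangle (stages_pk hT) (fun M n h => h.shift hT n)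
    hC hD' hR hQ'
  exact ⟨P, D', αP, pP, wP, hP, hPK, hle⟩

end Groth.Agent.H16Derived.Thomason
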