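import Groth.Agent.H16Derived.Thomason.Approx

/-!
# Approximation on affine schemes with the sharp margin
-/

set_option autoImplicit false
set_option linter.style.haveILetI false

universe u

open CategoryTheory CategoryTheory.Limits CategoryTheory.Pretriangulated AlgebraicGeometry
open Groth.Agent.H4DR.PCoh (hm δl)

attribute [local instance] HasDerivedCategory.standard

namespace Groth.Agent.H16Derived.Thomason




open Groth.Agent.H16Derived.KFlat Groth.Agent.H16Derived.KFlat.Stalk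

section

variable {A : Type u} [CommRing A]

/-- Finitely many classes in degree zero. -/
theorem exists_cover' (s : List A) (M : Dual.D A) (hM : ∀ g ∈ s, WTors g (s.length - 1) M)
    (S : Finset (Dual.HD A M 0)) :
    ∃ (R : Dual.D A) (f : R ⟶ M), DRing.IsPerfect A R ∧ (∀ i, 0 < i → Subsingleton (Dual.HD A R i)) ∧
      (∀ g ∈ s, GTors g R) ∧ ∀ x ∈ S, x ∈ LinearMap.range (hm 0 f) := by
  classical
  induction S using Finset.induction_on with
  | empty =>
    open ZeroObject in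
    have hz : ∀ i, Subsingleton (Dual.HD A (0 : Dual.D A) i) := fun i =>
      ModuleCat.subsingleton_of_isZero ((DerivedCategory.homologyFunctor _ i).map_isZero (isZero_zero _))
    open ZeroObject in
    refine ⟨0, 0, ?_, fun i _ => hz i, fun g _ i x => ⟨0, @Subsingleton.elim _ (hz i) _ _⟩, by simp⟩
    refine ⟨0, 0, 0, fun i _ => Functor.map_isZero (HomologicalComplex.eval _ _ i) (isZero_zero _),
      fun i => H4DR.TorAmp.finiteProjective_of_isZero
        (Functor.map_isZero (HomologicalComplex.eval _ _ i) (isZero_zero _)),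
      ⟨(DerivedCategory.Q.map_isZero (isZero_zero _)).iso (isZero_zero _)⟩⟩
  | @insert x S hx ih =>
    obtain ⟨R, f, hR, hle, htors, hrange⟩ := ih
    obtain ⟨y, hy⟩ := (H4DR.Ext.bijective_evalOne M).2 x
    obtain ⟨K, e, φ, hK, -, hle', htors', he⟩ := exists_factor s M
      hM y
    refine ⟨R ⊞ K, biprod.desc f φ,
      H4DR.TorAmp.isPerfect_obj₂ _ (binaryBiproductTriangle_distinguished R K) hR hK,
      fun i hi => H4DR.PCoh.subsingleton₂ _ (binaryBiproductTriangle_distinguished R K) i (hle i hi) (hle' i hi),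
      fun g hg i z => ?_, fun z hz => ?_⟩
    · let T := binaryBiproductTriangle R K
      obtain ⟨n, hn⟩ := htors' g hg i (hm i T.mor₂ z)
      obtain ⟨w, hw⟩ := (H4DR.PCoh.ex₂ T (binaryBiproductTriangle_distinguished R K) i (g ^ n • z)).1
        ((map_smul _ _ _).trans hn)
      obtain ⟨k, hk⟩ := htors g hg i w
      refine ⟨k + n, ?_⟩
      rw [pow_add, mul_smul]
      exact ((congrArg (g ^ k • ·) hw).symm.trans
        ((map_smul (hm i T.mor₁) (g ^ k) w).symm.trans ((congrArg (hm i T.mor₁) hk).trans (map_zero _))))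
    · rcases Finset.mem_insert.1 hz with rfl | hz
      · refine ⟨hm 0 (e ≫ biprod.inr) (H4DR.Ext.evalOne (Dual.inD A A) (𝟙 _)), ?_⟩
        rw [← hy, ← he]
        show hm 0 _ (hm 0 _ (hm 0 _ _)) = hm 0 _ _
        rw [H4DR.PCoh.hm_id, ← H4DR.PCoh.hm_comp_apply, Category.assoc, biprod.inr_desc]
        rfl
      · obtain ⟨w, hw⟩ := hrange z hz
        exact ⟨hm 0 biprod.inl w, by rw [← H4DR.PCoh.hm_comp_apply, biprod.inl_desc, hw]⟩

/-- One approximation step in `D(A)`. -/
theorem exists_step_ring' (s : List A) (E : Dual.D A) (b : ℤ) (hb : ∀ i, b < i → Subsingleton (Dual.HD A E i))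
    [Module.Finite A (Dual.HD A E b)]
    (hE : ∀ g ∈ s, ∀ i, b - s.length + 1 ≤ i → i ≤ b → ∀ x : Dual.HD A E i, ∃ n : ℕ, g ^ n • x = 0) :
    ∃ (R C : Dual.D A) (f : R ⟶ E) (p : E ⟶ C) (w : C ⟶ R⟦(1 : ℤ)⟧),
      Triangle.mk f p w ∈ distTriang (Dual.D A) ∧ DRing.IsPerfect A R ∧ (∀ g ∈ s, GTors g R) ∧
        ∀ i, b ≤ i → Subsingleton (Dual.HD A C i) := by
  classical
  let M := E⟦b⟧
  let σ := H4DR.PCoh.hShift E b 0 b (add_zero b)
  haveI : Module.Finite A (Dual.HD A M 0) := Module.Finite.equiv σ.symm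
  obtain ⟨S, hS⟩ : (⊤ : Submodule A (Dual.HD A M 0)).FG := Module.Finite.fg_top
  have hM : ∀ g ∈ s, WTors g (s.length - 1) M := fun g hg i hi hi' x => by
    have hpos : 0 < s.length := List.length_pos_of_mem hg
    obtain ⟨n, hn⟩ := hE g hg (b + i) (by omega) (by omega) (H4DR.PCoh.hShift E b i (b + i) rfl x)
    exact ⟨n, (H4DR.PCoh.hShift E b i (b + i) rfl).injective (by rw [map_smul, hn, map_zero])⟩
  obtain ⟨R, f, hR, hle, htors, hrange⟩ := exists_cover' s M hM S
  obtain ⟨C, p, w, hT⟩ := distinguished_cocone_triangle f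
  have hsurj : Function.Surjective (hm 0 f) := LinearMap.range_eq_top.1 (top_le_iff.1 (hS ▸ Submodule.span_le.2 hrange))
  have hleM : ∀ i, 0 < i → Subsingleton (Dual.HD A M i) := fun i hi =>
    @Equiv.subsingleton _ _ (H4DR.PCoh.hShift E b i (b + i) rfl).toEquiv (hb (b + i) (by omega))
  have hC : ∀ i, 0 ≤ i → Subsingleton (Dual.HD A C i) := fun i hi => by
    refine (H4DR.PCoh.subsingleton₃_iff _ hT i (i + 1) rfl).2 ⟨fun z => ?_, fun a a' _ => ?_⟩
    · rcases eq_or_lt_of_le hi with rfl | hlt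
      · exact hsurj z
      · exact ⟨0, @Subsingleton.elim _ (hleM i hlt) _ _⟩
    · exact @Subsingleton.elim _ (hle (i + 1) (by omega)) _ _
  let sh : Triangle (Dual.D A) := (Triangle.shiftFunctor (Dual.D A) (-b)).obj (Triangle.mk f p w)
  have hsh : sh ∈ distTriang _ := Triangle.shift_distinguished _ hT (-b)
  let c : (E⟦b⟧)⟦-b⟧ ≅ E := (shiftFunctorCompIsoId (Dual.D A) b (-b) (add_neg_cancel b)).app E
  refine ⟨R⟦-b⟧, C⟦-b⟧, sh.mor₁ ≫ c.hom, c.inv ≫ sh.mor₂, sh.mor₃,
    isomorphic_distinguished _ hsh _ (Triangle.isoMk _ _ (Iso.refl _) c.symm (Iso.refl _) ?_ ?_ ?_),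
    H4DR.TorAmp.isPerfect_shift _ hR, fun g hg => (htors g hg).shift _, fun i hi => ?_⟩
  · show (sh.mor₁ ≫ c.hom) ≫ c.inv = 𝟙 _ ≫ sh.mor₁
    erw [Category.assoc, c.hom_inv_id, Category.comp_id, Category.id_comp]
  · show (c.inv ≫ sh.mor₂) ≫ 𝟙 _ = c.inv ≫ sh.mor₂
    exact Category.comp_id _
  · show sh.mor₃ ≫ (𝟙 _)⟦(1 : ℤ)⟧' = 𝟙 _ ≫ sh.mor₃
    rw [CategoryTheory.Functor.map_id]
    exact (Category.comp_id _).trans (Category.id_comp _).symm
  · exact @Equiv.subsingleton _ _ (H4DR.PCoh.hShift C (-b) i (-b + i) rfl).toEquiv (hC _ (by omega))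

end

/-- Sharp approximation for `(X, T)` with `r` equations. -/
def HasApprS {X : Scheme.{u}} (T : Set X) (r : ℕ) : Prop :=
  ∀ (m : ℤ) (E : DCoh.D X), DCoh.IsQCohD E → DCoh.IsPseudoCoherentD m E → SF T (m - r + 1) E →
    ∃ (P C : DCoh.D X) (α : P ⟶ E) (p : E ⟶ C) (w : C ⟶ P⟦(1 : ℤ)⟧),
      Triangle.mk α p w ∈ distTriang (DCoh.D X) ∧ PK T P ∧ C.IsLE (m - 1)

theorem hasApprS_spec (A : Type u) [CommRing A] (s : Finset A) :
    HasApprS (X := Spec (CommRingCat.of A)) (PrimeSpectrum.zeroLocus (s : Set A)) s.card := by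
  classical
  haveI : PreservesFiniteColimits (tilde.functor (CommRingCat.of A)) :=
    @PreservesColimitsOfSize.preservesFiniteColimits.{0, 0} _ _ _ _ _
      ((tilde.adjunction (R := CommRingCat.of A)).leftAdjoint_preservesColimits)
  let T : Set (Spec (CommRingCat.of A)) := PrimeSpectrum.zeroLocus (s : Set A)
  have hT : IsClosed T := PrimeSpectrum.isClosed_zeroLocus _
  intro m E hq hpc hs
  suffices H : ∀ (k : ℕ) (E : DCoh.D (Spec (CommRingCat.of A))), DCoh.IsQCohD E →
      DCoh.IsPseudoCoherentD m E → SF T (m - s.card + 1) E → E.IsLE (m - 1 + k) →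
      ∃ (P C : DCoh.D (Spec (CommRingCat.of A))) (α : P ⟶ E) (p : E ⟶ C) (w : C ⟶ P⟦(1 : ℤ)⟧),
        Triangle.mk α p w ∈ distTriang _ ∧ PK T P ∧ C.IsLE (m - 1) by
    obtain ⟨b, hb⟩ := exists_isLE_of_pc hpc
    exact H (b - m + 1).toNat E hq hpc hs (DerivedCategory.TStructure.t.isLE_of_le E b _ (by omega))
  intro k
  induction k with
  | zero =>
    intro E _ _ _ hle
    obtain ⟨P, α, p, w, hP, hPK⟩ := id_triangle (E := E) (T := T)
    exact ⟨P, E, α, p, w, hP, hPK, by simpa using hle⟩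
  | succ k ih =>
    intro E hq hpc hs hle
    let b : ℤ := m + k
    haveI hle' : E.IsLE b := by
      have e : m - 1 + (↑(k + 1) : ℤ) = b := by push_cast; omega
      rw [← e]; exact hle
    obtain ⟨M, ⟨e⟩⟩ := QCohD.exists_tildeD_iso (R := CommRingCat.of A) hq
    change Dual.D A at M
    let F := DCoh.tildeD (CommRingCat.of A)
    haveI : (F.obj M).IsLE b := (DerivedCategory.TStructure.t.le b).prop_of_iso e.symm hle'.le |> fun h => ⟨h⟩
    haveI := (isLE_tilde_iff M b).1 ‹_›
    have hb : ∀ i, b < i → Subsingleton (Dual.HD A M i) := fun i hi =>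
      ModuleCat.subsingleton_of_isZero (DerivedCategory.isZero_of_isLE M b i hi)
    have hpc' : DRing.IsPseudoCoherent A m M :=
      (pc_tilde_iff M _).1 (isPseudoCoherentD_of_iso e.symm hpc)
    haveI : Module.Finite A (Dual.HD A M b) := H4DR.PCoh.finite_top hpc' (by omega) hb
    obtain ⟨R, C, f, p, w, hT', hR, htors, hC⟩ := exists_step_ring' s.toList M b hb fun g hg i hi _ x => by
      have hi' : m - (s.card : ℤ) + 1 ≤ i := by rw [Finset.length_toList] at hi; omega
      have hsupp : CohB1.support (DCoh.HD (F.obj M) i) ⊆ PrimeSpectrum.zeroLocus (s : Set A) :=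
        (MVPush.support_iso ((DerivedCategory.homologyFunctor _ i).mapIso e)).trans_subset (hs i hi')
      exact exists_pow_smul_eq_zero_of_support (s : Set A) M i hsupp g (Finset.mem_toList.1 hg) x
    have hd := F.map_distinguished _ hT'
    have hT'' : Triangle.mk (F.map f ≫ e.hom) (e.inv ≫ F.map p)
        (F.map w ≫ (F.commShiftIso (1 : ℤ)).hom.app R) ∈ distTriang (DCoh.D (Spec (CommRingCat.of A))) :=
      isomorphic_distinguished _ hd _
        (Triangle.isoMk _ _ (Iso.refl _) e.symm (Iso.refl _)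
          (by exact ((Category.assoc _ _ _).trans ((congrArg (F.map f ≫ ·) e.hom_inv_id).trans (Category.comp_id _))).trans (Category.id_comp _).symm)
          (by exact Category.comp_id _)
          (by exact ((congrArg (_ ≫ ·) ((shiftFunctor _ (1 : ℤ)).map_id _)).trans (Category.comp_id _)).trans (Category.id_comp _).symm))
    have hR' : PK T (F.obj R) :=
      ⟨(S1105.result A R).2 hR, (suppIn_tildeD_iff _ R).2 fun g hg => htors g (Finset.mem_toList.2 hg)⟩
    have hC' : (F.obj C).IsLE (m - 1 + k) :=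
      (isLE_tilde_iff C _).2 ((DerivedCategory.isLE_iff _ _).2 fun i hi =>
        @ModuleCat.isZero_of_subsingleton _ _ (hA C i) (hC i (by omega)))
    have hpcC := pc_obj₃ hT'' hR' hpc
    have hsC := sf_obj₃ (n := m - (s.card : ℤ) + 1) (Tr := Triangle.mk (F.map f ≫ e.hom) (e.inv ≫ F.map p)
      (F.map w ≫ (F.commShiftIso (1 : ℤ)).hom.app R)) hT hT'' hR'.2 hs
    obtain ⟨P₂, C₂, f₂, p₂, w₂, hT₂, hP₂, hC₂⟩ := ih (F.obj C)
      (QCohD.AffineUnit.isQCohD_obj₃ hT'' (PK.pq hR').1 hq) hpcC hsC hC'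
    obtain ⟨P, α, q, v, hP, hPK⟩ := exists_comp_triangle (stages_pk hT)
      (fun M n h => h.shift hT n) hT'' hT₂ hR' hP₂
    exact ⟨P, C₂, α, q, v, hP, hPK, hC₂⟩

/-- Transport along surjective open immersions. -/
theorem hasApprS_of_surjective {U X : Scheme.{u}} (j : U ⟶ X) [IsOpenImmersion j]
    (hj : Function.Surjective j.base) {T : Set X} {r : ℕ} (h : HasApprS (j.base ⁻¹' T) r) : HasApprS T r := by
  intro m E hq hpc hs
  haveI := QCohD.hasRpush j
  haveI := isIso_restrictRpushAdj_counit j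
  let adj := restrictRpushAdj j
  letI := rpushCommShift j
  haveI := rpush_isTriangulated j
  obtain ⟨P', C', α', p', w', hT', hP', hC'⟩ := h m _ (QCohD.isQCohD_rd j hq) (isPseudoCoherentD_rd j hpc)
    (hs.rd' j)
  haveI : IsIso (adj.unit.app E) := by
    obtain ⟨Z, g, w, hZ⟩ := distinguished_cocone_triangle (adj.unit.app E)
    refine (Triangle.isZero₃_iff_isIso₁ _ hZ).1 (isZero_of_rd_surjective j hj ?_)
    exact (Triangle.isZero₃_iff_isIso₁ _ ((rd j).map_distinguished _ hZ)).2 (isIso_rd_map_unit j E)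
  let G := DCoh.Rpush j
  let η : E ≅ G.obj ((rd j).obj E) := asIso (adj.unit.app E)
  have hd := G.map_distinguished _ hT'
  let eP : (rd j).obj (G.obj P') ≅ P' := asIso (adj.counit.app P')
  let eC : (rd j).obj (G.obj C') ≅ C' := asIso (adj.counit.app C')
  refine ⟨G.obj P', G.obj C', G.map α' ≫ η.inv, η.hom ≫ G.map p',
    G.map w' ≫ (G.commShiftIso (1 : ℤ)).hom.app P', isomorphic_distinguished _ hd _
      (Triangle.isoMk _ _ (Iso.refl _) η (Iso.refl _)
        (by exact ((Category.assoc _ _ _).trans ((congrArg (G.map α' ≫ ·) η.inv_hom_id).trans (Category.comp_id _))).trans (Category.id_comp _).symm)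
        (by exact Category.comp_id _)
        (by exact ((congrArg (_ ≫ ·) ((shiftFunctor _ (1 : ℤ)).map_id _)).trans (Category.comp_id _)).trans (Category.id_comp _).symm)),
    ⟨isPerfect_of_rd_surjective j hj (isPerfect_of_iso eP.symm hP'.1),
      suppIn_of_rd j hj (hP'.2.of_iso eP.symm)⟩, ?_⟩
  rw [isLE_iff_support] at hC' ⊢
  intro i hi
  refine Set.eq_empty_iff_forall_notMem.2 fun y hy => ?_
  obtain ⟨x, rfl⟩ := hj y
  exact Set.eq_empty_iff_forall_notMem.1 (hC' i hi) x
    ((MVPush.support_iso ((DerivedCategory.homologyFunctor _ i).mapIso eC)).subset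
      ((mem_support_rd j (G.obj C') i x).2 hy))

theorem hasApprS_affine (X : Scheme.{u}) [IsAffine X] (fs : Finset Γ(X, ⊤)) :
    HasApprS (X.zeroLocus (U := ⊤) (↑fs : Set Γ(X, ⊤))) fs.card := by
  refine hasApprS_of_surjective X.isoSpec.inv X.isoSpec.inv.homeomorph.surjective ?_
  have h : X.isoSpec.inv.base ⁻¹' (X.zeroLocus (U := ⊤) (↑fs : Set Γ(X, ⊤))) =
      PrimeSpectrum.zeroLocus (↑fs : Set Γ(X, ⊤)) := by
    rw [← X.toSpecΓ_preimage_zeroLocus, ← X.isoSpec_hom, ← Set.preimage_comp]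
    have : ⇑X.isoSpec.hom.base ∘ ⇑X.isoSpec.inv.base = id := by
      rw [← TopCat.coe_comp, ← Scheme.Hom.comp_base, X.isoSpec.inv_hom_id]; rfl
    exact this ▸ rfl
  rw [h]
  exact hasApprS_spec Γ(X, ⊤) fs

end Groth.Agent.H16Derived.Thomason
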