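import Groth.Agent.H16Derived.Thomason.Lift

/-!
# `P ⊕ P[1]` extends
-/

set_option autoImplicit false
set_option linter.style.haveILetI false

universe v u

open CategoryTheory CategoryTheory.Limits CategoryTheory.Pretriangulated AlgebraicGeometry

attribute [local instance] HasDerivedCategory.standard

namespace Groth.Agent.H16Derived.Thomason

/-- The cone of a projector. -/
theorem nonempty_cone_projector {C : Type*} [Category C] [Preadditive C] [HasZeroObject C] [HasShift C ℤ]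
    [∀ n : ℤ, (shiftFunctor C n).Additive] [Pretriangulated C] [IsTriangulated C]
    (P Q : C) [HasBinaryBiproducts C] {G : C} {v : (P ⊞ Q) ⟶ G} {w : G ⟶ (P ⊞ Q)⟦(1 : ℤ)⟧}
    (h : Triangle.mk ((biprod.snd : P ⊞ Q ⟶ Q) ≫ biprod.inr) v w ∈ distTriang C) :
    Nonempty (G ≅ P ⊞ P⟦(1 : ℤ)⟧) := by
  have h₁₂ : Triangle.mk (biprod.snd : P ⊞ Q ⟶ Q) (0 : Q ⟶ P⟦(1 : ℤ)⟧)
      (-(biprod.inl : P ⟶ P ⊞ Q)⟦(1 : ℤ)⟧') ∈ distTriang C :=
    rot_of_distTriang _ (binaryBiproductTriangle_distinguished P Q)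
  have h₂₃ : Triangle.mk (biprod.inr : Q ⟶ P ⊞ Q) (biprod.fst : P ⊞ Q ⟶ P) (0 : P ⟶ Q⟦(1 : ℤ)⟧) ∈
      distTriang C := by
    refine isomorphic_distinguished _ (binaryBiproductTriangle_distinguished Q P) _ ?_
    exact Triangle.isoMk _ _ (Iso.refl _) (biprod.braiding P Q) (Iso.refl _)
      (by show biprod.inr ≫ (biprod.braiding P Q).hom = 𝟙 Q ≫ biprod.inl; apply biprod.hom_ext <;> simp)
      (by show biprod.fst ≫ 𝟙 P = (biprod.braiding P Q).hom ≫ biprod.snd; simp)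
      (by exact zero_comp.trans comp_zero.symm)
  let o := Triangulated.someOctahedron rfl h₁₂ h₂₃ h
  have hz : o.triangle.mor₃ = 0 := by
    show (0 : P ⟶ Q⟦(1 : ℤ)⟧) ≫ _ = 0
    exact zero_comp
  obtain ⟨e, -, -⟩ := exists_iso_binaryBiproduct_of_distTriang o.triangle o.mem hz
  exact ⟨e ≪≫ biprod.braiding _ _⟩

open Groth.Agent.H16Derived.KFlat Groth.Agent.H16Derived.KFlat.Stalk

attribute [local instance] hasCoproducts_D small_hom

variable {X : Scheme.{u}} [CompactSpace X] [QuasiSeparatedSpace X] (U : X.Opens)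
  (hU : IsCompact (U : Set X))
include hU

/-- `P ⊕ P[1]` is a restriction of a perfect object. -/
theorem exists_extend {T : Set X} (hT : IsClosed T) (hTc : IsCompact Tᶜ) (hgen : HasGen T)
    (hgen' : HasGen (T ∩ (U : Set X)ᶜ)) {P : DCoh.D (U : Scheme.{u})} (hP : DCoh.IsPerfect P)
    (hPT : SuppIn (U.ι.base ⁻¹' T) P) :
    ∃ R : DCoh.D X, PK T R ∧ Nonempty ((rd U.ι).obj R ≅ P ⊞ P⟦(1 : ℤ)⟧) := by
  obtain ⟨R, i, p, hR, hip⟩ := exists_summand U hU hT hgen hP hPT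
  obtain ⟨Q, q, δ, hQ⟩ := distinguished_cocone_triangle i
  have hδ : δ = 0 := by
    have h : δ ≫ i⟦(1 : ℤ)⟧' = 0 := comp_distTriang_mor_zero₃₁ _ hQ
    have h2 : (δ ≫ i⟦(1 : ℤ)⟧') ≫ p⟦(1 : ℤ)⟧' = δ := by
      rw [Category.assoc, ← Functor.map_comp, hip, CategoryTheory.Functor.map_id, Category.comp_id]
    rw [← h2, h, zero_comp]
  obtain ⟨φ, -, -⟩ := exists_iso_binaryBiproduct_of_distTriang _ hQ hδ
  change (rd U.ι).obj R ≅ P ⊞ Q at φ
  obtain ⟨R', s, g', hR', hs, hg'⟩ := exists_lift U hU hT hTc hgen' hR (PK.pq hR).1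
    (φ.hom ≫ (biprod.snd ≫ biprod.inr) ≫ φ.inv)
  obtain ⟨G, v, w, hG⟩ := distinguished_cocone_triangle g'
  obtain ⟨G', v', w', hG'⟩ := distinguished_cocone_triangle ((biprod.snd : P ⊞ Q ⟶ Q) ≫ biprod.inr)
  obtain ⟨e⟩ := nonempty_cone_projector P Q hG'
  haveI := hs
  let a : (rd U.ι).obj R' ≅ P ⊞ Q := asIso ((rd U.ι).map s) ≪≫ φ
  have hcomm : (rd U.ι).map g' ≫ φ.hom = a.hom ≫ biprod.snd ≫ biprod.inr := by
    rw [hg']
    simp [a]
  exact ⟨G, (stages_pk hT).cone _ hG hR' hR,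
    ⟨Triangle.π₃.mapIso (isoTriangleOfIso₁₂ _ _ ((rd U.ι).map_distinguished _ hG) hG' a φ hcomm) ≪≫ e⟩⟩

end Groth.Agent.H16Derived.Thomason
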