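import Groth.Agent.H16Derived.Thomason.Extend
import Groth.Agent.H16Derived.Thomason.IsoTransport

/-!
# Extension from opens of affine schemes
-/

set_option autoImplicit false
set_option linter.style.haveILetI false

universe u

open CategoryTheory CategoryTheory.Limits CategoryTheory.Pretriangulated AlgebraicGeometry

attribute [local instance] HasDerivedCategory.standard

namespace Groth.Agent.H16Derived.Thomason

theorem isCompact_compl_inter_compl {X : Type*} [TopologicalSpace X] {T U : Set X} (hT : IsCompact Tᶜ)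
    (hU : IsCompact U) : IsCompact (T ∩ Uᶜ)ᶜ := by
  rw [Set.compl_inter, compl_compl]
  exact hT.union hU

theorem exists_extend_affine {X : Scheme.{u}} [IsAffine X] (U : X.Opens) (hU : IsCompact (U : Set X))
    {T : Set X} (hT : IsClosed T) (hTc : IsCompact Tᶜ)
    {P : DCoh.D (U : Scheme.{u})} (hP : DCoh.IsPerfect P) (hPT : SuppIn (U.ι.base ⁻¹' T) P)
    [HasBinaryBiproduct P (P⟦(1 : ℤ)⟧)] :
    ∃ G : CochainComplex X.Modules ℤ, DCoh.IsPerfect (DCoh.toD X G) ∧ SuppIn T (DCoh.toD X G) ∧
      Nonempty (DerivedCategory.Q.obj ((DCoh.restrictCx U).obj G) ≅ P ⊞ P⟦(1 : ℤ)⟧) := by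
  obtain ⟨R, hR, ⟨e⟩⟩ := exists_extend U hU hT hTc (hasGen_affine X T hT hTc)
    (hasGen_affine X _ (hT.inter U.isOpen.isClosed_compl) (isCompact_compl_inter_compl hTc hU)) hP hPT
  let eR : DerivedCategory.Q.obj (DerivedCategory.Q.objPreimage R) ≅ R := DerivedCategory.Q.objObjPreimageIso R
  exact ⟨DerivedCategory.Q.objPreimage R, KFlat.Stalk.isPerfect_of_iso eR.symm hR.1, hR.2.of_iso eR.symm,
    ⟨((Scheme.Modules.restrictFunctor U.ι).mapDerivedCategoryFactors.app _).symm ≪≫
      (DCoh.restrictD U.ι).mapIso eR ≪≫ e⟩⟩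

end Groth.Agent.H16Derived.Thomason
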