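import Groth.Agent.H16Derived.Thomason.Glue
import Groth.Agent.H16Derived.QCohD.RpushUnb

/-!
# Approximations supported on a closed subset extend by zero
-/

set_option autoImplicit false
set_option linter.style.haveILetI false

universe u

open CategoryTheory CategoryTheory.Limits CategoryTheory.Pretriangulated AlgebraicGeometry

attribute [local instance] HasDerivedCategory.standard

namespace Groth.Agent.H16Derived.Thomason

open Groth.Agent.H16Derived.KFlat Groth.Agent.H16Derived.KFlat.Stalk

variable {X : Scheme.{u}}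

/-- An approximation on an open containing the support extends to the scheme. -/
theorem exists_approx_of_open (U : X.Opens) (T : Set X) (hT : IsClosed T) (hTU : T ⊆ (U : Set X))
    (E : DCoh.D X) (m : ℤ) (P : DCoh.D (U : Scheme.{u})) (α : P ⟶ (rd U.ι).obj E) (hP : DCoh.IsPerfect P)
    (hPT : ∀ i : ℤ, CohB1.support (DCoh.HD P i) ⊆ {v : ↥(U : Scheme.{u}) | U.ι.base v ∈ T})
    (hα : ∀ i : ℤ, m < i → IsIso ((DerivedCategory.homologyFunctor _ i).map α))
    (hαm : Epi ((DerivedCategory.homologyFunctor _ m).map α))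
    (hsupp : ∀ i : ℤ, m ≤ i → CohB1.support (DCoh.HD E i) ⊆ T) :
    ∃ (P' : DCoh.D X) (α' : P' ⟶ E), DCoh.IsPerfect P' ∧ (∀ i : ℤ, CohB1.support (DCoh.HD P' i) ⊆ T) ∧
      (∀ i : ℤ, m < i → IsIso ((DerivedCategory.homologyFunctor X.Modules i).map α')) ∧
      Epi ((DerivedCategory.homologyFunctor X.Modules m).map α') := by
  haveI := preservesFiniteLimits_extZero U
  haveI := QCohD.hasRpush U.ι
  let a := extZeroRdAdj U
  let P' := (CxOX.extZeroD U.ι).obj P
  let α' : P' ⟶ E := (CxOX.extZeroD U.ι).map α ≫ a.counit.app E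
  let T₀ : Set (U : Scheme.{u}) := {v | U.ι.base v ∈ T}
  have hT₀ : (fun x : (U : Scheme.{u}) => U.ι.base x) '' T₀ = T := by
    refine Set.Subset.antisymm (by rintro _ ⟨x, hx, rfl⟩; exact hx) fun x hx => ⟨⟨x, hTU hx⟩, hx, rfl⟩
  have hP' : SuppIn T P' := fun i =>
    (MVPush.support_hd_extZeroD U P i).trans ((Set.image_mono (hPT i)).trans hT₀.subset)
  have hperf : DCoh.IsPerfect P' := by
    obtain ⟨e⟩ := MVPush.nonempty_extZeroD_iso_rpush U T hT hTU P
      fun i => (Set.image_mono (hPT i)).trans hT₀.subset
    exact isPerfect_of_iso e.symm (MVPush.isPerfect_rpush_of_support U P hP T₀ (hT₀.symm ▸ hT) hPT)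
  obtain ⟨C, v, w, hC⟩ := distinguished_cocone_triangle α'
  haveI := isIso_extZeroRdAdj_unit U
  have hunit : a.unit.app P ≫ (rd U.ι).map α' = α := by
    have := a.unit.naturality α
    dsimp only [Functor.comp_map, Functor.id_map] at this
    rw [Functor.map_comp, ← Category.assoc, ← this, Category.assoc, a.right_triangle_components]
    exact Category.comp_id α
  have hU : ∀ i : ℤ, m ≤ i → IsZero (DCoh.HD ((rd U.ι).obj C) i) := fun i hi => by
    have hT' := (rd U.ι).map_distinguished _ hC
    let H := fun j : ℤ => DerivedCategory.homologyFunctor (U : Scheme.{u}).Modules j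
    have hmap : ∀ j : ℤ, (H j).map (a.unit.app P) ≫ (H j).map ((rd U.ι).map α') = (H j).map α := fun j => by
      rw [← Functor.map_comp, hunit]
    haveI he : Epi ((H i).map ((rd U.ι).map α')) := by
      haveI : Epi ((H i).map α) := by
        rcases eq_or_lt_of_le hi with rfl | h
        · exact hαm
        · haveI := hα i h; infer_instance
      exact epi_of_epi_fac (hmap i)
    haveI hm : Mono ((H (i + 1)).map ((rd U.ι).map α')) := by
      haveI := hα (i + 1) (by omega)
      haveI : IsIso ((H (i + 1)).map (a.unit.app P)) := inferInstance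
      haveI : IsIso ((H (i + 1)).map (a.unit.app P) ≫ (H (i + 1)).map ((rd U.ι).map α')) := by
        rw [hmap]; infer_instance
      haveI : IsIso ((H (i + 1)).map ((rd U.ι).map α')) :=
        IsIso.of_isIso_comp_left ((H (i + 1)).map (a.unit.app P)) _
      infer_instance
    refine (DerivedCategory.HomologySequence.exact₃ _ hT' i (i + 1) rfl).isZero_of_both_zeros ?_ ?_
    · exact (DerivedCategory.HomologySequence.exact₂ _ hT' i).epi_f_iff.1 he
    · exact (DerivedCategory.HomologySequence.exact₁ _ hT' i (i + 1) rfl).mono_g_iff.1 hm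
  have hz : ∀ i : ℤ, m ≤ i → IsZero (DCoh.HD C i) := fun i hi => by
    refine H17.FPExt.isZero_of_stalk _ fun x => ?_
    by_contra hx
    by_cases hxU : x ∈ U
    · obtain ⟨e⟩ := MVPush.nonempty_hd_restrict_iso U C i
      have h1 := (MVPush.mem_support_restrict U (DCoh.HD C i) ⟨x, hxU⟩).2 hx
      rw [← MVPush.support_iso e, support_eq_empty_of_isZero (hU i hi)] at h1
      exact h1
    · have hxT : x ∉ T := fun h => hxU (hTU h)
      have hsub : ∀ {M : X.Modules}, CohB1.support M ⊆ T → IsZero ((DerSch.stalkFunctor X x).obj M) := by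
        intro M hM
        haveI : Subsingleton ((DerSch.stalkFunctor X x).obj M) := not_not.1 fun hh => hxT (hM hh)
        exact ModuleCat.isZero_of_subsingleton _
      have hs : CohB1.support (DCoh.HD (P'⟦(1 : ℤ)⟧) i) ⊆ T :=
        (MVPush.support_iso (((DerivedCategory.homologyFunctor X.Modules 0).shiftIso (1 : ℤ) i (i + 1)
          (by omega)).app P')).trans_subset (hP' (i + 1))
      let F := DerivedCategory.homologyFunctor X.Modules i
      have hex := (exact_iff _).1 (F.map_distinguished_exact _ (rot_of_distTriang _ hC)) x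
      exact hx (ModuleCat.subsingleton_of_isZero
        (hex.isZero_of_both_zeros ((hsub (hsupp i hi)).eq_of_src _ _) ((hsub hs).eq_of_tgt _ _)))
  refine ⟨P', α', hperf, hP', fun i hi => ?_,
    (DerivedCategory.HomologySequence.exact₂ _ hC m).epi_f_iff.2 ((hz m le_rfl).eq_of_tgt _ _) ⟩
  haveI : Epi ((DerivedCategory.homologyFunctor X.Modules i).map α') :=
    (DerivedCategory.HomologySequence.exact₂ _ hC i).epi_f_iff.2 ((hz i hi.le).eq_of_tgt _ _)
  haveI : Mono ((DerivedCategory.homologyFunctor X.Modules i).map α') :=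
    (DerivedCategory.HomologySequence.exact₁ _ hC (i - 1) i (by omega)).mono_g_iff.2
      ((hz (i - 1) (by omega)).eq_of_src _ _)
  exact isIso_of_mono_of_epi _

end Groth.Agent.H16Derived.Thomason
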