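import Groth.Agent.H16Derived.Thomason.Cells
import Mathlib.CategoryTheory.Limits.Preserves.Shapes.Products
import Mathlib.CategoryTheory.Triangulated.Functor

/-!
# Factorisation of maps through compact stages

For an exact sum-preserving `L : D ⥤ D'`, a class `K` of compacts of `D` and a class `T` of tests in `D'`,
`Good F` says that `Hom(t, L F)` is the filtered colimit of `Hom(t, L R)` over maps `R ⟶ F` from `K`.
-/

set_option autoImplicit false
set_option linter.style.haveILetI false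
set_option linter.unusedSectionVars false

universe v w w' u u'

open CategoryTheory CategoryTheory.Limits CategoryTheory.Pretriangulated ZeroObject
open Groth.Agent.H16Derived.QCohD

namespace Groth.Agent.H16Derived.Thomason

variable {D : Type u} [Category.{w} D] [Preadditive D] [HasZeroObject D] [HasShift D ℤ]
  [∀ n : ℤ, (shiftFunctor D n).Additive] [Pretriangulated D]
  {D' : Type u'} [Category.{w'} D'] [Preadditive D'] [HasZeroObject D'] [HasShift D' ℤ]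
  [∀ n : ℤ, (shiftFunctor D' n).Additive] [Pretriangulated D']
  (L : D ⥤ D') [L.CommShift ℤ] [L.IsTriangulated] (K : D → Prop) (T : D' → Prop)

/-- The colimit comparison is bijective at `F`. -/
structure Good (F : D) : Prop where
  surj : ∀ (t : D') (_ : T t) (x : t ⟶ L.obj F),
    ∃ (R : D) (_ : K R) (β : R ⟶ F) (x' : t ⟶ L.obj R), x' ≫ L.map β = x
  inj : ∀ (t : D') (_ : T t) (R : D) (_ : K R) (β : R ⟶ F) (x' : t ⟶ L.obj R), x' ≫ L.map β = 0 →
    ∃ (R' : D) (_ : K R') (a : R ⟶ R') (β' : R' ⟶ F), a ≫ β' = β ∧ x' ≫ L.map a = 0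

/-- Closure properties of the stages. -/
structure Stages : Prop where
  zero : ∀ {X : D}, IsZero X → K X
  of_iso : ∀ {X Y : D}, (X ≅ Y) → K X → K Y
  cone : ∀ Tr : Triangle D, Tr ∈ distTriang D → K Tr.obj₁ → K Tr.obj₂ → K Tr.obj₃
  fib : ∀ Tr : Triangle D, Tr ∈ distTriang D → K Tr.obj₂ → K Tr.obj₃ → K Tr.obj₁
  sum₂ : ∀ (X Y : D) [HasBinaryBiproduct X Y], K X → K Y → K (X ⊞ Y)

variable {L K T}

theorem Good.of_iso {F G : D} (e : F ≅ G) (h : Good L K T F) : Good L K T G where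
  surj t ht x := by
    obtain ⟨R, hR, β, x', hx⟩ := h.surj t ht (x ≫ L.map e.inv)
    exact ⟨R, hR, β ≫ e.hom, x', by rw [L.map_comp, reassoc_of% hx, ← L.map_comp, e.inv_hom_id,
      CategoryTheory.Functor.map_id, Category.comp_id]⟩
  inj t ht R hR β x' hx := by
    obtain ⟨R', hR', a, β', h1, h2⟩ := h.inj t ht R hR (β ≫ e.inv) x'
      (by rw [L.map_comp, reassoc_of% hx, zero_comp])
    exact ⟨R', hR', a, β' ≫ e.hom, by rw [reassoc_of% h1, e.inv_hom_id, Category.comp_id], h2⟩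

theorem Good.of_stage {F : D} (hF : K F) : Good L K T F where
  surj _ _ x := ⟨F, hF, 𝟙 F, x, by simp⟩
  inj _ _ _ _ β x' hx := ⟨F, hF, β, 𝟙 F, Category.comp_id _, hx⟩

variable (hK : Stages K) [HasBinaryBiproducts D] [HasBinaryBiproducts D']
include hK

theorem Good.ext₂ {Tr : Triangle D} (hTr : Tr ∈ distTriang D) (hA : Good L K T Tr.obj₁)
    (hC : Good L K T Tr.obj₃) (hA' : Good L K T (Tr.obj₁⟦(1 : ℤ)⟧))
    (hC' : Good L K T (Tr.obj₃⟦(-1 : ℤ)⟧)) : Good L K T Tr.obj₂ where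
  surj t ht x := by
    obtain ⟨R, hR, β, x', hx⟩ := hC.surj t ht (x ≫ L.map Tr.mor₂)
    obtain ⟨R₁, hR₁, a, β₁, h1, h2⟩ := hA'.inj t ht R hR (β ≫ Tr.mor₃) x' (by
      rw [L.map_comp, reassoc_of% hx, ← L.map_comp]
      erw [comp_distTriang_mor_zero₂₃ _ hTr]
      rw [L.map_zero, comp_zero])
    obtain ⟨R₂, u, w, hu⟩ := distinguished_cocone_triangle₁ a
    obtain ⟨x₂, hx₂⟩ := Triangle.coyoneda_exact₂ _ (L.map_distinguished _ hu) x' h2
    change t ⟶ L.obj R₂ at x₂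
    change x' = x₂ ≫ L.map u at hx₂
    have hR₂ : K R₂ := hK.fib _ hu hR hR₁
    obtain ⟨b, hb⟩ := Triangle.coyoneda_exact₃ _ hTr (u ≫ β) (by
      rw [Category.assoc, ← h1]
      have hua : u ≫ a = 0 := comp_distTriang_mor_zero₁₂ _ hu
      rw [reassoc_of% hua, zero_comp])
    change R₂ ⟶ Tr.obj₂ at b
    change u ≫ β = b ≫ Tr.mor₂ at hb
    obtain ⟨z, hz⟩ := Triangle.coyoneda_exact₂ _ (L.map_distinguished _ hTr) (x - x₂ ≫ L.map b) (by
      show (x - x₂ ≫ L.map b) ≫ L.map Tr.mor₂ = 0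
      rw [Preadditive.sub_comp, Category.assoc, ← L.map_comp, ← hb, L.map_comp, ← Category.assoc,
        ← hx₂, hx, sub_self])
    change t ⟶ L.obj Tr.obj₁ at z
    change x - x₂ ≫ L.map b = z ≫ L.map Tr.mor₁ at hz
    obtain ⟨R₃, hR₃, β₃, z', hz'⟩ := hA.surj t ht z
    refine ⟨R₂ ⊞ R₃, hK.sum₂ _ _ hR₂ hR₃, biprod.desc b (β₃ ≫ Tr.mor₁),
      x₂ ≫ L.map biprod.inl + z' ≫ L.map biprod.inr, ?_⟩
    rw [Preadditive.add_comp, Category.assoc, Category.assoc, ← L.map_comp, ← L.map_comp,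
      biprod.inl_desc, biprod.inr_desc, L.map_comp, reassoc_of% hz', ← hz]
    abel
  inj t ht R hR β x' hx := by
    obtain ⟨R₁, hR₁, a, β₁, h1, h2⟩ := hC.inj t ht R hR (β ≫ Tr.mor₂) x'
      (by rw [L.map_comp, reassoc_of% hx, zero_comp])
    obtain ⟨R₂, u, w, hu⟩ := distinguished_cocone_triangle₁ a
    obtain ⟨x₂, hx₂⟩ := Triangle.coyoneda_exact₂ _ (L.map_distinguished _ hu) x' h2
    change t ⟶ L.obj R₂ at x₂
    change x' = x₂ ≫ L.map u at hx₂
    have hR₂ : K R₂ := hK.fib _ hu hR hR₁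
    obtain ⟨b, hb⟩ := Triangle.coyoneda_exact₂ _ hTr (u ≫ β) (by
      rw [Category.assoc, ← h1]
      have hua : u ≫ a = 0 := comp_distTriang_mor_zero₁₂ _ hu
      rw [reassoc_of% hua, zero_comp])
    change R₂ ⟶ Tr.obj₁ at b
    change u ≫ β = b ≫ Tr.mor₁ at hb
    have hT' := inv_rot_of_distTriang _ hTr
    obtain ⟨z, hz⟩ := Triangle.coyoneda_exact₂ _ (L.map_distinguished _ hT') (x₂ ≫ L.map b) (by
      show (x₂ ≫ L.map b) ≫ L.map Tr.mor₁ = 0
      rw [Category.assoc, ← L.map_comp, ← hb, L.map_comp, ← Category.assoc, ← hx₂, hx])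
    change t ⟶ L.obj (Tr.obj₃⟦(-1 : ℤ)⟧) at z
    let d : Tr.obj₃⟦(-1 : ℤ)⟧ ⟶ Tr.obj₁ := Tr.invRotate.mor₁
    change x₂ ≫ L.map b = z ≫ L.map d at hz
    have hd : d ≫ Tr.mor₁ = 0 := comp_distTriang_mor_zero₁₂ _ hT'
    obtain ⟨R₃, hR₃, β₃, z', hz'⟩ := hC'.surj t ht z
    let y : t ⟶ L.obj (R₂ ⊞ R₃) := x₂ ≫ L.map biprod.inl - z' ≫ L.map biprod.inr
    obtain ⟨R₄, hR₄, a₄, β₄, h4, h5⟩ := hA.inj t ht (R₂ ⊞ R₃)
      (hK.sum₂ _ _ hR₂ hR₃) (biprod.desc b (β₃ ≫ d)) y (by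
        simp only [y, Preadditive.sub_comp, Category.assoc]
        rw [← L.map_comp, ← L.map_comp, biprod.inl_desc, biprod.inr_desc, L.map_comp, reassoc_of% hz',
          hz, sub_self])
    let φ : R₂ ⊞ R₃ ⟶ R ⊞ R₄ := biprod.desc u 0 ≫ biprod.inl - a₄ ≫ biprod.inr
    obtain ⟨R₅, c, e, hc⟩ := distinguished_cocone_triangle φ
    obtain ⟨β₅, hβ₅⟩ := Triangle.yoneda_exact₂ _ hc (biprod.desc β (β₄ ≫ Tr.mor₁)) (by
      show φ ≫ _ = 0
      simp only [φ, Preadditive.sub_comp, Category.assoc, biprod.inl_desc, biprod.inr_desc]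
      rw [reassoc_of% h4]
      apply biprod.hom_ext'
      · simp [hb]
      · simp [hd])
    change biprod.desc β (β₄ ≫ Tr.mor₁) = c ≫ β₅ at hβ₅
    refine ⟨R₅, hK.cone _ hc (hK.sum₂ _ _ hR₂ hR₃) (hK.sum₂ _ _ hR hR₄),
      biprod.inl ≫ c, β₅, by rw [Category.assoc, ← hβ₅, biprod.inl_desc], ?_⟩
    have hy : y ≫ L.map φ = x' ≫ L.map biprod.inl := by
      simp only [φ, Functor.map_sub, Preadditive.comp_sub]
      rw [L.map_comp a₄, reassoc_of% h5, zero_comp, sub_zero]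
      simp only [y, Preadditive.sub_comp, Category.assoc, ← L.map_comp, biprod.inl_desc_assoc,
        biprod.inr_desc_assoc, zero_comp, L.map_zero, comp_zero, sub_zero]
      rw [L.map_comp, ← Category.assoc, ← hx₂]
    have hφc : φ ≫ c = 0 := comp_distTriang_mor_zero₁₂ _ hc
    rw [L.map_comp, ← reassoc_of% hy, ← L.map_comp, hφc, L.map_zero, comp_zero]

variable [HasCoproducts.{v} D] [HasCoproducts.{v} D']

theorem Good.sigma [∀ κ : Type v, PreservesColimitsOfShape (Discrete κ) L]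
    (P : D → Prop) (P' : D' → Prop) (hP : ∀ X, P X → P' (L.obj X))
    (hcomp : ∀ R, K R → FinSupp.Holds.{v} P R) (hcomp' : ∀ t, T t → FinSupp.Holds.{v} P' t)
    (κ : Type v) (X : κ → D) (hPX : ∀ k, P (X k)) (h : ∀ k, Good L K T (X k)) :
    Good L K T (∐ X) where
  surj t ht x := by
    classical
    haveI : IsIso (sigmaComparison L X) := by
      rw [← PreservesCoproduct.inv_hom]
      infer_instance
    let x₀ : t ⟶ ∐ fun k => L.obj (X k) := x ≫ inv (sigmaComparison L X)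
    obtain ⟨s, hs⟩ := hcomp' t ht κ _ (fun k => hP _ (hPX k)) x₀
    have hx : x = x₀ ≫ sigmaComparison L X := by simp [x₀]
    rw [hx, eq_sum_ι _ x₀ s hs, Preadditive.sum_comp]
    clear_value x₀
    clear hx hs
    induction s using Finset.induction_on with
    | empty => exact ⟨0, hK.zero (isZero_zero D), 0, 0, by simp⟩
    | @insert k s hk ih =>
      obtain ⟨R, hR, β, x', hx'⟩ := ih
      obtain ⟨R₁, hR₁, β₁, x₁, hx₁⟩ := (h k).surj t ht (x₀ ≫ FinSupp.proj _ k)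
      refine ⟨R₁ ⊞ R, hK.sum₂ _ _ hR₁ hR, biprod.desc (β₁ ≫ Sigma.ι X k) β,
        x₁ ≫ L.map biprod.inl + x' ≫ L.map biprod.inr, ?_⟩
      rw [Finset.sum_insert hk, Preadditive.add_comp, Category.assoc, Category.assoc, ← L.map_comp,
        ← L.map_comp, biprod.inl_desc, biprod.inr_desc, hx', L.map_comp, reassoc_of% hx₁,
        Category.assoc, Category.assoc, ι_comp_sigmaComparison]
  inj t ht R hR β x' hx := by
    classical
    obtain ⟨s, hs⟩ := hcomp R hR κ X hPX β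
    have hk0 : ∀ k, x' ≫ L.map (β ≫ FinSupp.proj X k) = 0 := fun k => by
      rw [L.map_comp, reassoc_of% hx, zero_comp]
    rw [eq_sum_ι X β s hs]
    clear hs
    induction s using Finset.induction_on with
    | empty => exact ⟨0, hK.zero (isZero_zero D), 0, 0, by simp, by simp⟩
    | @insert k s hk ih =>
      obtain ⟨R', hR', a, β', h1, h2⟩ := ih
      obtain ⟨R₁, hR₁, a₁, β₁, h3, h4⟩ := (h k).inj t ht R hR _ x' (hk0 k)
      refine ⟨R₁ ⊞ R', hK.sum₂ _ _ hR₁ hR', a₁ ≫ biprod.inl + a ≫ biprod.inr,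
        biprod.desc (β₁ ≫ Sigma.ι X k) β', ?_, ?_⟩
      · rw [Finset.sum_insert hk, Preadditive.add_comp, Category.assoc, Category.assoc, biprod.inl_desc,
          biprod.inr_desc, h1, reassoc_of% h3, Category.assoc]
      · rw [L.map_add, Preadditive.comp_add, L.map_comp, L.map_comp, reassoc_of% h4,
          reassoc_of% h2, zero_comp, zero_comp, add_zero]

/-- Shift-stable version. -/
theorem good_of_generated [∀ κ : Type v, PreservesColimitsOfShape (Discrete κ) L]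
    {ι : Type v} (σ : ι → D) [∀ (i : ι) (Y : D), Small.{v} (σ i ⟶ Y)]
    {P : D → Prop} (P' : D' → Prop) (hP : Loc.{v} P) (hPs : ∀ X (n : ℤ), P X → P (X⟦n⟧))
    (hPL : ∀ X, P X → P' (L.obj X))
    (hcomp : ∀ R, K R → FinSupp.Holds.{v} P R) (hcomp' : ∀ t, T t → FinSupp.Holds.{v} P' t)
    (hσK : ∀ i, K (σ i)) (hKs : ∀ X (n : ℤ), K X → K (X⟦n⟧)) (hKP : ∀ X, K X → P X)
    (hshift : ∀ i (k : ℤ), ∃ j, Nonempty (σ j ≅ (σ i)⟦k⟧))
    (hgen : ∀ Y, P Y → (∀ i (f : σ i ⟶ Y), f = 0) → IsZero Y)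
    {E : D} (hE : P E) : Good L K T E := by
  let Q : D → Prop := fun X => P X ∧ ∀ n : ℤ, Good L K T (X⟦n⟧)
  have hQ : Loc.{v} Q := by
    refine ⟨fun e h => ⟨hP.of_iso e h.1, fun n => Good.of_iso ((shiftFunctor D n).mapIso e) (h.2 n)⟩,
      fun κ X h => ⟨hP.sum κ X fun k => (h k).1, fun n => ?_⟩,
      fun Tr hTr h₁ h₂ => ⟨hP.cone Tr hTr h₁.1 h₂.1, fun n => ?_⟩⟩
    · refine Good.of_iso (PreservesCoproduct.iso (shiftFunctor D n) X).symm ?_
      exact Good.sigma hK P P' hPL hcomp hcomp' κ _ (fun k => hPs _ n (h k).1) fun k => (h k).2 n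
    · let Tr' := (Triangle.shiftFunctor D n).obj Tr.rotate
      have hd : Tr' ∈ distTriang D :=
        Triangle.shift_distinguished _ (rot_of_distTriang _ hTr) n
      refine Good.ext₂ hK hd ?_ ?_ ?_ ?_
      · exact h₂.2 n
      · exact Good.of_iso ((shiftFunctorAdd D (1 : ℤ) n).app Tr.obj₁) (h₁.2 (1 + n))
      · exact Good.of_iso ((shiftFunctorAdd D n (1 : ℤ)).app Tr.obj₂) (h₂.2 (n + 1))
      · exact Good.of_iso ((shiftFunctorAdd D (1 + n) (-1)).app Tr.obj₁ ≪≫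
          (shiftFunctor D (-1 : ℤ)).mapIso ((shiftFunctorAdd D (1 : ℤ) n).app Tr.obj₁)) (h₁.2 (1 + n + -1))
  have hQσ : ∀ i, Q (σ i) := fun i => ⟨hKP _ (hσK i), fun n => Good.of_stage (hKs _ n (hσK i))⟩
  exact Good.of_iso ((shiftFunctorZero D ℤ).app E)
    ((induction σ P hP (fun i => hKP _ (hσK i)) (fun i => hcomp _ (hσK i)) hshift hgen hQ hQσ hE).2 0)

end Groth.Agent.H16Derived.Thomason
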