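import Groth.Agent.H16Derived.Thomason.Approx
import Groth.Agent.H16Derived.Thomason.KoszulOrth
import Groth.Agent.H16Derived.BaseChange.FinitePC
import Groth.Agent.H16Derived.QCoprod
import Groth.Agent.H26Tor.Exact
import Groth.Agent.S1034
import Mathlib.CategoryTheory.Limits.Constructions.EventuallyConstant

/-!
# Pseudo-coherent objects as homotopy colimits of perfect objects
-/

set_option autoImplicit false
set_option linter.style.haveILetI false

universe v u

open CategoryTheory CategoryTheory.Limits CategoryTheory.Pretriangulated AlgebraicGeometry ZeroObject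

attribute [local instance] HasDerivedCategory.standard

namespace Groth.Agent.H16Derived.Thomason

open Groth.Agent.H16Derived.KFlat Groth.Agent.H16Derived.KFlat.Stalk

/-- Homology commutes with direct sums in the derived category of a Grothendieck category. -/
theorem preservesColimitsOfShape_hd {A : Type u} [Category.{v} A] [Abelian A] [IsGrothendieckAbelian.{v} A]
    (ι : Type v) (n : ℤ) :
    PreservesColimitsOfShape (Discrete ι) (DerivedCategory.homologyFunctor A n) := by
  haveI : AB5OfSize.{v, v} A := inferInstance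
  haveI : HasFiniteBiproducts A := Abelian.hasFiniteBiproducts
  haveI : AB4OfSize.{v} A := AB4.of_AB5 A
  haveI : HasExactColimitsOfShape (Discrete ι) A := AB4OfSize.ofShape ι
  haveI := QCoprod.preservesColimitsOfShape_Q (A := A) ι
  let Q := DerivedCategory.Q (C := A)
  let H := DerivedCategory.homologyFunctor A n
  haveI : PreservesColimitsOfShape (Discrete ι) (HomologicalComplex.homologyFunctor A (ComplexShape.up ℤ) n) := by
    haveI : ∀ i, PreservesColimitsOfShape (Discrete ι)
        ((𝟭 (CochainComplex A ℤ)) ⋙ HomologicalComplex.eval A (ComplexShape.up ℤ) i) := fun i =>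
      inferInstanceAs (PreservesColimitsOfShape (Discrete ι) (HomologicalComplex.eval A (ComplexShape.up ℤ) i))
    haveI := H26Tor.preservesColimitsOfShape_homology (J := Discrete ι) (𝟭 (CochainComplex A ℤ)) n
    exact preservesColimitsOfShape_of_natIso
      (Functor.leftUnitor (HomologicalComplex.homologyFunctor A (ComplexShape.up ℤ) n))
  haveI : PreservesColimitsOfShape (Discrete ι) (Q ⋙ H) :=
    preservesColimitsOfShape_of_natIso (DerivedCategory.homologyFunctorFactors A n).symm
  refine ⟨fun {F} => ?_⟩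
  let L := Discrete.functor fun i => Q.objPreimage (F.obj ⟨i⟩)
  haveI : PreservesColimit (L ⋙ Q) H :=
    preservesColimit_of_preserves_colimit_cocone (isColimitOfPreserves Q (colimit.isColimit L))
      (isColimitOfPreserves (Q ⋙ H) (colimit.isColimit L))
  let e : L ⋙ Q ≅ F := Discrete.natIso fun i => Q.objObjPreimageIso (F.obj i)
  exact preservesColimit_of_iso_diagram H e

variable {X : Scheme.{u}}

theorem preservesColimitsOfShape_hd_nat (n : ℤ) :
    PreservesColimitsOfShape (Discrete ℕ) (DerivedCategory.homologyFunctor X.Modules n) := by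
  haveI := preservesColimitsOfShape_hd (A := X.Modules) (ULift.{u} ℕ) n
  exact preservesColimitsOfShape_of_equiv (Discrete.equivalence Equiv.ulift) _

/-- An approximation of stage `n`. -/
structure Stage (T : Set X) (K : DCoh.D X) (n : ℕ) where
  P : DCoh.D X
  C : DCoh.D X
  α : P ⟶ K
  p : K ⟶ C
  w : C ⟶ P⟦(1 : ℤ)⟧
  dist : Triangle.mk α p w ∈ distTriang (DCoh.D X)
  perf : PK T P
  le : C.IsLE (-(n : ℤ) - 2)

variable [CompactSpace X] [QuasiSeparatedSpace X]

theorem exists_stage_seq {T : Set X} (hT : IsClosed T) (hTc : IsCompact Tᶜ) {K : DCoh.D X}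
    (hpc : ∀ m : ℤ, DCoh.IsPseudoCoherentD m K) (hK : SuppIn T K) :
    ∃ (E : ℕ → DCoh.D X) (f : ∀ n, E n ⟶ E (n + 1)) (i : ∀ n, E n ⟶ K),
      (∀ n, PK T (E n)) ∧ (∀ n, f n ≫ i (n + 1) = i n) ∧
        ∀ (n : ℕ) (j : ℤ), -(n : ℤ) ≤ j → IsIso ((DerivedCategory.homologyFunctor X.Modules j).map (i n)) := by
  obtain ⟨r, hr⟩ := exists_hasAppr T hT hTc
  have hq := BaseChange.isQCohD_of_pc hpc
  obtain ⟨s₀⟩ : Nonempty (Stage T K 0) := by
    obtain ⟨P, C, α, p, w, hd, hP, hle⟩ := hr (-1) K hq (hpc _) (fun i _ => hK i)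
    exact ⟨⟨P, C, α, p, w, hd, hP, by simpa using hle⟩⟩
  have step : ∀ (n : ℕ) (s : Stage T K n), ∃ (t : Stage T K (n + 1)) (f : s.P ⟶ t.P), f ≫ t.α = s.α := by
    intro n s
    have hpcC : ∀ m : ℤ, DCoh.IsPseudoCoherentD m s.C := fun m => pc_obj₃ s.dist s.perf (hpc m)
    have hsC : ∀ m : ℤ, SF T m s.C := fun m =>
      sf_obj₃ (n := m) (Tr := Triangle.mk s.α s.p s.w) hT s.dist s.perf.2 (fun i _ => hK i)
    obtain ⟨P', C', α', p', w', hd', hP', hle'⟩ :=
      hr (-(n : ℤ) - 2) s.C (BaseChange.isQCohD_of_pc hpcC) (hpcC _) (hsC _)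
    obtain ⟨P, α, w, hP⟩ := distinguished_cocone_triangle₁ (s.p ≫ p')
    have hPK : PK T P := by
      let o := Triangulated.someOctahedron rfl (rot_of_distTriang _ s.dist) (rot_of_distTriang _ hd')
        (rot_of_distTriang _ hP)
      have h1 : PK T (P⟦(1 : ℤ)⟧) :=
        (stages_pk hT).fib _ (rot_of_distTriang _ o.mem) (hP'.shift hT 1) ((s.perf.shift hT 1).shift hT 1)
      exact (stages_pk hT).of_iso ((shiftFunctorCompIsoId (DCoh.D X) (1 : ℤ) (-1) (by norm_num)).app P)
        (h1.shift hT (-1))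
    obtain ⟨f, hf⟩ := Triangle.coyoneda_exact₂ _ hP s.α (by
      show s.α ≫ s.p ≫ p' = 0
      rw [← Category.assoc, show s.α ≫ s.p = 0 from comp_distTriang_mor_zero₁₂ _ s.dist, zero_comp])
    exact ⟨⟨P, C', α, s.p ≫ p', w, hP, hPK, by
      have e : -(↑(n + 1) : ℤ) - 2 = -(n : ℤ) - 2 - 1 := by push_cast; omega
      rw [e]; exact hle'⟩, f, hf.symm⟩
  choose next f hf using step
  let S : ∀ n, Stage T K n := fun n => Nat.rec s₀ (fun n s => next n s) n
  refine ⟨fun n => (S n).P, fun n => f n (S n), fun n => (S n).α, fun n => (S n).perf,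
    fun n => hf n (S n), fun n j hj => ?_⟩
  have h : DerivedCategory.IsLE (S n).C ((-(n : ℤ) - 1) - 1) := by
    have e : -(n : ℤ) - 1 - 1 = -(n : ℤ) - 2 := by omega
    rw [e]; exact (S n).le
  exact ((approx_iff (S n).dist (-(n : ℤ) - 1)).2 h).1 j (by omega)

/-- Pseudo-coherent objects are homotopy colimits of perfect ones. -/
theorem exists_hocolim [HasColimitsOfShape (Discrete ℕ) (DCoh.D X)] {T : Set X} (hT : IsClosed T)
    (hTc : IsCompact Tᶜ) {K : DCoh.D X} (hpc : ∀ m : ℤ, DCoh.IsPseudoCoherentD m K) (hK : SuppIn T K) :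
    ∃ (E : ℕ → DCoh.D X) (f : ∀ n, E n ⟶ E (n + 1)) (i : ∀ n, E n ⟶ K),
      (∀ n, PK T (E n)) ∧ DerLim.IsHocolim E f K i ∧
      ∀ n : ℕ, IsIso (((DerivedCategory.TStructure.t :
        CategoryTheory.Triangulated.TStructure (DCoh.D X)).truncGE (-(n : ℤ))).map (i n)) := by
  obtain ⟨E, f, i, hE, hfi, hiso⟩ := exists_stage_seq hT hTc hpc hK
  refine ⟨E, f, i, hE, ?_, fun n => (isIso_truncGE_map_iff (i n) _).2 fun j hj => hiso n j hj⟩
  obtain ⟨L, d, c, hd⟩ := distinguished_cocone_triangle (𝟙 (∐ E) - DerLim.shiftMap E f)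
  let l : ∀ n, E n ⟶ L := fun n => Sigma.ι E n ≫ d
  have hdl : Sigma.desc l = d := Sigma.hom_ext _ _ fun n => Sigma.ι_desc _ _
  have hL : DerLim.IsHocolim E f L l := ⟨c, by rw [hdl]; exact hd⟩
  obtain ⟨φ, hφ⟩ := Triangle.yoneda_exact₂ _ hd (Sigma.desc i) (by
    show (𝟙 (∐ E) - DerLim.shiftMap E f) ≫ Sigma.desc i = 0
    refine Sigma.hom_ext _ _ fun n => ?_
    simp [DerLim.shiftMap, hfi])
  change L ⟶ K at φ
  change Sigma.desc i = d ≫ φ at hφ
  have hlφ : ∀ n, l n ≫ φ = i n := fun n => by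
    show (Sigma.ι E n ≫ d) ≫ φ = i n
    rw [Category.assoc, ← hφ, Sigma.ι_desc]
  haveI : IsIso φ := by
    refine (DerivedCategory.isIso_iff _ φ).2 fun j => ?_
    let H := DerivedCategory.homologyFunctor X.Modules j
    haveI := preservesColimitsOfShape_hd_nat (X := X) j
    haveI : AB5OfSize.{0, 0} X.Modules := AB5OfSize_shrink.{0, 0, u, u} _
    haveI : HasExactColimitsOfShape ℕ X.Modules := AB5OfSize.ofShape ℕ
    obtain ⟨e, he⟩ := S1034.result H E f L l hL
    let F := Functor.ofSequence (fun n => H.map (f n))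
    let N : ℕ := (-j).toNat
    have hiN : ∀ n, N ≤ n → IsIso (H.map (i n)) := fun n hn => hiso n j (by omega)
    have hsucc : ∀ n, N ≤ n → IsIso (H.map (f n)) := fun n hn => by
      haveI := hiN n hn
      haveI := hiN (n + 1) (by omega)
      haveI : IsIso (H.map (f n) ≫ H.map (i (n + 1))) := by rw [← H.map_comp, hfi]; infer_instance
      exact IsIso.of_isIso_comp_right (H.map (f n)) (H.map (i (n + 1)))
    have hconst : F.IsEventuallyConstantFrom N := by
      intro k g
      obtain ⟨hNk⟩ : Nonempty (PLift (N ≤ k)) := ⟨⟨g.le⟩⟩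
      rw [Subsingleton.elim g (homOfLE hNk.down)]
      obtain ⟨t, rfl⟩ := Nat.exists_eq_add_of_le hNk.down
      induction t with
      | zero => exact (Subsingleton.elim (𝟙 N) (homOfLE hNk.down)) ▸ inferInstanceAs (IsIso (F.map (𝟙 N)))
      | succ t ih =>
        rw [show homOfLE hNk.down = homOfLE (Nat.le_add_right N t) ≫ homOfLE (Nat.le_succ (N + t)) from
          Subsingleton.elim _ _, F.map_comp]
        haveI := ih (homOfLE (Nat.le_add_right N t)) ⟨Nat.le_add_right N t⟩
        haveI : IsIso (F.map (homOfLE (Nat.le_succ (N + t)))) := by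
          rw [show F.map (homOfLE (Nat.le_succ (N + t))) = H.map (f (N + t)) from Functor.ofSequence_map_homOfLE_succ _ _]
          exact hsucc _ (Nat.le_add_right N t)
        exact IsIso.comp_isIso
    haveI : IsIso (colimit.ι (Functor.ofSequence fun n => H.map (f n)) N) := hconst.isIso_ι_of_isColimit (colimit.isColimit F)
    haveI : IsIso (H.map (l N)) := by rw [← he N]; exact @IsIso.comp_isIso _ _ _ _ _ _ _ (by assumption) inferInstance
    haveI : IsIso (H.map (l N) ≫ H.map φ) := by rw [← H.map_comp, hlφ]; exact hiN N le_rfl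
    exact IsIso.of_isIso_comp_left (H.map (l N)) (H.map φ)
  refine ⟨inv φ ≫ c, isomorphic_distinguished _ hd _
    (Triangle.isoMk _ _ (Iso.refl _) (Iso.refl _) (asIso φ).symm ?_ ?_ ?_)⟩
  · exact (Category.comp_id _).trans (Category.id_comp _).symm
  · show Sigma.desc i ≫ inv φ = 𝟙 _ ≫ d
    rw [hφ, Category.assoc, IsIso.hom_inv_id, Category.comp_id, Category.id_comp]
  · show (inv φ ≫ c) ≫ (𝟙 (∐ E))⟦(1 : ℤ)⟧' = inv φ ≫ c
    rw [CategoryTheory.Functor.map_id]
    exact Category.comp_id _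

omit [CompactSpace X] [QuasiSeparatedSpace X] in
/-- Approximation by perfect objects gives pseudo-coherence. -/
theorem isPseudoCoherentD_of_stages {K : DCoh.D X} (E : ℕ → DCoh.D X) (i : ∀ n, E n ⟶ K)
    (hE : ∀ n, DCoh.IsPerfect (E n))
    (hi : ∀ n : ℕ, IsIso (((DerivedCategory.TStructure.t :
        CategoryTheory.Triangulated.TStructure (DCoh.D X)).truncGE (-(n : ℤ))).map (i n))) (m : ℤ) :
    DCoh.IsPseudoCoherentD m K := by
  let n : ℕ := (-m).toNat
  have h := (isIso_truncGE_map_iff (i n) _).1 (hi n)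
  obtain ⟨C, p, w, hC⟩ := distinguished_cocone_triangle (i n)
  haveI hle : DerivedCategory.IsLE C (m - 1) := (approx_iff hC m).1
    ⟨fun j hj => h j (by omega), show Epi ((DerivedCategory.homologyFunctor X.Modules m).map (i n)) from
      haveI := h m (by omega); inferInstance⟩
  haveI : DerivedCategory.IsLE (C⟦(-1 : ℤ)⟧) m :=
    DerivedCategory.TStructure.t.isLE_shift C (m - 1) (-1) m
  exact isPseudoCoherentD_obj₃ (inv_rot_of_distTriang _ hC)
    (isPseudoCoherentD_of_isLE (K := C⟦(-1 : ℤ)⟧) m (m + 1) (by omega))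
    (isPseudoCoherentD_of_isPerfect (hE n) m)

end Groth.Agent.H16Derived.Thomason
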