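import Groth.Agent.H16Derived.Thomason.Generator
import Groth.Agent.H16Derived.KFlat.SheafStalk
import Groth.Agent.H02CA.TorShBasic
import Groth.Agent.H10Coh.Local
import Groth.Prelude.Def_KLin
import Mathlib.Algebra.Homology.Linear
import Mathlib.Algebra.Homology.ShortComplex.Linear

/-!
# A function kills maps from perfect objects into objects supported on its zero locus
-/

set_option autoImplicit false
set_option linter.style.haveILetI false

universe w v u

open CategoryTheory CategoryTheory.Limits CategoryTheory.Pretriangulated AlgebraicGeometry Opposite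

attribute [local instance] HasDerivedCategory.standard

namespace Groth.Agent.H16Derived.Thomason

open Groth.Agent.H16Derived.KFlat Groth.Agent.H16Derived.KFlat.Stalk

theorem homology_map_smul_id {R : Type w} [CommRing R] {C : Type u} [Category.{v} C] [Abelian C]
    [Linear R C] [HasDerivedCategory C] (E : DerivedCategory C) (r : R) (i : ℤ) :
    (DerivedCategory.homologyFunctor C i).map (r • 𝟙 E) = r • 𝟙 ((DerivedCategory.homologyFunctor C i).obj E) := by
  let H := DerivedCategory.homologyFunctor C i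
  let K := DerivedCategory.Q.objPreimage E
  let e : DerivedCategory.Q.obj K ≅ E := DerivedCategory.Q.objObjPreimageIso E
  have h1 : H.map (r • 𝟙 (DerivedCategory.Q.obj K)) = r • 𝟙 (H.obj (DerivedCategory.Q.obj K)) := by
    let f := (DerivedCategory.homologyFunctorFactors C i).app K
    have hQ : DerivedCategory.Q.map (r • 𝟙 K) = r • 𝟙 (DerivedCategory.Q.obj K) := by
      rw [Functor.map_smul, CategoryTheory.Functor.map_id]
    have hm : (HomologicalComplex.homologyFunctor C (ComplexShape.up ℤ) i).map (r • 𝟙 K) = r • 𝟙 _ := by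
      show ShortComplex.homologyMap ((HomologicalComplex.shortComplexFunctor C (ComplexShape.up ℤ) i).map (r • 𝟙 K)) = _
      have hs : (HomologicalComplex.shortComplexFunctor C (ComplexShape.up ℤ) i).map (r • 𝟙 K) = r • 𝟙 (K.sc i) := by
        ext <;> simp <;> rfl
      rw [hs, ShortComplex.homologyMap_smul, ShortComplex.homologyMap_id]
      rfl
    have hn := (DerivedCategory.homologyFunctorFactors C i).hom.naturality (r • 𝟙 K)
    rw [Functor.comp_map, hQ, hm] at hn
    refine (cancel_mono f.hom).1 (hn.trans ?_)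
    rw [Linear.comp_smul, Linear.smul_comp, Category.comp_id]
    exact congrArg (r • ·) (Category.id_comp _).symm
  have h : r • 𝟙 E = e.inv ≫ (r • 𝟙 (DerivedCategory.Q.obj K)) ≫ e.hom := by
    rw [Linear.smul_comp, Category.id_comp, Linear.comp_smul, e.inv_hom_id]
  rw [h, H.map_comp, H.map_comp, h1, Linear.smul_comp, Category.id_comp, Linear.comp_smul, ← H.map_comp,
    e.inv_hom_id, H.map_id]

theorem smul_sq_cone {R : Type w} [CommRing R] {C : Type u} [Category.{v} C] [Preadditive C] [Linear R C]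
    [HasZeroObject C] [HasShift C ℤ] [∀ n : ℤ, (shiftFunctor C n).Additive] [Pretriangulated C]
    [∀ n : ℤ, (shiftFunctor C n).Linear R] {G K : C} (r : R) {g : G ⟶ K} {h : K ⟶ G⟦(1 : ℤ)⟧}
    (hT : Triangle.mk (r • 𝟙 G) g h ∈ distTriang C) : r ^ 2 • 𝟙 K = 0 := by
  have h2 : g ≫ (r • 𝟙 K) = 0 := by
    have h0 : (r • 𝟙 G) ≫ g = 0 := comp_distTriang_mor_zero₁₂ _ hT
    rw [Linear.smul_comp, Category.id_comp] at h0
    rw [Linear.comp_smul, Category.comp_id]
    exact h0
  obtain ⟨ψ, hψ⟩ := Triangle.yoneda_exact₃ _ hT (r • 𝟙 K) h2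
  change r • 𝟙 K = h ≫ ψ at hψ
  change G⟦(1 : ℤ)⟧ ⟶ K at ψ
  have h4 : h ≫ (r • 𝟙 (G⟦(1 : ℤ)⟧)) = 0 := by
    have h0 : h ≫ (r • 𝟙 G)⟦(1 : ℤ)⟧' = 0 := comp_distTriang_mor_zero₃₁ _ hT
    rwa [Functor.map_smul, CategoryTheory.Functor.map_id] at h0
  calc r ^ 2 • 𝟙 K = r • (h ≫ ψ) := by rw [← hψ, smul_smul, pow_two]
    _ = (h ≫ (r • 𝟙 (G⟦(1 : ℤ)⟧))) ≫ ψ := by
        rw [Linear.comp_smul, Category.comp_id, Linear.smul_comp]
    _ = 0 := by rw [h4, zero_comp]

variable {A : Type u} [CommRing A] {X : Scheme.{u}} [X.Over (Spec (CommRingCat.of A))]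

/-- The global function of `a`. -/
noncomputable abbrev gl (X : Scheme.{u}) [X.Over (Spec (CommRingCat.of A))] (a : A) : Γ(X, ⊤) :=
  Coh.toGlobal (X ↘ Spec (CommRingCat.of A)) a

theorem stalk_smul_id (M : X.Modules) (a : A) (x : X) (m : M.presheaf.stalk x) :
    (DerSch.stalkFunctor X x).map (a • 𝟙 M) m = X.presheaf.germ ⊤ x trivial (gl X a) • m := by
  obtain ⟨U, hx, s, rfl⟩ := M.presheaf.exists_germ_eq (x := x) m
  rw [DerSch.stalkFunctor_map_germ, KLin.smul_app_apply, Scheme.Modules.Hom.id_app]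
  refine (H02CA.TorShBasic.germ_smul M hx _ _).trans ?_
  exact congrArg (fun r : X.presheaf.stalk x => r • M.presheaf.germ U x hx s)
    (X.presheaf.germ_res_apply (homOfLE (le_top : U ≤ ⊤)) x hx (gl X a))

theorem isIso_stalk_smul_id (M : X.Modules) (a : A) (x : X) (hx : x ∈ X.basicOpen (gl X a)) :
    IsIso ((DerSch.stalkFunctor X x).map (a • 𝟙 M)) := by
  rw [ConcreteCategory.isIso_iff_bijective]
  have hu : IsUnit (X.presheaf.germ ⊤ x trivial (gl X a)) :=
    (X.mem_basicOpen (gl X a) x trivial).1 hx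
  have he : ⇑((DerSch.stalkFunctor X x).map (a • 𝟙 M)) =
      fun m : M.presheaf.stalk x => X.presheaf.germ ⊤ x trivial (gl X a) • m := funext (stalk_smul_id M a x)
  rw [he]
  exact hu.smul_bijective

/-- A quasi-coherent module supported on `V(a)` on which `a` is invertible is zero. -/
theorem isZero_of_isIso_smul (M : X.Modules) (hM : Coh.IsQCoh M) (a : A)
    (hsupp : CohB1.support M ⊆ ((X.basicOpen (gl X a) : Set X))ᶜ) [IsIso (a • 𝟙 M)] : IsZero M := by
  refine H17.FPExt.isZero_of_stalk M fun x => subsingleton_of_forall_eq 0 fun m => ?_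
  obtain ⟨U, hx, s, rfl⟩ := M.presheaf.exists_germ_eq (x := x) m
  obtain ⟨_, ⟨V, hV, rfl⟩, hxV, hVU⟩ := X.isBasis_affineOpens.exists_subset_of_mem_open hx U.isOpen
  refine (M.presheaf.germ_res_apply (homOfLE (show V ≤ U from hVU)) x hxV s).symm.trans ?_
  suffices key0 : ∀ t : Γ(M, V), t = 0 from
    (congrArg (M.presheaf.germ V x hxV) (key0 _)).trans (map_zero _)
  intro t
  let r : Γ(X, V) := X.presheaf.map (homOfLE (le_top : V ≤ ⊤)).op (gl X a)
  have ht : M.presheaf.map (homOfLE (X.basicOpen_le r)).op t = 0 := by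
    refine TopCat.Presheaf.section_ext (⟨M.presheaf, M.isSheaf⟩ : TopCat.Sheaf Ab X) _ _ _ fun y hy => ?_
    have hy' : y ∈ X.basicOpen (gl X a) := (Scheme.basicOpen_res X _ _).le hy |>.2
    haveI : Subsingleton (M.presheaf.stalk y) := not_not.1 fun h => hsupp h hy'
    exact Subsingleton.elim _ _
  haveI : M.IsQuasicoherent := hM
  obtain ⟨n, hn⟩ := H10Coh.exists_pow_smul_eq_zero_of_isCompact M hV.isCompact r t ht
  have hinj : Function.Injective ((a • 𝟙 M).app V) := fun p q h => by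
    have e : ∀ z, (inv (a • 𝟙 M)).app V ((a • 𝟙 M).app V z) = z := fun z => by
      rw [← ConcreteCategory.comp_apply, ← Scheme.Modules.Hom.comp_app, IsIso.hom_inv_id,
        Scheme.Modules.Hom.id_app]
      rfl
    rw [← e p, ← e q, h]
  have key : ∀ k : ℕ, r ^ k • t = 0 → t = 0 := fun k => by
    induction k with
    | zero => intro h; rwa [pow_zero, one_smul] at h
    | succ k ih =>
      intro h
      refine ih (hinj ?_)
      rw [map_zero, KLin.smul_app_apply, Scheme.Modules.Hom.id_app]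
      show r • (r ^ k • t) = 0
      rw [smul_smul, ← pow_succ', h]
  exact key n hn

attribute [local instance] hasCoproducts_D small_hom

variable [CompactSpace X] [QuasiSeparatedSpace X]

/-- The main lemma. -/
theorem exists_pow_smul_eq_zero_of_supp (a : A) {E E' : DCoh.D X} (hE : DCoh.IsPerfect E)
    (hE' : PQ ((X.basicOpen (gl X a) : Set X))ᶜ E') (α : E ⟶ E') : ∃ n : ℕ, a ^ n • α = 0 := by
  let T : Set X := ((X.basicOpen (gl X a) : Set X))ᶜ
  have hT : IsClosed T := (X.basicOpen (gl X a)).isOpen.isClosed_compl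
  let Q : DCoh.D X → Prop := fun Y => DCoh.IsQCohD Y ∧
    ∀ K : DCoh.D X, DCoh.IsPerfect K → ∀ f : K ⟶ Y, ∃ n : ℕ, a ^ n • f = 0
  obtain ⟨G, hG, hgen⟩ := hasGen (Set.univ : Set X) isClosed_univ (by simp)
  obtain ⟨C, g, h, hTr⟩ := distinguished_cocone_triangle (a • 𝟙 G)
  have hkill : a ^ 2 • 𝟙 C = 0 := smul_sq_cone a hTr
  have hsupp : SuppIn T C := fun i x hx hxD => by
    refine hx ?_
    have hex := (DerivedCategory.HomologySequence.exact₃ _ hTr i (i + 1) rfl).map (DerSch.stalkFunctor X x)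
    have hi : ∀ j : ℤ, IsIso ((DerSch.stalkFunctor X x).map
        ((DerivedCategory.homologyFunctor X.Modules j).map (a • 𝟙 G))) := fun j => by
      rw [homology_map_smul_id]
      exact isIso_stalk_smul_id _ a x hxD
    refine ModuleCat.subsingleton_of_isZero (hex.isZero_of_both_zeros ?_ ?_)
    · have hz := congrArg (DerSch.stalkFunctor X x).map
        ((DerivedCategory.homologyFunctor X.Modules i).map_comp (a • 𝟙 G) g)
      haveI := hi i
      refine (cancel_epi ((DerSch.stalkFunctor X x).map ((DerivedCategory.homologyFunctor X.Modules i).map (a • 𝟙 G)))).1 ?_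
      refine ((Functor.map_comp _ _ _).symm.trans hz.symm).trans ?_
      have h0 : (a • 𝟙 G) ≫ g = 0 := comp_distTriang_mor_zero₁₂ _ hTr
      refine (congrArg (fun f => (DerSch.stalkFunctor X x).map ((DerivedCategory.homologyFunctor X.Modules i).map f)) h0).trans ?_
      exact ((congrArg (DerSch.stalkFunctor X x).map (Functor.map_zero _ _ _)).trans (Functor.map_zero _ _ _)).trans
        comp_zero.symm
    · haveI := hi (i + 1)
      refine (cancel_mono ((DerSch.stalkFunctor X x).map ((DerivedCategory.homologyFunctor X.Modules (i + 1)).map (a • 𝟙 G)))).1 ?_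
      have h0 := DerivedCategory.HomologySequence.δ_comp _ hTr i (i + 1) rfl
      refine (Functor.map_comp _ _ _).symm.trans ((congrArg (DerSch.stalkFunctor X x).map h0).trans ?_)
      exact (Functor.map_zero _ _ _).trans zero_comp.symm
  have hC : PK T C := ⟨isPerfect_obj₃ hTr hG.1 hG.1, hsupp⟩
  have hgenC : ∀ Y, PQ T Y → (∀ (n : ℤ) (f : C⟦n⟧ ⟶ Y), f = 0) → IsZero Y := fun Y hY ho => by
    obtain ⟨Z, p, q, hZ⟩ := distinguished_cocone_triangle (a • 𝟙 Y)
    have hb : ∀ m : ℤ, Function.Bijective fun f : G ⟶ Y⟦m⟧ => a • f := fun m => by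
      have hC0 : ∀ φ : C ⟶ Y⟦m⟧, φ = 0 := (orth_iff C Y).2 ho m
      refine ⟨fun f f' hff => ?_, fun f => ?_⟩
      · have : a • (f - f') = 0 := by rw [smul_sub]; exact sub_eq_zero.2 hff
        obtain ⟨χ, hχ⟩ := Triangle.yoneda_exact₂ _ hTr (f - f')
          (((Linear.smul_comp (R := A) _ _ _ _ _ _).trans (congrArg (a • ·) (Category.id_comp _))).trans this)
        exact sub_eq_zero.1 (hχ.trans ((congrArg (_ ≫ ·) (hC0 χ)).trans comp_zero))
      · let c := shiftFunctorCompIsoId (DCoh.D X) (-1 : ℤ) 1 (by norm_num)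
        obtain ⟨ψ, hψ⟩ := Triangle.yoneda_exact₂ _ (inv_rot_of_distTriang _ hTr) f (by
          have hm : ∀ φ : C⟦(-1 : ℤ)⟧ ⟶ Y⟦m⟧, φ = 0 := fun φ => by
            have h1 : φ⟦(1 : ℤ)⟧' = 0 := (cancel_epi (c.inv.app C)).1
              (((cancel_mono ((shiftFunctorAdd' (DCoh.D X) m 1 (m + 1) rfl).inv.app Y)).1
                (((orth_iff C Y).2 ho (m + 1) _).trans zero_comp.symm)).trans comp_zero.symm)
            exact (shiftFunctor (DCoh.D X) (1 : ℤ)).map_eq_zero_iff.1 h1
          exact hm _)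
        exact ⟨ψ, ((hψ.trans (Linear.smul_comp (R := A) _ _ _ _ _ _)).trans
          (congrArg (a • ·) (Category.id_comp _))).symm⟩
    have hZ0 : IsZero Z := by
      refine hgen Z ⟨QCohD.AffineUnit.isQCohD_obj₃ hZ hY.1 hY.1, suppIn_univ Z⟩ ((orth_iff G Z).1 fun n φ => ?_)
      have hsh := Triangle.shift_distinguished _ hZ n
      have hmor : ∀ k : ℤ, ((a • 𝟙 Y)⟦k⟧' : Y⟦k⟧ ⟶ Y⟦k⟧) = a • 𝟙 _ := fun k => by
        rw [Functor.map_smul, CategoryTheory.Functor.map_id]
      obtain ⟨s, hs⟩ : ∃ s : G ⟶ Y⟦n⟧, φ = n.negOnePow • (s ≫ p⟦n⟧') := by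
        have h3 : φ ≫ ((Triangle.shiftFunctor _ n).obj (Triangle.mk (a • 𝟙 Y) p q)).mor₃ = 0 := by
          let t3 := φ ≫ ((Triangle.shiftFunctor _ n).obj (Triangle.mk (a • 𝟙 Y) p q)).mor₃
          change G ⟶ (Y⟦n⟧)⟦(1 : ℤ)⟧ at t3
          let i' := (shiftFunctorAdd' (DCoh.D X) n 1 (n + 1) rfl).app Y
          have h31 := comp_distTriang_mor_zero₃₁ _ hsh
          have ht : t3 ≫ (n.negOnePow • (a • 𝟙 Y)⟦n⟧')⟦(1 : ℤ)⟧' = 0 :=
            (Category.assoc _ _ _).trans ((congrArg (φ ≫ ·) h31).trans comp_zero)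
          rw [hmor, Units.smul_def, Functor.map_zsmul, Functor.map_smul, CategoryTheory.Functor.map_id,
            Preadditive.comp_zsmul, Linear.comp_smul, Category.comp_id] at ht
          have ha : a • t3 = 0 := (smul_eq_zero_iff_eq n.negOnePow).1 ht
          show t3 = 0
          refine (cancel_mono i'.inv).1 ((hb (n + 1)).1 ?_)
          show a • (t3 ≫ i'.inv) = a • (0 ≫ i'.inv)
          rw [zero_comp, smul_zero, ← Linear.smul_comp, ha, zero_comp]
        obtain ⟨s, hs⟩ := Triangle.coyoneda_exact₃ _ hsh φ h3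
        exact ⟨s, hs.trans (Linear.comp_units_smul _ _ _)⟩
      obtain ⟨s', hs'⟩ := (hb n).2 s
      have hap : (a • 𝟙 Y) ≫ p = 0 := comp_distTriang_mor_zero₁₂ _ hZ
      have h0 : s ≫ p⟦n⟧' = 0 := by
        have h := congrArg (fun f : Y ⟶ Z => s' ≫ f⟦n⟧') hap
        simp only [Functor.map_comp, Functor.map_zero, comp_zero, hmor, ← Category.assoc, Linear.comp_smul,
          Category.comp_id] at h
        rw [← hs']
        exact h
      rw [hs, h0, smul_zero]
    haveI : IsIso (a • 𝟙 Y) := (Triangle.isZero₃_iff_isIso₁ _ hZ).1 hZ0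
    refine MVPush.isZero_of_hd Y fun i => ?_
    haveI : IsIso (a • 𝟙 (DCoh.HD Y i)) := by
      rw [← homology_map_smul_id]; infer_instance
    exact isZero_of_isIso_smul _ (hY.1 i) a (hY.2 i)
  have hQ : Loc.{u} Q :=
    { of_iso := fun e h => ⟨QCohD.isQCohD_iso e h.1, fun K hK f => by
        obtain ⟨n, hn⟩ := h.2 K hK (f ≫ e.inv)
        exact ⟨n, (cancel_mono e.inv).1 (by rw [Linear.smul_comp, hn, zero_comp])⟩⟩
      sum := fun κ Y h => ⟨S1040.result X Y fun k => (h k).1, fun K hK f => by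
        classical
        obtain ⟨s, hs⟩ := holds_of_isPerfect (P := fun L => DCoh.IsQCohD L) (fun _ h => h) hK κ Y
          (fun k => (h k).1) f
        choose n hn using fun k => (h k).2 K hK (f ≫ QCohD.FinSupp.proj Y k)
        refine ⟨s.sup n, ?_⟩
        rw [eq_sum_ι Y f s hs, Finset.smul_sum]
        refine Finset.sum_eq_zero fun k hk => ?_
        rw [← Linear.smul_comp, ← Nat.sub_add_cancel (Finset.le_sup (f := n) hk), pow_add, mul_smul, hn,
          smul_zero, zero_comp]⟩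
      cone := fun Tr hTr h₁ h₂ => ⟨QCohD.AffineUnit.isQCohD_obj₃ hTr h₁.1 h₂.1, fun K hK f => by
        obtain ⟨n, hn⟩ := h₁.2 (K⟦(-1 : ℤ)⟧) (isPerfect_shift hK (-1))
          ((f ≫ Tr.mor₃)⟦(-1 : ℤ)⟧' ≫ (shiftFunctorCompIsoId (DCoh.D X) (1 : ℤ) (-1) (by norm_num)).hom.app _)
        have hn' : a ^ n • (f ≫ Tr.mor₃) = 0 := by
          refine (shiftFunctor (DCoh.D X) (-1 : ℤ)).map_injective ?_
          rw [Functor.map_zero, Functor.map_smul]
          exact (cancel_mono ((shiftFunctorCompIsoId (DCoh.D X) (1 : ℤ) (-1) (by norm_num)).hom.app _)).1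
            (((Linear.smul_comp (R := A) _ _ _ _ _ _).trans hn).trans zero_comp.symm)
        obtain ⟨s, hs⟩ := Triangle.coyoneda_exact₃ _ hTr (a ^ n • f) ((Linear.smul_comp (R := A) _ _ _ _ _ _).trans hn')
        obtain ⟨m, hm⟩ := h₂.2 K hK s
        exact ⟨m + n, by rw [pow_add, mul_smul, hs, ← Linear.smul_comp, hm, zero_comp]⟩⟩ }
  have hQC : ∀ k : ULift.{u} ℤ, Q (C⟦k.down⟧) := fun k => ⟨(hC.shift hT k.down).pq.1, fun K hK f => ⟨2, by
    rw [← Category.comp_id f, ← Linear.comp_smul]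
    have : a ^ 2 • 𝟙 (C⟦k.down⟧) = 0 := by
      rw [← CategoryTheory.Functor.map_id, ← Functor.map_smul, hkill, Functor.map_zero]
    rw [this, comp_zero]⟩⟩
  exact induction (fun k : ULift.{u} ℤ => C⟦k.down⟧) (PQ T) (loc_pq hT) (fun k => (hC.shift hT k.down).pq)
    (fun k => holds_of_isPerfect (fun _ h => h.1) (hC.shift hT k.down).1)
    (fun k n => ⟨⟨k.down + n⟩, ⟨(shiftFunctorAdd (DCoh.D X) k.down n).app C⟩⟩)
    (fun Y hY h => hgenC Y hY fun n f => h ⟨n⟩ f) hQ hQC hE' |>.2 E hE α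

end Groth.Agent.H16Derived.Thomason
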